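import Cfsg.Agent.Lib.Helper15.BG13CDefs
import Cfsg.Agent.Lib.Helper15.BG13a
import Cfsg.Agent.Lib.Helper3.BG12a
import Cfsg.Agent.Lib.Helper3.BG12f
import Cfsg.Agent.Lib.Helper3.U95M
import Cfsg.Agent.Lib.Helper78.BG12P16D
import Cfsg.Agent.S1414
import Cfsg.Agent.S1416
import Cfsg.Agent.S1417

/-!
# B&G Corollary 13.3(b) (row S1428): piece C-BETAD (helper14, for helper15)

`betaD : F0Stmt G → Frat3Stmt G → BetaDStmt G`.
-/

set_option autoImplicit false

open Cfsg Cfsg.Agent.Lib.Helper32 Cfsg.Agent.Lib.Helper32.BG10 Cfsg.Agent.Lib.Helper3.BG12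

namespace Cfsg.Agent.Lib.Helper15.BG13C

universe u

variable {G : Type u} [Group G] [Finite G]

/-- in a cyclic subgroup, a subgroup of prime order `q` lies in every subgroup of order
divisible by `q` -/
private theorem betaD_le_of_cyclic {q : ℕ} [Fact q.Prime] {S X T : Subgroup G}
    (hc : IsCyclic ↥S) (hXS : X ≤ S) (hTS : T ≤ S) (hX : Nat.card X = q)
    (hT : q ∣ Nat.card T) : X ≤ T := by
  have hq : q.Prime := Fact.out
  have hΩ := Cfsg.Agent.Lib.Helper15.BG13.card_closure_pow_dvd hc q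
  have hΩle : Nat.card ↥(Subgroup.closure {x : G | x ∈ S ∧ x ^ q = 1}) ≤ q :=
    Nat.le_of_dvd hq.pos hΩ
  have hXΩ : X ≤ Subgroup.closure {x : G | x ∈ S ∧ x ^ q = 1} := by
    intro x hx
    refine Subgroup.subset_closure ⟨hXS hx, ?_⟩
    have h1 : (⟨x, hx⟩ : ↥X) ^ Nat.card ↥X = 1 := pow_card_eq_one'
    rw [hX] at h1
    have h2 := congrArg Subtype.val h1
    simpa using h2
  have hXeq : X = Subgroup.closure {x : G | x ∈ S ∧ x ^ q = 1} :=
    Subgroup.eq_of_le_of_card_ge hXΩ (by rw [hX]; exact hΩle)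
  obtain ⟨t, ht⟩ := exists_prime_orderOf_dvd_card' q hT
  have htΩ : Subgroup.zpowers (t : G) ≤ Subgroup.closure {x : G | x ∈ S ∧ x ^ q = 1} := by
    rw [Subgroup.zpowers_le]
    refine Subgroup.subset_closure ⟨hTS t.2, ?_⟩
    have h1 : t ^ q = 1 := by rw [← ht]; exact pow_orderOf_eq_one t
    have h2 := congrArg Subtype.val h1
    simpa using h2
  have hcard : Nat.card ↥(Subgroup.zpowers (t : G)) = q := by
    rw [Nat.card_zpowers, Subgroup.orderOf_coe, ht]
  have hteq : Subgroup.zpowers (t : G) = Subgroup.closure {x : G | x ∈ S ∧ x ^ q = 1} :=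
    Subgroup.eq_of_le_of_card_ge htΩ (by rw [hcard]; exact hΩle)
  rw [hXeq, ← hteq, Subgroup.zpowers_le]
  exact t.2

/-- `p ∈ σ(H)` divides the order of `H'` -/
private theorem betaD_dvd_comm (hG : IsMinSimpleOddOrder G) {H : Subgroup G} (hH : IsCoatom H)
    {p : ℕ} [Fact p.Prime] (hp : p ∈ sigma H) : p ∣ Nat.card ↥⁅H, H⁆ := by
  obtain ⟨Q, hQ⟩ := sylSet_nonempty p H
  have hQp := isPGroup_of_mem_sylSet hQ
  have h1 : Q ≤ ⁅H, H⁆ :=
    (Cfsg.Agent.Lib.Helper3.BG12S.pgroup_le_sigmaCore hG hH hp hQp hQ.1).trans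
      (Cfsg.Agent.Lib.Helper3.BG12S.sigmaCore_le_comm hG hH)
  have h2 : p ∣ Nat.card Q := by
    rw [hQ.2]
    have h3 : p ∣ Nat.card H := hp.2.1
    have h4 : (Nat.card H).factorization p ≠ 0 := by
      have := Nat.Prime.factorization_pos_of_dvd hp.1 Nat.card_pos.ne' h3
      omega
    exact dvd_pow_self p h4
  exact h2.trans (Subgroup.card_dvd_of_le h1)

omit [Finite G] in
private theorem betaD_comm_coprime [Finite G] {K M : Subgroup G} {p : ℕ} (hp : p.Prime)
    (hKM : K ≤ M) (h : ¬ p ∣ Nat.card ↥⁅M, M⁆) : (Nat.card ↥⁅K, K⁆).Coprime p := by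
  rw [Nat.coprime_comm, Nat.Prime.coprime_iff_not_dvd hp]
  intro hd
  exact h (hd.trans (Subgroup.card_dvd_of_le (Subgroup.commutator_mono hKM hKM)))

/-- the claim (3): `p ∤ |L'|` for a maximal subgroup `L ≥ N_G(X)` not conjugate to `H` -/
private theorem betaD_claim (hF0 : F0Stmt G) (hG : IsMinSimpleOddOrder G) {M H L : Subgroup G}
    (hM : IsCoatom M) (hH : IsCoatom H) (hL : IsCoatom L) {p : ℕ} [Fact p.Prime]
    (hpM : p ∈ tau1 M) (hpH : p ∈ sigma H) {q : ℕ} [Fact q.Prime] (hqM : q ∈ sigma M)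
    {P X : Subgroup G} (hPM : P ≤ M) (hPc : Nat.card P = p) (hXM : X ≤ sigmaCore M)
    (hXc : Nat.card X = q) (hNL : Subgroup.normalizer (X : Set G) ≤ L) (hPL : P ≤ L)
    (hLH : ∀ g : G, L ≠ cj g H) : ¬ p ∣ Nat.card ↥⁅L, L⁆ := by
  have hp : p.Prime := Fact.out
  have hq : q.Prime := Fact.out
  by_cases hLM : L = M
  · rw [hLM]
    exact hpM.2.2.2.1
  have h14 : H14 G := fun M hM => Cfsg.Agent.S1414.result hG M hM
  have h16 : H16 G := fun M hM p _ A hA => Cfsg.Agent.S1416.result hG M hM p A hA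
  have h17 : H17 G := fun M hM p _ hp A hA => Cfsg.Agent.S1417.result hG M hM p hp A hA
  have h18 : H18 G := h18_of hG h16 h17
  have h20 : H20 G := h20_of hG h16 h17
  have hnc : NormNC G := normNC_of (Cfsg.Agent.Lib.Helper3.BG12S.exCompl_of hG) h20
  have h1 : H1 G := h1_of hG
  have hXq : IsPGroup q X := IsPGroup.of_card (n := 1) (by rw [hXc, pow_one])
  have hX1 : X ≠ ⊥ := by
    rintro rfl
    rw [Subgroup.card_bot] at hXc
    exact hq.one_lt.ne hXc
  have hsM : sigmaCore M ≤ M := Subgroup.map_subtype_le (piCore (sigma M) ↥M)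
  have hXM' : X ≤ M := hXM.trans hsM
  have hXL : X ≤ L := Subgroup.le_normalizer.trans hNL
  obtain ⟨S, hS, hXS⟩ := exists_sylSet_ge hXq (le_inf hXM' hXL)
  obtain ⟨-, hNS, hSL⟩ := bg12_15 h1 hnc M hM q hqM X hXq hX1 hXM' L hLM hNL S hS hXS
  have hSM : S ≤ M := hS.1.trans inf_le_left
  have hcM : ∀ K : Subgroup G, K ≤ M → (Nat.card ↥⁅K, K⁆).Coprime p :=
    fun K hK => betaD_comm_coprime hp hK hpM.2.2.2.1
  have hfin : (Nat.card ↥⁅L, L⁆).Coprime p := by
    by_cases hqL : q ∈ sigma L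
    · -- (3a)
      have hle := Cfsg.Agent.Lib.Helper3.BG12S.le_betaCore_sup_normalizer hG h14 hL hqL hSL
      have hpα : p ∉ alpha L := by
        intro hα
        obtain ⟨g, hg⟩ := Cfsg.Agent.Lib.Helper3.BG13T.exists_cj_of_sigma_alpha hG hH hL hpH hα
        exact hLH g hg
      have hcopβ : (Nat.card (piCoreOf (beta L) L)).Coprime p := by
        rw [Nat.coprime_comm, Nat.Prime.coprime_iff_not_dvd hp]
        intro hd
        exact hpα ((h14 L hL).1.2.1 p hp hd).1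
      have hBL : piCoreOf (beta L) L ≤ L := Subgroup.map_subtype_le (piCore (beta L) ↥L)
      have hBn : L ≤ Subgroup.normalizer ((piCoreOf (beta L) L : Subgroup G) : Set G) :=
        le_normalizer_map_subtype L (piCore (beta L) ↥L)
      exact hF0 p L (piCoreOf (beta L) L) (L ⊓ Subgroup.normalizer (S : Set G)) hp
        hBL inf_le_left hBn hle hcopβ (hcM _ (inf_le_right.trans hNS))
    · -- (3b)
      have hτ : q ∈ tau2 L :=
        Cfsg.Agent.Lib.Helper3.BG12S.mem_tau2_of_normalizer_le hG hL hqL hXq hX1 hNL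
      have hSq : IsPGroup q S := isPGroup_of_mem_sylSet hS
      have hcop : (Nat.card S).Coprime (Nat.card (sigmaCore L)) :=
        Cfsg.Agent.Lib.Helper3.BG13T.coprime_of_sigma hG hqL hSq le_rfl
      obtain ⟨EL, hEL, hSE⟩ := Cfsg.Agent.Lib.Helper3.BG13T.exists_compl_ge hG hL hSL.1 hcop
      obtain ⟨A, hAE, hAel, hAc⟩ :=
        Cfsg.Agent.Lib.Helper3.BG13T.exists_tau2_elemAb hG hL hEL hτ
      have hEA : EL ≤ Subgroup.normalizer (A : Set G) :=
        (h18 L hL EL hEL q hτ A ⟨hAE, hAel, hAc⟩).1.1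
      have hAq : IsPGroup q A := IsPGroup.of_card hAc
      have hSE' : S ∈ sylSet q EL := Cfsg.Agent.Lib.Helper78.BG12.sylSet_of_le hSL hSE hEL.1
      have hAS : A ≤ S := normal_pgroup_le_sylSet hSE' hAE hAq hEA
      have hAM : A ≤ M := hAS.trans hSM
      have hAnc : ¬ IsCyclic ↥A := not_isCyclic_of_elemAb hAel.2 (by rw [hAc])
      have hNA : Subgroup.normalizer (A : Set G) ≤ M := hnc M hM q A hqM hAq hAM hAnc
      have hEM : EL ≤ M := hEA.trans hNA
      have hbot : sigmaCore L ⊓ M = ⊥ :=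
        (h17 L hL q hτ A ⟨hAE.trans hEL.1, hAel, hAc⟩).2.2.2.2.1 M hM (Ne.symm hLM) hAM
      have hpL : p ∉ sigma L := by
        intro hpL
        have hPp : IsPGroup p P := IsPGroup.of_card (n := 1) (by rw [hPc, pow_one])
        have h2 : P ≤ sigmaCore L ⊓ M :=
          le_inf (Cfsg.Agent.Lib.Helper3.BG12S.pgroup_le_sigmaCore hG hL hpL hPp hPL) hPM
        rw [hbot] at h2
        have h3 : P = ⊥ := le_bot_iff.mp h2
        rw [h3, Subgroup.card_bot] at hPc
        exact hp.one_lt.ne hPc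
      have hcopσ : (Nat.card (sigmaCore L)).Coprime p := by
        rw [Nat.coprime_comm, Nat.Prime.coprime_iff_not_dvd hp]
        intro hd
        exact hpL (Cfsg.Agent.Lib.Helper3.BG12S.mem_sigma_of_dvd_sigmaCore hp hd)
      have hLsup : L ≤ sigmaCore L ⊔ EL := by
        intro m hm
        obtain ⟨a, ha, b, hb, rfl⟩ := hEL.2.2.2 m hm
        exact Subgroup.mul_mem _ (Subgroup.mem_sup_right ha) (Subgroup.mem_sup_left hb)
      have hsL : sigmaCore L ≤ L := Subgroup.map_subtype_le (piCore (sigma L) ↥L)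
      have hsn : L ≤ Subgroup.normalizer ((sigmaCore L : Subgroup G) : Set G) :=
        le_normalizer_map_subtype L (piCore (sigma L) ↥L)
      exact hF0 p L (sigmaCore L) EL hp hsL hEL.1 hsn hLsup hcopσ (hcM _ hEM)
  rw [Nat.coprime_comm, Nat.Prime.coprime_iff_not_dvd hp] at hfin
  exact hfin

/-- piece C-BETAD -/
theorem betaD (hF0 : F0Stmt G) (hFr : Frat3Stmt G) : BetaDStmt G := by
  intro hG M H hM hH p _ hpM hpH q _ hqM hqH P X hPM hPc hXM hXH hXc hPX
  have hp : p.Prime := Fact.out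
  have hq : q.Prime := Fact.out
  by_contra hpβ
  have h14 : H14 G := fun M hM => Cfsg.Agent.S1414.result hG M hM
  obtain ⟨-, hqσH, hqd, hqr⟩ := hqH
  have hXq : IsPGroup q X := IsPGroup.of_card (n := 1) (by rw [hXc, pow_one])
  have hX1 : X ≠ ⊥ := by
    rintro rfl
    rw [Subgroup.card_bot] at hXc
    exact hq.one_lt.ne hXc
  have hXtop : X ≠ ⊤ := by
    rintro rfl
    exact hH.1 (top_le_iff.mp hXH)
  -- a Sylow `q`-subgroup of `H` containing `X`
  obtain ⟨Sq, hSq, hXSq⟩ := exists_sylSet_ge hXq hXH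
  have hSqp : IsPGroup q Sq := isPGroup_of_mem_sylSet hSq
  have hq2 : q ≠ 2 := Cfsg.Agent.Lib.Helper3.U95.prime_ne_two hG hXq hX1
  have hSqc : IsCyclic ↥Sq :=
    Cfsg.Agent.Lib.Helper15.BG13.cyclic_of_prankLE_one hq2 hqr hSqp hSq.1
  -- a Sylow `q`-subgroup `T` of `H'` inside `Sq`
  obtain ⟨T0, hT0⟩ := sylSet_nonempty q ⁅H, H⁆
  have hT0H : T0 ≤ H := hT0.1.trans (Subgroup.commutator_le_self H)
  obtain ⟨S', hS', hT0S'⟩ := exists_sylSet_ge (isPGroup_of_mem_sylSet hT0) hT0H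
  obtain ⟨n, hn, hnS⟩ := sylSet_conj hS' hSq
  have hT : cj n T0 ∈ sylSet q ⁅H, H⁆ :=
    cj_mem_sylSet (Cfsg.Agent.Lib.Helper3.BG13.le_normalizer_commutator H hn) hT0
  have hTS : cj n T0 ≤ Sq := hnS ▸ cj_mono n hT0S'
  have hqT : q ∣ Nat.card ↥(cj n T0) := by
    rw [hT.2]
    have h4 : (Nat.card ↥⁅H, H⁆).factorization q ≠ 0 := by
      have := Nat.Prime.factorization_pos_of_dvd hq Nat.card_pos.ne' hqd
      omega
    exact dvd_pow_self q h4
  have hXT : X ≤ cj n T0 := betaD_le_of_cyclic hSqc hXSq hTS hXc hqT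
  have hTp : IsPGroup q (cj n T0) := isPGroup_of_mem_sylSet hT
  have hTH : cj n T0 ≤ H := hTS.trans hSq.1
  have hTc : IsCyclic ↥(cj n T0) :=
    Cfsg.Agent.Lib.Helper15.BG13.cyclic_of_prankLE_one hq2 hqr hTp hTH
  have hNTX : Subgroup.normalizer ((cj n T0 : Subgroup G) : Set G) ≤
      Subgroup.normalizer (X : Set G) :=
    normalizer_le_normalizer_of_cyclic hTc hXT
  have hqβ : q ∉ beta H := fun h => hqσH (alpha_sub_sigma hG (ut_of hG) hH h.1)
  have hfr := hFr hG H hH q hqβ (cj n T0) hT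
  -- a maximal subgroup `L` over `N_G(X)`
  obtain ⟨L, hL, hNL⟩ := exists_coatom_ge (minSimple_normalizer_ne_top hG hX1 hXtop)
  have hPL : P ≤ L := (hPX.trans (Subgroup.centralizer_le_normalizer _)).trans hNL
  have hLH : ∀ g : G, L ≠ cj g H := by
    intro g hg
    have hqL : q ∉ sigma L := by
      intro h
      have h1 : q ∈ sigma (cj g⁻¹ L) := sigma_cj h g⁻¹
      rw [hg, cj_inv_cj] at h1
      exact hqσH h1
    obtain ⟨⟨-, hr1⟩, -, -⟩ := Cfsg.Agent.Lib.Helper3.BG13.h6_of hG L hL q hqL X hXc hNL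
    apply hr1
    rw [hg]
    exact Cfsg.Agent.Lib.Helper3.BG13T.prankLE_cj g hqr
  have hclaim := betaD_claim hF0 hG hM hH hL hpM hpH hqM hPM hPc hXM hXc hNL hPL hLH
  have hNLle : H ⊓ Subgroup.normalizer ((cj n T0 : Subgroup G) : Set G) ≤ L :=
    (inf_le_right.trans hNTX).trans hNL
  have hcopN := betaD_comm_coprime hp hNLle hclaim
  have hcopβ : (Nat.card (piCoreOf (beta H) H)).Coprime p := by
    rw [Nat.coprime_comm, Nat.Prime.coprime_iff_not_dvd hp]
    intro hd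
    exact hpβ ((h14 H hH).1.2.1 p hp hd)
  have hBH : piCoreOf (beta H) H ≤ H := Subgroup.map_subtype_le (piCore (beta H) ↥H)
  have hBn : H ≤ Subgroup.normalizer ((piCoreOf (beta H) H : Subgroup G) : Set G) :=
    le_normalizer_map_subtype H (piCore (beta H) ↥H)
  have hfin := hF0 p H (piCoreOf (beta H) H)
    (H ⊓ Subgroup.normalizer ((cj n T0 : Subgroup G) : Set G)) hp hBH inf_le_left hBn hfr
    hcopβ hcopN
  rw [Nat.coprime_comm, Nat.Prime.coprime_iff_not_dvd hp] at hfin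
  exact hfin (betaD_dvd_comm hG hH hpH)

end Cfsg.Agent.Lib.Helper15.BG13C
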