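import Mathlib
import Cfsg.Agent.Lib.Helper10.BWDefs

/-!
# S0997 case B2 (project BW), piece BW-M1 (helper14 for helper10)

The elements `g` with `cv P χ g = 1` form a subgroup.
-/

set_option autoImplicit false
set_option linter.style.haveILetI false

namespace Cfsg.Agent.Lib.Helper10.BW

open Cfsg
open Cfsg.Agent.Lib.Helper83 (trivIrr)
open Cfsg.Agent.Lib.Helper10.BR (psum)
open scoped ComplexConjugate

universe u

variable {G : Type u} [Group G] [Fintype G]

/-- BW-M1 -/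
theorem exists_m1 (P : Subgroup G) (χ : IrrCharacter G)
    (h1 : psum P (χ : G → ℂ) 1 = (Nat.card P : ℂ))
    (hinv : ∀ g : G, om P (χ : G → ℂ) g⁻¹ = conj (om P (χ : G → ℂ) g))
    (hmul : ∀ g : G, cv P (χ : G → ℂ) g = 1 → ∀ h : G,
      om P (χ : G → ℂ) (g * h) = om P (χ : G → ℂ) g * om P (χ : G → ℂ) h) :
    ∃ M : Subgroup G, ∀ g : G, g ∈ M ↔ cv P (χ : G → ℂ) g = 1 := by
  have hP0 : (Nat.card P : ℂ) ≠ 0 := by
    have h : 0 < Nat.card P := Nat.card_pos
    exact_mod_cast h.ne'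
  have hom1 : om P (χ : G → ℂ) 1 = 1 := by
    unfold om
    rw [h1]
    exact div_self hP0
  have hcv : ∀ g : G, cv P (χ : G → ℂ) g =
      conj (om P (χ : G → ℂ) g) * om P (χ : G → ℂ) g := by
    intro g
    unfold cv
    rw [hinv]
  refine ⟨{ carrier := {g | cv P (χ : G → ℂ) g = 1}
            mul_mem' := ?_
            one_mem' := ?_
            inv_mem' := ?_ }, fun g => Iff.rfl⟩
  · intro a b ha hb
    show cv P (χ : G → ℂ) (a * b) = 1
    have ha' : cv P (χ : G → ℂ) a = 1 := ha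
    have hb' : cv P (χ : G → ℂ) b = 1 := hb
    rw [hcv] at ha' hb' ⊢
    rw [hmul a ha b, map_mul]
    calc conj (om P (χ : G → ℂ) a) * conj (om P (χ : G → ℂ) b) *
          (om P (χ : G → ℂ) a * om P (χ : G → ℂ) b)
        = (conj (om P (χ : G → ℂ) a) * om P (χ : G → ℂ) a) *
          (conj (om P (χ : G → ℂ) b) * om P (χ : G → ℂ) b) := by ring
      _ = 1 := by rw [ha', hb', one_mul]
  · show cv P (χ : G → ℂ) 1 = 1
    unfold cv
    rw [inv_one, hom1, one_mul]
  · intro a ha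
    show cv P (χ : G → ℂ) a⁻¹ = 1
    have ha' : cv P (χ : G → ℂ) a = 1 := ha
    unfold cv at ha' ⊢
    rw [inv_inv, mul_comm]
    exact ha'

end Cfsg.Agent.Lib.Helper10.BW
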