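import Mathlib
import Cfsg.Agent.Lib.Helper10.BWDefs

/-!
# S0997 case B2 (project BW), piece BW-PLUS (helper14 for helper10)

Some `x ∈ P \ {1}` has `2 θ(x) - 1 = +√p`: the sum of these numbers over `P \ {1}` vanishes and
each of them is `±√p`.
-/

set_option autoImplicit false
set_option linter.style.haveILetI false

namespace Cfsg.Agent.Lib.Helper10.BW

open Cfsg
open Cfsg.Agent.Lib.Helper83 (trivIrr)
open Cfsg.Agent.Lib.Helper10.BR (psum)
open scoped ComplexConjugate

universe u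

variable {G : Type u} [Group G] [Fintype G]

variable {p e : ℕ} {P : Subgroup G} {θ θ' : IrrCharacter G} {Xp Xm D : Finset (IrrCharacter G)}

/-- BW-PLUS -/
theorem exists_plus (h : VTab G p e P θ θ' Xp Xm D) (h1 : psum P (θ : G → ℂ) 1 = (p : ℂ)) :
    ∃ x ∈ P, x ≠ 1 ∧ 2 * (θ : G → ℂ) x - 1 = ((Real.sqrt p : ℝ) : ℂ) := by
  classical
  by_contra hcon
  push Not at hcon
  have hs : ((Real.sqrt p : ℝ) : ℂ) ^ 2 = (p : ℂ) := by
    rw [← Complex.ofReal_pow, Real.sq_sqrt (Nat.cast_nonneg p)]; simp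
  have hneg : ∀ x ∈ P, x ≠ 1 →
      2 * (θ : G → ℂ) x - 1 = -((Real.sqrt p : ℝ) : ℂ) := by
    intro x hx hx1
    have h2 := h.sq x hx hx1
    have h3 : (2 * (θ : G → ℂ) x - 1 - ((Real.sqrt p : ℝ) : ℂ)) *
        (2 * (θ : G → ℂ) x - 1 + ((Real.sqrt p : ℝ) : ℂ)) = 0 := by
      linear_combination h2 - hs
    rcases mul_eq_zero.mp h3 with h4 | h4
    · exact absurd (by linear_combination h4) (hcon x hx hx1)
    · linear_combination h4
  haveI : Fintype P := Fintype.ofFinite P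
  rw [Cfsg.Agent.Lib.Helper10.BR.psum_eq_sum] at h1
  simp only [one_mul] at h1
  have hsum : ∑ u : P, (θ : G → ℂ) (u : G) =
      (θ : G → ℂ) 1 + ∑ u ∈ (Finset.univ.erase (1 : P)), (θ : G → ℂ) (u : G) := by
    rw [← Finset.add_sum_erase _ _ (Finset.mem_univ (1 : P))]; simp
  have hrest : ∑ u ∈ (Finset.univ.erase (1 : P)), (θ : G → ℂ) (u : G) =
      ∑ _u ∈ (Finset.univ.erase (1 : P)), ((1 - ((Real.sqrt p : ℝ) : ℂ)) / 2) := by
    apply Finset.sum_congr rfl
    intro u hu
    have hu1 : (u : G) ≠ 1 := by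
      intro h0
      exact (Finset.mem_erase.mp hu).1 (Subtype.ext h0)
    have := hneg u u.2 hu1
    linear_combination this / 2
  have hc : Fintype.card P = p := by rw [← Nat.card_eq_fintype_card]; exact h.cardP
  have hcard : (Finset.univ.erase (1 : P)).card = 2 * e := by
    rw [Finset.card_erase_of_mem (Finset.mem_univ _), Finset.card_univ, hc, h.hpe]
    omega
  have hp2 : (p : ℂ) = 2 * (e : ℂ) + 1 := by
    have := h.hpe
    rw [this]; push_cast; ring
  rw [hsum, hrest, h.degθ, Finset.sum_const, hcard, nsmul_eq_mul] at h1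
  push_cast at h1
  have he : (e : ℂ) ≠ 0 := by
    have := h.he2
    exact_mod_cast (by omega : e ≠ 0)
  have h5 : (e : ℂ) * ((Real.sqrt p : ℝ) : ℂ) = 0 := by
    linear_combination -h1 - hp2
  rcases mul_eq_zero.mp h5 with h6 | h6
  · exact he h6
  · have h7 : (p : ℂ) = 0 := by rw [← hs, h6]; ring
    have hp0 : p ≠ 0 := h.hp.ne_zero
    exact hp0 (by exact_mod_cast h7)

end Cfsg.Agent.Lib.Helper10.BW
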