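import Mathlib
import Cfsg.Prelude.Def_PLocal
import Cfsg.Prelude.Def_Local
import Cfsg.Prelude.Def_LocalEven
import Cfsg.Agent.Lib.Helper14.Basic
import Cfsg.Agent.Lib.Helper14.PCore
import Cfsg.Agent.Lib.Helper14.Coprime
import Cfsg.Agent.Lib.Helper14.Thompson
import Cfsg.Agent.Lib.Helper40.HallHigman
import Cfsg.Agent.S0057
import Cfsg.Agent.S0609

set_option autoImplicit false

/-!
# Tools for groups whose Sylow subgroups have class at most two (helper14)
-/

namespace Cfsg.Agent.Lib.Helper14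

open Cfsg

section stab

variable {G : Type*} [Group G]

/-- if `x q x⁻¹ = c q` with `x` commuting with `c`, then `xⁿ q x⁻ⁿ = cⁿ q`. -/
theorem conj_pow_stab {x q c : G} (hc : x * q * x⁻¹ = c * q) (hxc : x * c = c * x) (n : ℕ) :
    x ^ n * q * (x ^ n)⁻¹ = c ^ n * q := by
  induction n with
  | zero => simp
  | succ n ih =>
    have h1 : x * c ^ n * x⁻¹ = c ^ n := by
      have : Commute x (c ^ n) := Commute.pow_right hxc n
      rw [this.eq, mul_inv_cancel_right]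
    calc x ^ (n + 1) * q * (x ^ (n + 1))⁻¹ = x * (x ^ n * q * (x ^ n)⁻¹) * x⁻¹ := by
          rw [pow_succ']; group
      _ = x * (c ^ n * q) * x⁻¹ := by rw [ih]
      _ = (x * c ^ n * x⁻¹) * (x * q * x⁻¹) := by group
      _ = c ^ n * (c * q) := by rw [h1, hc]
      _ = c ^ (n + 1) * q := by rw [pow_succ]; group

theorem pow_orderOf_eq_one_of_stab {x q c : G} (hc : x * q * x⁻¹ = c * q) (hxc : x * c = c * x) :
    c ^ orderOf x = 1 := by
  have h := conj_pow_stab hc hxc (orderOf x)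
  rw [pow_orderOf_eq_one, one_mul, inv_one, mul_one] at h
  exact (mul_eq_right.mp h.symm)

theorem eq_one_of_pow_coprime {c : G} {m n : ℕ} (h1 : c ^ m = 1) (h2 : c ^ n = 1)
    (hmn : m.Coprime n) : c = 1 := by
  have h3 : orderOf c ∣ m := orderOf_dvd_of_pow_eq_one h1
  have h4 : orderOf c ∣ n := orderOf_dvd_of_pow_eq_one h2
  have := Nat.dvd_gcd h3 h4
  rw [hmn] at this
  exact orderOf_eq_one_iff.mp (Nat.dvd_one.mp this)

/-- an element `x` of order prime to that of `c = x q x⁻¹ q⁻¹`, commuting with `c`, commutes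
with `q`. -/
theorem comm_of_stab_coprime {x q : G} {n : ℕ}
    (hxc : x * (x * q * x⁻¹ * q⁻¹) = (x * q * x⁻¹ * q⁻¹) * x)
    (hn : (x * q * x⁻¹ * q⁻¹) ^ n = 1) (hcop : (orderOf x).Coprime n) : x * q = q * x := by
  have hc : x * q * x⁻¹ = (x * q * x⁻¹ * q⁻¹) * q := by group
  have h1 := pow_orderOf_eq_one_of_stab hc hxc
  have h2 := eq_one_of_pow_coprime h1 hn hcop
  rw [h2, one_mul] at hc
  calc x * q = x * q * x⁻¹ * x := by group
    _ = q * x := by rw [hc]

/-- the elements acting trivially on `Q / N`. -/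
def stabSub (Q N : Subgroup G) [hQ : Q.Normal] [hN : N.Normal] : Subgroup G where
  carrier := {g | ∀ q ∈ Q, g * q * g⁻¹ * q⁻¹ ∈ N}
  one_mem' := by
    intro q _
    simp
  mul_mem' := by
    intro g h hg hh q hq
    have h1 : g * (h * q * h⁻¹ * q⁻¹) * g⁻¹ ∈ N := hN.conj_mem _ (hh q hq) g
    have h2 := hg q hq
    have e : g * h * q * (g * h)⁻¹ * q⁻¹ =
        (g * (h * q * h⁻¹ * q⁻¹) * g⁻¹) * (g * q * g⁻¹ * q⁻¹) := by group
    show g * h * q * (g * h)⁻¹ * q⁻¹ ∈ N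
    rw [e]
    exact N.mul_mem h1 h2
  inv_mem' := by
    intro g hg q hq
    have hq' : g⁻¹ * q * g ∈ Q := by
      have := hQ.conj_mem q hq g⁻¹
      simpa using this
    have h1 := hg _ hq'
    have e : g⁻¹ * q * g⁻¹⁻¹ * q⁻¹ = (g * (g⁻¹ * q * g) * g⁻¹ * (g⁻¹ * q * g)⁻¹)⁻¹ := by group
    show g⁻¹ * q * g⁻¹⁻¹ * q⁻¹ ∈ N
    rw [e]
    exact N.inv_mem h1

theorem mem_stabSub {Q N : Subgroup G} [Q.Normal] [N.Normal] {g : G} :
    g ∈ stabSub Q N ↔ ∀ q ∈ Q, g * q * g⁻¹ * q⁻¹ ∈ N := Iff.rfl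

instance stabSub_normal (Q N : Subgroup G) [hQ : Q.Normal] [hN : N.Normal] :
    (stabSub Q N).Normal := by
  refine ⟨fun g hg k => ?_⟩
  rw [mem_stabSub] at hg ⊢
  intro q hq
  have hq' : k⁻¹ * q * k ∈ Q := by
    have := hQ.conj_mem q hq k⁻¹
    simpa using this
  have h1 := hN.conj_mem _ (hg _ hq') k
  have e : k * g * k⁻¹ * q * (k * g * k⁻¹)⁻¹ * q⁻¹ =
      k * (g * (k⁻¹ * q * k) * g⁻¹ * (k⁻¹ * q * k)⁻¹) * k⁻¹ := by group
  rw [e]
  exact h1

/-- the elements of order at most two of a commutative subgroup. -/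
def omegaTwo (N : Subgroup G) (hN : ∀ x ∈ N, ∀ y ∈ N, x * y = y * x) : Subgroup G where
  carrier := {v | v ∈ N ∧ v ^ 2 = 1}
  one_mem' := ⟨N.one_mem, one_pow 2⟩
  mul_mem' := by
    rintro a b ⟨ha, ha2⟩ ⟨hb, hb2⟩
    refine ⟨N.mul_mem ha hb, ?_⟩
    have : Commute a b := hN a ha b hb
    rw [this.mul_pow, ha2, hb2, one_mul]
  inv_mem' := by
    rintro a ⟨ha, ha2⟩
    exact ⟨N.inv_mem ha, by rw [inv_pow, ha2, inv_one]⟩

theorem mem_omegaTwo {N : Subgroup G} {hN : ∀ x ∈ N, ∀ y ∈ N, x * y = y * x} {v : G} :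
    v ∈ omegaTwo N hN ↔ v ∈ N ∧ v ^ 2 = 1 := Iff.rfl

theorem omegaTwo_normal (N : Subgroup G) [hNn : N.Normal] (hN : ∀ x ∈ N, ∀ y ∈ N, x * y = y * x) :
    (omegaTwo N hN).Normal := by
  refine ⟨fun v hv g => ?_⟩
  rw [mem_omegaTwo] at hv ⊢
  refine ⟨hNn.conj_mem v hv.1 g, ?_⟩
  rw [conj_pow, hv.2, mul_one, mul_inv_cancel]

/-- a subgroup all of whose elements are central is normal. -/
theorem normal_of_central (Z : Subgroup G) (hZ : ∀ z ∈ Z, ∀ g : G, g * z = z * g) : Z.Normal := by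
  refine ⟨fun z hz g => ?_⟩
  rw [hZ z hz g, mul_inv_cancel_right]
  exact hz

end stab

section thom

variable {G : Type*} [Group G] [Finite G] {p : ℕ}

/-- the Thompson subgroup of a subgroup is normalized by the normalizer of that subgroup. -/
theorem normalizer_le_normalizer_thompsonOf (S : Subgroup G) :
    Subgroup.normalizer (S : Set G) ≤ Subgroup.normalizer (thompsonSubgroupOf p S : Set G) := by
  intro m hm
  have hmap : S.map (MulAut.conj m).toMonoidHom = S := by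
    apply subgroup_eq_of_le_of_card_le
    · rintro _ ⟨s, hs, rfl⟩
      exact (Subgroup.mem_normalizer_iff.mp hm s).mp hs
    · exact (Subgroup.card_map_of_injective (MulAut.conj m).injective).ge
  have h1 := Cfsg.Agent.S0609.thompsonOf_map (p := p) (MulAut.conj m).toMonoidHom (S := S)
    (fun s _ hs => by
      have : (MulAut.conj m) s = (MulAut.conj m) 1 := by rw [map_one]; exact hs
      exact (MulAut.conj m).injective this)
  rw [hmap] at h1
  apply mem_normalizer_of_conj_mem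
  intro x hx
  rw [h1]
  exact ⟨x, hx, rfl⟩

/-- if the Thompson subgroup of `S` is normal in `H ≥ S` (computed inside `H`), then `H`
normalizes it. -/
theorem le_normalizer_thompsonOf_of_subgroup (S H : Subgroup G) (hSH : S ≤ H)
    (h : Subgroup.normalizer (thompsonSubgroupOf p (S.subgroupOf H) : Set ↥H) = ⊤) :
    H ≤ Subgroup.normalizer (thompsonSubgroupOf p S : Set G) := by
  have h1 := Cfsg.Agent.S0609.thompsonOf_map (p := p) H.subtype (S := S.subgroupOf H)
    (fun s _ hs => Subtype.ext hs)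
  rw [Subgroup.map_subgroupOf_eq_of_le hSH] at h1
  intro g hg
  apply mem_normalizer_of_conj_mem
  intro x hx
  rw [h1] at hx ⊢
  obtain ⟨x', hx', rfl⟩ := hx
  have h2 : (⟨g, hg⟩ : ↥H) ∈ Subgroup.normalizer (thompsonSubgroupOf p (S.subgroupOf H) : Set ↥H) := by
    rw [h]; exact Subgroup.mem_top _
  exact ⟨⟨g, hg⟩ * x' * ⟨g, hg⟩⁻¹, (Subgroup.mem_normalizer_iff.mp h2 x').mp hx', rfl⟩

/-- if `C_G(O_p(G)) ≤ O_p(G)`, every subgroup containing `O_p(G)` has trivial `p'`-core. -/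
theorem pPrimeCore_subgroup_eq_bot [Fact p.Prime]
    (hCQ : Subgroup.centralizer (pCore p G : Set G) ≤ pCore p G) (H : Subgroup G)
    (hQH : pCore p G ≤ H) : pPrimeCore p ↥H = ⊥ := by
  have hQn : (pCore p G).Normal := Cfsg.Agent.Lib.Helper40.pCore_normal' p
  have hOn : (pPrimeCore p ↥H).Normal := inferInstance
  obtain ⟨O, hOdef⟩ : ∃ O : Subgroup G, O = (pPrimeCore p ↥H).map H.subtype := ⟨_, rfl⟩
  have hcop : (Nat.card O).Coprime (Nat.card (pCore p G)) := by
    rw [hOdef, Subgroup.card_map_of_injective H.subtype_injective]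
    obtain ⟨k, hk⟩ := IsPGroup.iff_card.mp (pCore_isPGroup (p := p) (G := G))
    rw [hk]
    exact Nat.Coprime.pow_right k pPrimeCore_coprime
  have hOQ : O ≤ Subgroup.centralizer (pCore p G : Set G) := by
    intro o ho
    rw [Subgroup.mem_centralizer_iff]
    intro q hq
    have h1 : o * q * o⁻¹ * q⁻¹ ∈ pCore p G :=
      (pCore p G).mul_mem (hQn.conj_mem q hq o) ((pCore p G).inv_mem hq)
    have h2 : o * q * o⁻¹ * q⁻¹ ∈ O := by
      rw [hOdef] at ho ⊢
      obtain ⟨o', ho', rfl⟩ := ho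
      have h3 : (⟨q, hQH hq⟩ : ↥H) * o'⁻¹ * (⟨q, hQH hq⟩ : ↥H)⁻¹ ∈ pPrimeCore p ↥H :=
        hOn.conj_mem _ ((pPrimeCore p ↥H).inv_mem ho') _
      refine ⟨o' * ((⟨q, hQH hq⟩ : ↥H) * o'⁻¹ * (⟨q, hQH hq⟩ : ↥H)⁻¹),
        (pPrimeCore p ↥H).mul_mem ho' h3, ?_⟩
      simp only [Subgroup.coe_subtype, Subgroup.coe_mul, Subgroup.coe_inv]
      group
    have h4 := Cfsg.Agent.S0057.inf_triv hcop h1 h2
    calc q * o = (o * q * o⁻¹ * q⁻¹)⁻¹ * (o * q) := by group
      _ = o * q := by rw [h4, inv_one, one_mul]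
  have hObot : O = ⊥ := by
    rw [eq_bot_iff]
    intro o ho
    exact Subgroup.mem_bot.mpr (Cfsg.Agent.S0057.inf_triv hcop (hCQ (hOQ ho)) ho)
  rw [hOdef] at hObot
  exact (Subgroup.map_eq_bot_iff_of_injective _ H.subtype_injective).mp hObot

end thom

end Cfsg.Agent.Lib.Helper14
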