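import Mathlib
import Cfsg.Prelude.Def_PLocal
import Cfsg.Prelude.Def_Local
import Cfsg.Agent.S0058
import Cfsg.Agent.Lib.Helper14.Replacement2
import Cfsg.Agent.Lib.Helper14.PCore
import Cfsg.Agent.Lib.Helper14.Coprime
import Cfsg.Agent.Lib.Helper40.AxB

set_option autoImplicit false

namespace Cfsg.Agent.Lib.Helper14

open Cfsg
open scoped commutatorElement

section ffsetup

variable {G : Type*} [Group G] [Finite G] {p : ℕ} [Fact p.Prime]

/-- the standing hypotheses of the structure theory of `FF`-modules: `H` acts faithfully on the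
elementary abelian `p`-group `V`, and `M` is a normal `p'`-subgroup of `H` containing its
centralizer in `H`. -/
structure FFSetup (p : ℕ) (V H M : Subgroup G) : Prop where
  hVc : ∀ x ∈ V, ∀ y ∈ V, x * y = y * x
  hVp : ∀ x ∈ V, x ^ p = 1
  hHV : H ≤ Subgroup.normalizer (V : Set G)
  hf : H ⊓ Subgroup.centralizer (V : Set G) = ⊥
  hMH : M ≤ H
  hMn : H ≤ Subgroup.normalizer (M : Set G)
  hMc : (Nat.card M).Coprime p
  hCM : ∀ h ∈ H, (∀ m ∈ M, h * m = m * h) → h ∈ M

theorem FFSetup.of_hyp (V H : Subgroup G) (hV : IsElementaryAbelian p V)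
    (hHV : H ≤ Subgroup.normalizer (V : Set G))
    (hf : H ⊓ Subgroup.centralizer (V : Set G) = ⊥)
    (hS1 : Subgroup.centralizer (pPrimeCore p ↥H : Set ↥H) ≤ pPrimeCore p ↥H) :
    FFSetup p V H ((pPrimeCore p ↥H).map H.subtype) where
  hVc := ea_comm hV
  hVp := hV.2
  hHV := hHV
  hf := hf
  hMH := Subgroup.map_subtype_le _
  hMn := by
    intro h hh
    apply mem_normalizer_of_conj_mem
    rintro _ ⟨m, hm, rfl⟩
    exact ⟨⟨h, hh⟩ * m * ⟨h, hh⟩⁻¹,
      (inferInstance : (pPrimeCore p ↥H).Normal).conj_mem m hm _, rfl⟩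
  hMc := by
    rw [Subgroup.card_map_of_injective H.subtype_injective]
    exact pPrimeCore_coprime
  hCM := by
    intro h hh hc
    have h1 : (⟨h, hh⟩ : ↥H) ∈ Subgroup.centralizer (pPrimeCore p ↥H : Set ↥H) := by
      rw [Subgroup.mem_centralizer_iff]
      intro m hm
      apply Subtype.ext
      exact (hc m ⟨m, hm, rfl⟩).symm
    exact ⟨⟨h, hh⟩, hS1 h1, rfl⟩

omit [Finite G] in
theorem isPGroup_of_pow {A : Subgroup G} (h : ∀ a ∈ A, a ^ p = 1) : IsPGroup p A := by
  rintro ⟨a, ha⟩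
  exact ⟨1, Subtype.ext (by simpa using h a ha)⟩

/-- in a cyclic group of prime order every nonidentity element is a generator. -/
theorem mem_zpowers_of_prime {g z : G} (hg : g ^ p = 1) (hz : z ∈ Subgroup.zpowers g)
    (hz1 : z ≠ 1) : g ∈ Subgroup.zpowers z := by
  have hg1 : g ≠ 1 := by
    rintro rfl
    rw [Subgroup.zpowers_one_eq_bot, Subgroup.mem_bot] at hz
    exact hz1 hz
  have hzp : z ^ p = 1 := by
    obtain ⟨i, rfl⟩ := Subgroup.mem_zpowers_iff.mp hz
    rw [← zpow_natCast, ← zpow_mul, mul_comm, zpow_mul, zpow_natCast, hg, one_zpow]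
  have hle : Subgroup.zpowers z ≤ Subgroup.zpowers g := Subgroup.zpowers_le.mpr hz
  have hcard : Nat.card (Subgroup.zpowers g) ≤ Nat.card (Subgroup.zpowers z) := by
    rw [Nat.card_zpowers, Nat.card_zpowers, orderOf_eq_prime hg hg1, orderOf_eq_prime hzp hz1]
  have h := subgroup_eq_of_le_of_card_le hle hcard
  rw [h]
  exact Subgroup.mem_zpowers g

variable {V H M : Subgroup G}

omit [Finite G] [Fact p.Prime] in
theorem FFSetup.bo_comm {A : Subgroup G} (S : FFSetup p V H M) (hAH : A ≤ H)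
    (hA : IsBestOffenderOn p V A) : ∀ a ∈ A, ∀ b ∈ A, a * b = b * a := by
  intro a ha b hb
  have h0 : ⁅a, b⁆ ∈ H := by
    rw [commutatorElement_def]
    exact H.mul_mem (H.mul_mem (H.mul_mem (hAH ha) (hAH hb)) (H.inv_mem (hAH ha)))
      (H.inv_mem (hAH hb))
  have h1 : ⁅a, b⁆ ∈ H ⊓ Subgroup.centralizer (V : Set G) :=
    Subgroup.mem_inf.mpr ⟨h0, hA.2.1 (Subgroup.commutator_mem_commutator ha hb)⟩
  rw [S.hf, Subgroup.mem_bot] at h1
  exact commutatorElement_eq_one_iff_mul_comm.mp h1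

omit [Finite G] [Fact p.Prime] in
theorem FFSetup.bo_pow {A : Subgroup G} (S : FFSetup p V H M) (hAH : A ≤ H)
    (hA : IsBestOffenderOn p V A) : ∀ a ∈ A, a ^ p = 1 := by
  intro a ha
  have h1 : a ^ p ∈ H ⊓ Subgroup.centralizer (V : Set G) :=
    Subgroup.mem_inf.mpr ⟨H.pow_mem (hAH ha) p, hA.2.2 a ha⟩
  rwa [S.hf, Subgroup.mem_bot] at h1

/-- a nonidentity element of order `p` of `H` does not centralize `M`. -/
theorem FFSetup.not_cent (S : FFSetup p V H M) {x : G} (hxH : x ∈ H) (hxp : x ^ p = 1)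
    (hx1 : x ≠ 1) : ¬ ∀ m ∈ M, x * m = m * x := by
  intro hc
  have hxM := S.hCM x hxH hc
  have h2 : orderOf x ∣ Nat.card M := by
    have := orderOf_dvd_natCard (⟨x, hxM⟩ : M)
    rwa [Subgroup.orderOf_mk] at this
  have h1 : orderOf x ∣ p := orderOf_dvd_of_pow_eq_one hxp
  exact hx1 (orderOf_eq_one_iff.mp (Nat.eq_one_of_dvd_coprimes S.hMc h2 h1))

omit [Finite G] [Fact p.Prime] in
/-- nontrivial subgroups of `H` act nontrivially. -/
theorem FFSetup.comm_ne_bot {B : Subgroup G} (S : FFSetup p V H M) (hBH : B ≤ H) (hB1 : B ≠ ⊥) :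
    ⁅V, B⁆ ≠ ⊥ := by
  intro h
  rw [Subgroup.commutator_comm, Subgroup.commutator_eq_bot_iff_le_centralizer] at h
  exact hB1 (eq_bot_iff.mpr (S.hf ▸ le_inf hBH h))

/-- **Key lemma**: a complement `B` in the best offender `A` to a cyclic subgroup `⟨a⟩` not
centralizing `C_M(B)` is again a best offender, with the same value of `|B| |C_V(B)|`. -/
theorem FFSetup.bo_hyperplane {A B : Subgroup G} (S : FFSetup p V H M) (hAH : A ≤ H)
    (hA : IsBestOffenderOn p V A) (hBA : B ≤ A) (a : G) (haA : a ∈ A)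
    (hgen : A = B ⊔ Subgroup.zpowers a)
    (hnc : ¬ ∀ m ∈ M ⊓ Subgroup.centralizer (B : Set G), a * m = m * a) :
    IsBestOffenderOn p V B ∧ ff V B = ff V A := by
  have hp : p.Prime := Fact.out
  have hAc := S.bo_comm hAH hA
  have hAp := S.bo_pow hAH hA
  have hBp : IsPGroup p B := isPGroup_of_pow (fun b hb => hAp b (hBA hb))
  have hVpg : IsPGroup p V := isPGroup_of_pow S.hVp
  set U := V ⊓ Subgroup.centralizer (B : Set G) with hU
  set L := M ⊓ Subgroup.centralizer (B : Set G) with hL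
  have haH : a ∈ H := hAH haA
  -- Step 1: `a` acts nontrivially on `U`
  have hau : ∃ u ∈ U, a * u ≠ u * a := by
    by_contra hcon
    have hcon' : ∀ u ∈ U, a * u = u * a := by
      intro u hu
      by_contra h
      exact hcon ⟨u, hu, h⟩
    set W := L ⊓ Subgroup.centralizer (U : Set G) with hW
    have hWM : W ≤ M := inf_le_left.trans inf_le_left
    have hWcop : (Nat.card W).Coprime p :=
      Nat.Coprime.coprime_dvd_left (Subgroup.card_dvd_of_le hWM) S.hMc
    have hWB : ∀ w ∈ W, ∀ y ∈ B, w * y = y * w := by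
      intro w hw y hy
      have h1 : w ∈ Subgroup.centralizer (B : Set G) :=
        (Subgroup.mem_inf.mp (Subgroup.mem_inf.mp hw).1).2
      exact (Subgroup.mem_centralizer_iff.mp h1 y hy).symm
    have hWV : W ≤ Subgroup.normalizer (V : Set G) := hWM.trans (S.hMH.trans S.hHV)
    have hBV : B ≤ Subgroup.normalizer (V : Set G) := hBA.trans (hAH.trans S.hHV)
    have hfix : ∀ u ∈ V, (∀ y ∈ B, y * u = u * y) → ∀ w ∈ W, w * u = u * w := by
      intro u hu hB w hw
      have huU : u ∈ U := mem_cv_iff.mpr ⟨hu, hB⟩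
      have h1 : w ∈ Subgroup.centralizer (U : Set G) := (Subgroup.mem_inf.mp hw).2
      exact (Subgroup.mem_centralizer_iff.mp h1 u huU).symm
    have hcent := Cfsg.Agent.Lib.Helper40.thompson_AxB W B hBp hWcop hWB (Nat.card V) V rfl hVpg
      hWV hBV hfix
    have hWbot : W = ⊥ := by
      rw [eq_bot_iff]
      intro w hw
      have h1 : w ∈ H ⊓ Subgroup.centralizer (V : Set G) := by
        refine Subgroup.mem_inf.mpr ⟨S.hMH (hWM hw), ?_⟩
        rw [Subgroup.mem_centralizer_iff]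
        intro u hu
        exact (hcent u hu w hw).symm
      rw [S.hf] at h1
      exact h1
    apply hnc
    intro m hm
    have hmM : m ∈ M := (Subgroup.mem_inf.mp hm).1
    have hmB : m ∈ Subgroup.centralizer (B : Set G) := (Subgroup.mem_inf.mp hm).2
    have haB : a ∈ Subgroup.centralizer (B : Set G) := by
      rw [Subgroup.mem_centralizer_iff]
      intro y hy
      exact hAc y (hBA hy) a haA
    have hmU : ∀ u ∈ U, m⁻¹ * u * m ∈ U := by
      intro u hu
      obtain ⟨huV, huB⟩ := mem_cv_iff.mp hu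
      refine mem_cv_iff.mpr ⟨?_, ?_⟩
      · have := conj_mem_of_normalizer huV (S.hHV (S.hMH (M.inv_mem hmM)))
        simpa using this
      · intro y hy
        have h1 := Subgroup.mem_centralizer_iff.mp hmB y hy
        have h2 := huB y hy
        calc y * (m⁻¹ * u * m) = m⁻¹ * (m * y) * m⁻¹ * u * m := by group
          _ = m⁻¹ * (y * m) * m⁻¹ * u * m := by rw [h1]
          _ = m⁻¹ * (y * u) * m := by group
          _ = m⁻¹ * (u * y) * m := by rw [h2]
          _ = m⁻¹ * u * (y * m) := by group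
          _ = m⁻¹ * u * (m * y) := by rw [h1]
          _ = m⁻¹ * u * m * y := by group
    have hc : a * m * a⁻¹ * m⁻¹ ∈ W := by
      refine Subgroup.mem_inf.mpr ⟨Subgroup.mem_inf.mpr ⟨?_, ?_⟩, ?_⟩
      · exact M.mul_mem (conj_mem_of_normalizer hmM (S.hMn haH)) (M.inv_mem hmM)
      · exact Subgroup.mul_mem _ (Subgroup.mul_mem _ (Subgroup.mul_mem _ haB hmB)
          (Subgroup.inv_mem _ haB)) (Subgroup.inv_mem _ hmB)
      · rw [Subgroup.mem_centralizer_iff]
        intro u hu
        have h3 : Commute a (m⁻¹ * u * m) := hcon' _ (hmU u hu)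
        have h4 := hcon' u hu
        have h5 : (m⁻¹ * u * m) * a⁻¹ = a⁻¹ * (m⁻¹ * u * m) := (h3.inv_left).eq.symm
        calc u * (a * m * a⁻¹ * m⁻¹) = (u * a) * m * a⁻¹ * m⁻¹ := by group
          _ = (a * u) * m * a⁻¹ * m⁻¹ := by rw [h4]
          _ = a * m * ((m⁻¹ * u * m) * a⁻¹) * m⁻¹ := by group
          _ = a * m * (a⁻¹ * (m⁻¹ * u * m)) * m⁻¹ := by rw [h5]
          _ = a * m * a⁻¹ * m⁻¹ * u := by group
    rw [hWbot, Subgroup.mem_bot] at hc
    calc a * m = (a * m * a⁻¹ * m⁻¹) * (m * a) := by group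
      _ = m * a := by rw [hc, one_mul]
  -- Step 2: `C_V(A) < C_V(B)`
  obtain ⟨u, huU, hua⟩ := hau
  have hle : V ⊓ Subgroup.centralizer (A : Set G) ≤ U := cv_anti hBA
  have hne : ¬ U ≤ V ⊓ Subgroup.centralizer (A : Set G) := by
    intro h
    exact hua ((mem_cv_iff.mp (h huU)).2 a haA)
  have hcardU : p * Nat.card ↥(V ⊓ Subgroup.centralizer (A : Set G)) ≤ Nat.card U := by
    have h1 := card_mul_relIndex hle
    have hUpg : IsPGroup p U := hVpg.to_le inf_le_left
    obtain ⟨n, hn⟩ := IsPGroup.iff_card.mp hUpg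
    have h2 : (V ⊓ Subgroup.centralizer (A : Set G)).relIndex U ∣ p ^ n := by
      rw [← hn, ← h1]; exact dvd_mul_left _ _
    obtain ⟨j, -, hj⟩ := (Nat.dvd_prime_pow hp).mp h2
    have hj0 : j ≠ 0 := by
      rintro rfl
      rw [pow_zero] at hj
      exact hne (Subgroup.relIndex_eq_one.mp hj)
    have h3 : p ≤ (V ⊓ Subgroup.centralizer (A : Set G)).relIndex U := by
      rw [hj]; exact Nat.le_self_pow hj0 p
    calc p * Nat.card ↥(V ⊓ Subgroup.centralizer (A : Set G))
        = Nat.card ↥(V ⊓ Subgroup.centralizer (A : Set G)) * p := mul_comm _ _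
      _ ≤ Nat.card ↥(V ⊓ Subgroup.centralizer (A : Set G)) *
          (V ⊓ Subgroup.centralizer (A : Set G)).relIndex U := Nat.mul_le_mul_left _ h3
      _ = Nat.card U := h1
  -- Step 3: `|A| ≤ p |B|`
  have hcardA : Nat.card A ≤ p * Nat.card B := by
    have hzn : B ≤ Subgroup.normalizer ((Subgroup.zpowers a : Subgroup G) : Set G) :=
      le_normalizer_of_abelian hAc hBA (Subgroup.zpowers_le.mpr haA)
    have h1 := card_sup_mul_card_inf hzn
    rw [← hgen] at h1
    have h2 : Nat.card (Subgroup.zpowers a) ≤ p := by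
      rw [Nat.card_zpowers]
      exact Nat.le_of_dvd hp.pos (orderOf_dvd_of_pow_eq_one (hAp a haA))
    have h3 : 0 < Nat.card ↥(B ⊓ Subgroup.zpowers a) := Nat.card_pos
    calc Nat.card A ≤ Nat.card A * Nat.card ↥(B ⊓ Subgroup.zpowers a) :=
          Nat.le_mul_of_pos_right _ h3
      _ = Nat.card B * Nat.card (Subgroup.zpowers a) := h1
      _ ≤ Nat.card B * p := Nat.mul_le_mul_left _ h2
      _ = p * Nat.card B := mul_comm _ _
  -- Step 4
  have hbo := hA.1 B hBA
  have heq : Nat.card B * Nat.card U =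
      Nat.card A * Nat.card ↥(V ⊓ Subgroup.centralizer (A : Set G)) := by
    apply le_antisymm hbo
    calc Nat.card A * Nat.card ↥(V ⊓ Subgroup.centralizer (A : Set G))
        ≤ (p * Nat.card B) * Nat.card ↥(V ⊓ Subgroup.centralizer (A : Set G)) :=
          Nat.mul_le_mul_right _ hcardA
      _ = Nat.card B * (p * Nat.card ↥(V ⊓ Subgroup.centralizer (A : Set G))) := by ring
      _ ≤ Nat.card B * Nat.card U := Nat.mul_le_mul_left _ hcardU
  refine ⟨⟨?_, ?_, ?_⟩, heq⟩
  · intro B' hB'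
    have := hA.1 B' (hB'.trans hBA)
    rw [heq]; exact this
  · exact (Subgroup.commutator_mono hBA hBA).trans hA.2.1
  · intro b hb; exact hA.2.2 b (hBA hb)

/-- for every nonidentity element `x` of a best offender `A` there is a complement `B` to `⟨x⟩`
in `A` such that `x` does not centralize `C_M(B)`. -/
theorem FFSetup.bo_exists_hyperplane {A : Subgroup G} (S : FFSetup p V H M) (hAH : A ≤ H)
    (hA : IsBestOffenderOn p V A) (x : G) (hxA : x ∈ A) (hx1 : x ≠ 1) :
    ∃ B : Subgroup G, B ≤ A ∧ A = B ⊔ Subgroup.zpowers x ∧ x ∉ B ∧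
      ¬ ∀ m ∈ M ⊓ Subgroup.centralizer (B : Set G), x * m = m * x := by
  have hp : p.Prime := Fact.out
  have hAc := S.bo_comm hAH hA
  have hAp := S.bo_pow hAH hA
  have hxp := hAp x hxA
  let Pr : Subgroup G → Prop := fun B => B ≤ A ∧ x ∉ B ∧
    ¬ ∀ m ∈ M ⊓ Subgroup.centralizer (B : Set G), x * m = m * x
  have hbot : Pr ⊥ := by
    refine ⟨bot_le, fun h => hx1 (Subgroup.mem_bot.mp h), ?_⟩
    intro hc
    apply S.not_cent (hAH hxA) hxp hx1
    intro m hm
    apply hc m
    refine Subgroup.mem_inf.mpr ⟨hm, ?_⟩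
    rw [Subgroup.mem_centralizer_iff]
    intro y hy
    rw [SetLike.mem_coe, Subgroup.mem_bot] at hy
    rw [hy, one_mul, mul_one]
  obtain ⟨B, -, hBmax⟩ := Finite.exists_le_maximal (p := Pr) hbot
  obtain ⟨⟨hBA, hxB, hBnc⟩, hBm⟩ := hBmax
  refine ⟨B, hBA, ?_, hxB, hBnc⟩
  by_contra hne
  have hlt : B ⊔ Subgroup.zpowers x ≤ A := sup_le hBA (Subgroup.zpowers_le.mpr hxA)
  obtain ⟨b, hbA, hbn⟩ : ∃ b ∈ A, b ∉ B ⊔ Subgroup.zpowers x := by
    by_contra hcon
    apply hne
    apply le_antisymm _ hlt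
    intro y hy
    by_contra hy'
    exact hcon ⟨y, hy, hy'⟩
  have hbp := hAp b hbA
  set P := Subgroup.zpowers x ⊔ Subgroup.zpowers b with hP
  have hPA : P ≤ A := sup_le (Subgroup.zpowers_le.mpr hxA) (Subgroup.zpowers_le.mpr hbA)
  have hxP : x ∈ P := Subgroup.mem_sup_left (Subgroup.mem_zpowers x)
  have hbP : b ∈ P := Subgroup.mem_sup_right (Subgroup.mem_zpowers b)
  have hPelt : ∀ y ∈ P, ∃ i j : ℤ, y = x ^ i * b ^ j := by
    intro y hy
    obtain ⟨w, hw, c, hc, rfl⟩ := exists_mul_of_mem_sup_abelian hAc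
      (Subgroup.zpowers_le.mpr hxA) (Subgroup.zpowers_le.mpr hbA) hy
    obtain ⟨i, rfl⟩ := Subgroup.mem_zpowers_iff.mp hw
    obtain ⟨j, rfl⟩ := Subgroup.mem_zpowers_iff.mp hc
    exact ⟨i, j, rfl⟩
  have hPB : ∀ y ∈ P, y ∈ B → y = 1 := by
    intro y hyP hyB
    obtain ⟨i, j, rfl⟩ := hPelt y hyP
    have hbj : b ^ j = 1 := by
      by_contra hbj
      have h1 : b ∈ Subgroup.zpowers (b ^ j) :=
        mem_zpowers_of_prime hbp (Subgroup.zpow_mem_zpowers b j) hbj
      apply hbn
      have h2 : b ^ j ∈ B ⊔ Subgroup.zpowers x := by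
        have : b ^ j = (x ^ i)⁻¹ * (x ^ i * b ^ j) := by group
        rw [this]
        exact Subgroup.mul_mem _ (Subgroup.inv_mem _ (Subgroup.mem_sup_right
          (Subgroup.zpow_mem_zpowers x i))) (Subgroup.mem_sup_left hyB)
      exact (Subgroup.zpowers_le.mpr h2) h1
    rw [hbj, mul_one] at hyB ⊢
    by_contra hxi
    exact hxB ((Subgroup.zpowers_le.mpr hyB)
      (mem_zpowers_of_prime hxp (Subgroup.zpow_mem_zpowers x i) hxi))
  haveI hPcomm : IsMulCommutative ↥P :=
    ⟨⟨fun y z => Subtype.ext (hAc y (hPA y.2) z (hPA z.2))⟩⟩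
  have hPnc : ¬ IsCyclic ↥P := by
    intro hcyc
    obtain ⟨g, hg⟩ := hcyc.exists_generator
    have hgp : (g : G) ^ p = 1 := hAp g (hPA g.2)
    have hmem : ∀ y (hy : y ∈ P), y ∈ Subgroup.zpowers (g : G) := by
      intro y hy
      obtain ⟨i, hi⟩ := Subgroup.mem_zpowers_iff.mp (hg ⟨y, hy⟩)
      refine Subgroup.mem_zpowers_iff.mpr ⟨i, ?_⟩
      have := congrArg Subtype.val hi
      simpa using this
    have hgx : (g : G) ∈ Subgroup.zpowers x := mem_zpowers_of_prime hgp (hmem x hxP) hx1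
    apply hbn
    exact Subgroup.mem_sup_right ((Subgroup.zpowers_le.mpr hgx) (hmem b hbP))
  set L := M ⊓ Subgroup.centralizer (B : Set G) with hL
  have hPL : P ≤ Subgroup.normalizer (L : Set G) := by
    intro y hy
    apply mem_normalizer_of_conj_mem
    intro m hm
    obtain ⟨hmM, hmB⟩ := Subgroup.mem_inf.mp hm
    refine Subgroup.mem_inf.mpr ⟨conj_mem_of_normalizer hmM (S.hMn (hAH (hPA hy))), ?_⟩
    rw [Subgroup.mem_centralizer_iff]
    intro β hβ
    have h1 := Subgroup.mem_centralizer_iff.mp hmB β hβ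
    have h2 := hAc y (hPA hy) β (hBA hβ)
    calc β * (y * m * y⁻¹) = (β * y) * m * y⁻¹ := by group
      _ = (y * β) * m * y⁻¹ := by rw [h2]
      _ = y * (β * m) * y⁻¹ := by group
      _ = y * (m * β) * y⁻¹ := by rw [h1]
      _ = y * m * (y⁻¹ * (y * β)) * y⁻¹ := by group
      _ = y * m * (y⁻¹ * (β * y)) * y⁻¹ := by rw [h2]
      _ = y * m * y⁻¹ * β := by group
  have hcop : (Nat.card P).Coprime (Nat.card L) := by
    have hPp : IsPGroup p P := isPGroup_of_pow (fun y hy => hAp y (hPA hy))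
    obtain ⟨n, hn⟩ := IsPGroup.iff_card.mp hPp
    rw [hn]
    apply Nat.Coprime.pow_left
    exact (Nat.Coprime.coprime_dvd_left (Subgroup.card_dvd_of_le inf_le_left) S.hMc).symm
  have hgenL := Cfsg.Agent.S0058.result P L hPnc hPL hcop
  apply hBnc
  have hle : L ≤ Subgroup.centralizer ({x} : Set G) := by
    refine hgenL.ge.trans (iSup₂_le fun y hy => ?_)
    obtain ⟨hyP, hy1⟩ := hy
    by_cases hyx : y ∈ Subgroup.zpowers x
    · have hxy : x ∈ Subgroup.zpowers y := mem_zpowers_of_prime hxp hyx hy1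
      intro m hm
      have hmy : m ∈ Subgroup.centralizer ({y} : Set G) := (Subgroup.mem_inf.mp hm).2
      rw [Subgroup.mem_centralizer_iff]
      intro z hz
      rw [Set.mem_singleton_iff] at hz
      subst hz
      obtain ⟨i, rfl⟩ := Subgroup.mem_zpowers_iff.mp hxy
      have hc : Commute y m := Subgroup.mem_centralizer_iff.mp hmy y (Set.mem_singleton y)
      exact (hc.zpow_left i).eq
    · set B' := B ⊔ Subgroup.zpowers y with hB'
      have hB'A : B' ≤ A := sup_le hBA (Subgroup.zpowers_le.mpr (hPA hyP))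
      have hyB : y ∉ B := fun h => hy1 (hPB y hyP h)
      have hxB' : x ∉ B' := by
        intro hx
        obtain ⟨β, hβ, c, hc, hxe⟩ := exists_mul_of_mem_sup_abelian hAc hBA
          (Subgroup.zpowers_le.mpr (hPA hyP)) hx
        have hcP : c ∈ P := (Subgroup.zpowers_le.mpr hyP) hc
        have hβ1 : β = 1 := by
          apply hPB β _ hβ
          have : β = x * c⁻¹ := by rw [hxe]; group
          rw [this]; exact P.mul_mem hxP (P.inv_mem hcP)
        rw [hβ1, one_mul] at hxe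
        apply hyx
        have : y ∈ Subgroup.zpowers c :=
          mem_zpowers_of_prime (hAp y (hPA hyP)) hc (hxe ▸ hx1)
        rw [hxe]; exact this
      have hnPr : ¬ Pr B' := by
        intro hPr
        have := hBm hPr le_sup_left
        exact hyB (this (Subgroup.mem_sup_right (Subgroup.mem_zpowers y)))
      have hcent : ∀ m ∈ M ⊓ Subgroup.centralizer (B' : Set G), x * m = m * x := by
        by_contra hcon
        exact hnPr ⟨hB'A, hxB', hcon⟩
      intro m hm
      obtain ⟨hmL, hmy⟩ := Subgroup.mem_inf.mp hm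
      obtain ⟨hmM, hmB⟩ := Subgroup.mem_inf.mp hmL
      have hm' : m ∈ M ⊓ Subgroup.centralizer (B' : Set G) := by
        refine Subgroup.mem_inf.mpr ⟨hmM, ?_⟩
        rw [hB', centralizer_sup_eq]
        refine Subgroup.mem_inf.mpr ⟨hmB, ?_⟩
        rw [Subgroup.mem_centralizer_iff]
        intro z hz
        obtain ⟨i, rfl⟩ := Subgroup.mem_zpowers_iff.mp hz
        have hc : Commute y m := Subgroup.mem_centralizer_iff.mp hmy y (Set.mem_singleton y)
        exact (hc.zpow_left i).eq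
      rw [Subgroup.mem_centralizer_iff]
      intro z hz
      rw [Set.mem_singleton_iff] at hz
      subst hz
      exact hcent m hm'
  intro m hm
  exact Subgroup.mem_centralizer_iff.mp (hle hm) x (Set.mem_singleton x)

end ffsetup

end Cfsg.Agent.Lib.Helper14
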