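import Mathlib
import Cfsg.Prelude.Def_Local
import Cfsg.Agent.Lib.Helper14.PCore
import Cfsg.Agent.Lib.Helper14.FF1

set_option autoImplicit false

namespace Cfsg.Agent.Lib.Helper14

open Cfsg

section dualhh

variable {S : Type*} [Group S] [Finite S] {p : ℕ} [Fact p.Prime]

/-- a normal subgroup `M` with a central `p'`-subgroup `M0` of `p`-power index is a `p'`-group
as soon as `O_p(S) = 1`. -/
theorem coprime_of_central_of_ppow (hred : pCore p S = ⊥) (M M0 : Subgroup S) (hMn : M.Normal)
    (hle : M0 ≤ M) (hcent : ∀ z ∈ M0, ∀ c ∈ M, z * c = c * z)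
    (hM0 : (Nat.card M0).Coprime p) (m : ℕ) (hidx : M0.relIndex M = p ^ m) : M ≤ M0 := by
  have hp : p.Prime := Fact.out
  have hN : (M0.subgroupOf M).Normal := by
    refine ⟨fun z hz c => ?_⟩
    rw [Subgroup.mem_subgroupOf] at hz ⊢
    have h1 := hcent _ hz c c.2
    have h2 : ((c * z * c⁻¹ : ↥M) : S) = (z : S) := by
      push_cast
      calc (c : S) * (z : S) * (c : S)⁻¹ = ((z : S) * (c : S)) * (c : S)⁻¹ := by rw [h1]
        _ = (z : S) := by group
    rw [h2]; exact hz
  have hcardN : Nat.card (M0.subgroupOf M) = Nat.card M0 :=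
    Nat.card_congr (Subgroup.subgroupOfEquivOfLe hle).toEquiv
  have hcop : Nat.Coprime (Nat.card (M0.subgroupOf M)) (M0.subgroupOf M).index := by
    rw [hcardN]
    show (Nat.card M0).Coprime (M0.relIndex M)
    rw [hidx]
    exact Nat.Coprime.pow_right m hM0
  obtain ⟨Pc, hPc⟩ := Subgroup.exists_left_complement'_of_coprime hcop
  have hPcard : Nat.card Pc = p ^ m := by
    have h1 := hPc.card_mul_card
    have h2 := (M0.subgroupOf M).index_mul_card
    have h3 : (M0.subgroupOf M).index = p ^ m := hidx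
    have hpos : 0 < Nat.card (M0.subgroupOf M) := Nat.card_pos
    rw [h3] at h2
    have : Nat.card Pc * Nat.card (M0.subgroupOf M) = p ^ m * Nat.card (M0.subgroupOf M) := by
      rw [h1, h2]
    exact Nat.eq_of_mul_eq_mul_right hpos this
  set P₁ : Subgroup S := Pc.map M.subtype with hP₁
  have hP₁card : Nat.card P₁ = p ^ m := by
    rw [hP₁, Subgroup.card_map_of_injective M.subtype_injective, hPcard]
  have hP₁M : P₁ ≤ M := Subgroup.map_subtype_le _
  have hpow : ∀ x ∈ P₁, x ^ p ^ m = 1 := by
    intro x hx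
    have h1 : (⟨x, hx⟩ : ↥P₁) ^ Nat.card P₁ = 1 := pow_card_eq_one'
    rw [hP₁card] at h1
    exact congrArg Subtype.val h1
  -- `P₁` is the set of elements of `M` killed by `p ^ m`
  have hchar : ∀ x : S, x ∈ P₁ ↔ x ∈ M ∧ x ^ p ^ m = 1 := by
    intro x
    constructor
    · intro hx
      exact ⟨hP₁M hx, hpow x hx⟩
    · rintro ⟨hxM, hxp⟩
      obtain ⟨⟨⟨u, hu⟩, ⟨z, hz⟩⟩, huz⟩ := hPc.existsUnique (⟨x, hxM⟩ : ↥M) |>.exists
      simp only at huz
      have hzM0 : (z : S) ∈ M0 := Subgroup.mem_subgroupOf.mp hz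
      have huP : (u : S) ∈ P₁ := ⟨u, hu, rfl⟩
      have hx' : x = (u : S) * (z : S) := by
        have := congrArg Subtype.val huz
        simpa using this.symm
      have hcomm : Commute (u : S) (z : S) := (hcent _ hzM0 _ u.2).symm
      have hup : (u : S) ^ p ^ m = 1 := hpow _ huP
      have hzp : (z : S) ^ p ^ m = 1 := by
        have h1 : x ^ p ^ m = (u : S) ^ p ^ m * (z : S) ^ p ^ m := by
          rw [hx', hcomm.mul_pow]
        rw [hxp, hup, one_mul] at h1
        exact h1.symm
      have hz1 : (z : S) = 1 := by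
        have h1 : orderOf (z : S) ∣ p ^ m := orderOf_dvd_of_pow_eq_one hzp
        have h2 : orderOf (z : S) ∣ Nat.card M0 := by
          have := orderOf_dvd_natCard (⟨(z : S), hzM0⟩ : M0)
          rwa [Subgroup.orderOf_mk] at this
        have h3 : (Nat.card M0).Coprime (p ^ m) := Nat.Coprime.pow_right m hM0
        exact orderOf_eq_one_iff.mp (Nat.eq_one_of_dvd_coprimes h3 h2 h1)
      rw [hx', hz1, mul_one]
      exact huP
  have hP₁n : P₁.Normal := by
    refine ⟨fun x hx g => ?_⟩
    rw [hchar] at hx ⊢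
    refine ⟨hMn.conj_mem x hx.1 g, ?_⟩
    rw [conj_pow, hx.2]; group
  have hP₁p : IsPGroup p P₁ := IsPGroup.of_card hP₁card
  have hP₁bot : P₁ = ⊥ := by
    have := le_pCore hP₁n hP₁p
    rw [hred] at this
    exact le_bot_iff.mp this
  have hm1 : M0.relIndex M = 1 := by
    rw [hidx, ← hP₁card, hP₁bot, Subgroup.card_bot]
  exact Subgroup.relIndex_eq_one.mp hm1

/-- **dual Hall–Higman lemma.** In a finite `p`-solvable group `S` with `O_p(S) = 1`,
`C_S(O_{p'}(S)) ≤ O_{p'}(S)`. -/
theorem centralizer_pPrimeCore_le (hS : IsPSolvable p S) (hred : pCore p S = ⊥) :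
    Subgroup.centralizer (pPrimeCore p S : Set S) ≤ pPrimeCore p S := by
  have hp : p.Prime := Fact.out
  have hKn : (pPrimeCore p S).Normal := inferInstance
  have hKc : (Nat.card (pPrimeCore p S)).Coprime p := pPrimeCore_coprime
  obtain ⟨n, H, h0, hlast, hmono, hnorm, hfac⟩ := hS
  have key : ∀ i : Fin (n + 1),
      Subgroup.centralizer (pPrimeCore p S : Set S) ⊓ H i ≤ pPrimeCore p S := by
    intro i
    induction i using Fin.induction with
    | zero => rw [h0]; simp
    | succ i ih =>
      have hle : H i.castSucc ≤ H i.succ := hmono (Fin.castSucc_lt_succ).le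
      have hn1 : (H i.succ).Normal := hnorm _
      have hn0 : (H i.castSucc).Normal := hnorm _
      have hMn : (Subgroup.centralizer (pPrimeCore p S : Set S) ⊓ H i.succ).Normal := inferInstance
      have hM0c : (Nat.card ↥(Subgroup.centralizer (pPrimeCore p S : Set S) ⊓ H i.castSucc)).Coprime p :=
        Nat.Coprime.coprime_dvd_left (Subgroup.card_dvd_of_le ih) hKc
      have hcent : ∀ z ∈ Subgroup.centralizer (pPrimeCore p S : Set S) ⊓ H i.castSucc,
          ∀ c ∈ Subgroup.centralizer (pPrimeCore p S : Set S) ⊓ H i.succ, z * c = c * z := by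
        intro z hz c hc
        exact Subgroup.mem_centralizer_iff.mp hc.1 z (ih hz)
      have hle' : Subgroup.centralizer (pPrimeCore p S : Set S) ⊓ H i.castSucc ≤
          Subgroup.centralizer (pPrimeCore p S : Set S) ⊓ H i.succ := inf_le_inf_left _ hle
      have hdvd : (Subgroup.centralizer (pPrimeCore p S : Set S) ⊓ H i.castSucc).relIndex
          (Subgroup.centralizer (pPrimeCore p S : Set S) ⊓ H i.succ) ∣
          (H i.castSucc).relIndex (H i.succ) := by
        have e1 : Subgroup.centralizer (pPrimeCore p S : Set S) ⊓ H i.castSucc =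
            H i.castSucc ⊓ (Subgroup.centralizer (pPrimeCore p S : Set S) ⊓ H i.succ) := by
          rw [inf_comm (H i.castSucc), inf_assoc, inf_eq_right.2 hle]
        rw [e1, Subgroup.inf_relIndex_right, ← Subgroup.relIndex_sup_right]
        have h1 : H i.castSucc ≤ Subgroup.centralizer (pPrimeCore p S : Set S) ⊓ H i.succ ⊔ H i.castSucc :=
          le_sup_right
        have h2 : Subgroup.centralizer (pPrimeCore p S : Set S) ⊓ H i.succ ⊔ H i.castSucc ≤ H i.succ :=
          sup_le inf_le_right hle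
        exact Dvd.intro _ (Subgroup.relIndex_mul_relIndex _ _ _ h1 h2)
      rcases hfac i with ⟨m, hm⟩ | hc
      · rw [hm] at hdvd
        obtain ⟨b, -, hb⟩ := (Nat.dvd_prime_pow hp).mp hdvd
        exact (coprime_of_central_of_ppow hred _ _ hMn hle' hcent hM0c b hb).trans ih
      · have hcard := card_mul_relIndex hle'
        apply le_pPrimeCore hMn
        rw [← hcard]
        exact Nat.Coprime.mul_left hM0c (Nat.Coprime.coprime_dvd_left hdvd hc)
  have := key (Fin.last n)
  rw [hlast, inf_top_eq] at this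
  exact this

end dualhh

end Cfsg.Agent.Lib.Helper14
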