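import Mathlib
import Cfsg.Prelude.Def_PLocal
import Cfsg.Prelude.Def_Local
import Cfsg.Agent.Lib.Helper14.FF1

set_option autoImplicit false

namespace Cfsg.Agent.Lib.Helper14

open Cfsg
open scoped commutatorElement

section commcyc

variable {G : Type*} [Group G] [Finite G]

/-- `|[V, ⟨a⟩]| · |C_V(a)| = |V|` for an abelian group `V` normalized by `a`. -/
theorem card_comm_zpowers {V : Subgroup G} (hVc : ∀ x ∈ V, ∀ y ∈ V, x * y = y * x) (a : G)
    (ha : a ∈ Subgroup.normalizer (V : Set G)) :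
    Nat.card ↥(⁅V, Subgroup.zpowers a⁆) *
      Nat.card ↥(V ⊓ Subgroup.centralizer ((Subgroup.zpowers a : Subgroup G) : Set G)) =
        Nat.card V := by
  let f : ↥V →* ↥V :=
    { toFun := fun v => ⟨⁅(v : G), a⁆, comm_mem_of_normalizer v.2 ha⟩
      map_one' := by
        apply Subtype.ext
        show ⁅(1 : G), a⁆ = 1
        exact commutatorElement_one_left a
      map_mul' := fun v w => by
        apply Subtype.ext
        show ⁅(v : G) * (w : G), a⁆ = ⁅(v : G), a⁆ * ⁅(w : G), a⁆
        exact comm_mul_left_of_comm hVc v.2 w.2 ha }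
  have hf : ∀ v : ↥V, ((f v : ↥V) : G) = ⁅(v : G), a⁆ := fun v => rfl
  set R : Subgroup G := f.range.map V.subtype with hR
  have hRmem : ∀ v ∈ V, ⁅v, a⁆ ∈ R := fun v hv => ⟨f ⟨v, hv⟩, ⟨⟨v, hv⟩, rfl⟩, rfl⟩
  -- `[V, ⟨a⟩] = R`
  have hpow : ∀ n : ℕ, ∀ v ∈ V, ⁅v, a ^ n⁆ ∈ R := by
    intro n
    induction n with
    | zero =>
      intro v _
      rw [pow_zero, commutatorElement_one_right]
      exact R.one_mem
    | succ n ih =>
      intro v hv
      have e : ⁅v, a ^ (n + 1)⁆ = ⁅v, a⁆ * ⁅a * v * a⁻¹, a ^ n⁆ := by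
        rw [pow_succ', commutatorElement_mul_right_eq_mul_conj, mul_assoc, mul_assoc,
          ← mul_assoc a, conjugate_commutatorElement]
        congr 2
        rw [← pow_succ', pow_succ, mul_inv_cancel_right]
      rw [e]
      exact R.mul_mem (hRmem v hv) (ih _ (conj_mem_of_normalizer hv ha))
  have hcomm : ⁅V, Subgroup.zpowers a⁆ = R := by
    apply le_antisymm
    · rw [Subgroup.commutator_le]
      intro v hv z hz
      rw [← mem_powers_iff_mem_zpowers] at hz
      obtain ⟨n, rfl⟩ := (Submonoid.mem_powers_iff _ _).mp hz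
      exact hpow n v hv
    · rintro _ ⟨_, ⟨v, rfl⟩, rfl⟩
      exact Subgroup.commutator_mem_commutator v.2 (Subgroup.mem_zpowers a)
  have hker : f.ker =
      (V ⊓ Subgroup.centralizer ((Subgroup.zpowers a : Subgroup G) : Set G)).subgroupOf V := by
    ext v
    rw [MonoidHom.mem_ker, Subgroup.mem_subgroupOf, Subgroup.mem_inf]
    constructor
    · intro h
      have h1 : ⁅(v : G), a⁆ = 1 := congrArg Subtype.val h
      have h2 : (v : G) * a = a * v := commutatorElement_eq_one_iff_mul_comm.mp h1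
      refine ⟨v.2, ?_⟩
      rw [Subgroup.mem_centralizer_iff]
      intro z hz
      obtain ⟨i, rfl⟩ := Subgroup.mem_zpowers_iff.mp hz
      have hc : Commute a (v : G) := h2.symm
      exact (hc.zpow_left i).eq
    · rintro ⟨-, h⟩
      apply Subtype.ext
      show ⁅(v : G), a⁆ = 1
      rw [commutatorElement_eq_one_iff_mul_comm]
      exact (Subgroup.mem_centralizer_iff.mp h a (Subgroup.mem_zpowers a)).symm
  have h1 : Nat.card f.ker * f.ker.index = Nat.card ↥V := Subgroup.card_mul_index f.ker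
  rw [Subgroup.index_ker] at h1
  have h2 : Nat.card R = Nat.card f.range :=
    Subgroup.card_map_of_injective V.subtype_injective
  have h3 : Nat.card f.ker =
      Nat.card ↥(V ⊓ Subgroup.centralizer ((Subgroup.zpowers a : Subgroup G) : Set G)) := by
    rw [hker]
    exact Nat.card_congr (Subgroup.subgroupOfEquivOfLe inf_le_left).toEquiv
  rw [hcomm, h2, ← h3, mul_comm]
  exact h1

end commcyc

section ffclaims

variable {G : Type*} [Group G] [Finite G] {p : ℕ} [Fact p.Prime] {V H M : Subgroup G}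

omit [Finite G] [Fact p.Prime] in
theorem ff_bot (V : Subgroup G) : ff V ⊥ = Nat.card V := by
  unfold ff
  have h : V ⊓ Subgroup.centralizer (((⊥ : Subgroup G) : Subgroup G) : Set G) = V := by
    rw [inf_eq_left]
    intro v _
    rw [Subgroup.mem_centralizer_iff]
    intro y hy
    rw [SetLike.mem_coe, Subgroup.mem_bot] at hy
    rw [hy, one_mul, mul_one]
  rw [h, Subgroup.card_bot, one_mul]

omit [Finite G] [Fact p.Prime] in
theorem exists_ne_one_of_ne_bot {A : Subgroup G} (hA1 : A ≠ ⊥) : ∃ x ∈ A, x ≠ 1 := by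
  by_contra hcon
  apply hA1
  rw [eq_bot_iff]
  intro y hy
  by_contra hy1
  exact hcon ⟨y, hy, fun h => hy1 (Subgroup.mem_bot.mpr h)⟩

/-- **Claim 1**: every best offender `A ≤ H` satisfies `|A| |C_V(A)| = |V|`. -/
theorem FFSetup.bo_ff_eq (S : FFSetup p V H M) : ∀ (n : ℕ) (A : Subgroup G), Nat.card A = n →
    A ≤ H → IsBestOffenderOn p V A → ff V A = Nat.card V := by
  intro n
  induction n using Nat.strong_induction_on with
  | _ n ih =>
  intro A hn hAH hA
  by_cases hA1 : A = ⊥
  · subst hA1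
    exact ff_bot V
  · obtain ⟨x, hxA, hx1⟩ := exists_ne_one_of_ne_bot hA1
    obtain ⟨B, hBA, hgen, hxB, hnc⟩ := S.bo_exists_hyperplane hAH hA x hxA hx1
    obtain ⟨hBbo, hff⟩ := S.bo_hyperplane hAH hA hBA x hxA hgen hnc
    have hlt : Nat.card B < n := by
      by_contra hge
      have h1 : Nat.card A ≤ Nat.card B := by omega
      have := subgroup_eq_of_le_of_card_le hBA h1
      exact hxB (this ▸ hxA)
    rw [← hff]
    exact ih (Nat.card B) hlt B rfl (hBA.trans hAH) hBbo

/-- **Claim 2**: a minimal nontrivial best offender is cyclic of order `p`. -/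
theorem FFSetup.bo_min_card {A : Subgroup G} (S : FFSetup p V H M) (hAH : A ≤ H)
    (hA : IsBestOffenderOn p V A) (hA1 : A ≠ ⊥)
    (hmin : ∀ B : Subgroup G, B ≤ A → IsBestOffenderOn p V B → B ≠ ⊥ → B = A) :
    ∃ a ∈ A, a ≠ 1 ∧ a ^ p = 1 ∧ A = Subgroup.zpowers a ∧ Nat.card A = p := by
  obtain ⟨x, hxA, hx1⟩ := exists_ne_one_of_ne_bot hA1
  obtain ⟨B, hBA, hgen, hxB, hnc⟩ := S.bo_exists_hyperplane hAH hA x hxA hx1
  obtain ⟨hBbo, -⟩ := S.bo_hyperplane hAH hA hBA x hxA hgen hnc
  have hB1 : B = ⊥ := by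
    by_contra hB1
    have := hmin B hBA hBbo hB1
    exact hxB (this ▸ hxA)
  have hxp := S.bo_pow hAH hA x hxA
  have hAz : A = Subgroup.zpowers x := by rw [hgen, hB1, bot_sup_eq]
  refine ⟨x, hxA, hx1, hxp, hAz, ?_⟩
  rw [hAz, Nat.card_zpowers, orderOf_eq_prime hxp hx1]

/-- a best offender of order `p`: the numerical data. -/
theorem FFSetup.bo_prime_data {A : Subgroup G} (S : FFSetup p V H M) (hAH : A ≤ H)
    (hA : IsBestOffenderOn p V A) (hcard : Nat.card A = p) :
    Nat.card ↥(⁅V, A⁆) = p ∧ (V ⊓ Subgroup.centralizer (A : Set G)).relIndex V = p := by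
  have hp : p.Prime := Fact.out
  have hff := S.bo_ff_eq _ A rfl hAH hA
  unfold ff at hff
  rw [hcard] at hff
  have h1 := card_mul_relIndex (inf_le_left : V ⊓ Subgroup.centralizer (A : Set G) ≤ V)
  have hpos : 0 < Nat.card ↥(V ⊓ Subgroup.centralizer (A : Set G)) := Nat.card_pos
  have hrel : (V ⊓ Subgroup.centralizer (A : Set G)).relIndex V = p := by
    have : Nat.card ↥(V ⊓ Subgroup.centralizer (A : Set G)) *
        (V ⊓ Subgroup.centralizer (A : Set G)).relIndex V =
        Nat.card ↥(V ⊓ Subgroup.centralizer (A : Set G)) * p := by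
      rw [h1, ← hff, mul_comm]
    exact Nat.eq_of_mul_eq_mul_left hpos this
  refine ⟨?_, hrel⟩
  have hA1 : A ≠ ⊥ := by
    intro h
    rw [h, Subgroup.card_bot] at hcard
    exact hp.one_lt.ne hcard
  obtain ⟨x, hxA, hx1⟩ := exists_ne_one_of_ne_bot hA1
  have hxp := S.bo_pow hAH hA x hxA
  have hAz : A = Subgroup.zpowers x := by
    have hle : Subgroup.zpowers x ≤ A := Subgroup.zpowers_le.mpr hxA
    have hc : Nat.card A ≤ Nat.card (Subgroup.zpowers x) := by
      rw [hcard, Nat.card_zpowers, orderOf_eq_prime hxp hx1]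
    exact (subgroup_eq_of_le_of_card_le hle hc).symm
  have h2 := card_comm_zpowers S.hVc x (S.hHV (hAH hxA))
  rw [← hAz] at h2
  have : Nat.card ↥(⁅V, A⁆) * Nat.card ↥(V ⊓ Subgroup.centralizer (A : Set G)) =
      p * Nat.card ↥(V ⊓ Subgroup.centralizer (A : Set G)) := by rw [h2, hff]
  exact Nat.eq_of_mul_eq_mul_right hpos this

/-- a best offender of order `p` is a minimal nontrivially-acting best offender. -/
theorem FFSetup.bo_prime_min {A : Subgroup G} (S : FFSetup p V H M) (hAH : A ≤ H)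
    (hcard : Nat.card A = p) :
    ⁅V, A⁆ ≠ ⊥ ∧ ∀ C : Subgroup G, C ≤ A → IsBestOffenderOn p V C → ⁅V, C⁆ ≠ ⊥ → C = A := by
  have hp : p.Prime := Fact.out
  have hA1 : A ≠ ⊥ := by
    intro h
    rw [h, Subgroup.card_bot] at hcard
    exact hp.one_lt.ne hcard
  refine ⟨S.comm_ne_bot hAH hA1, ?_⟩
  intro C hCA _ hC
  have hC1 : C ≠ ⊥ := by
    intro h
    rw [h] at hC
    exact hC (Subgroup.commutator_bot_right V)
  have hdvd : Nat.card C ∣ p := hcard ▸ Subgroup.card_dvd_of_le hCA
  rcases (Nat.dvd_prime hp).mp hdvd with h | h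
  · exact absurd (Subgroup.card_eq_one.mp h) hC1
  · exact subgroup_eq_of_le_of_card_le hCA (by rw [h, hcard])

/-- a minimal nontrivially-acting best offender has order `p`. -/
theorem FFSetup.bo_min_card' {A : Subgroup G} (S : FFSetup p V H M) (hAH : A ≤ H)
    (hA : IsBestOffenderOn p V A) (hAV : ⁅V, A⁆ ≠ ⊥)
    (hmin : ∀ B : Subgroup G, B ≤ A → IsBestOffenderOn p V B → ⁅V, B⁆ ≠ ⊥ → B = A) :
    ∃ a ∈ A, a ≠ 1 ∧ a ^ p = 1 ∧ A = Subgroup.zpowers a ∧ Nat.card A = p := by
  have hA1 : A ≠ ⊥ := by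
    intro h
    rw [h] at hAV
    exact hAV (Subgroup.commutator_bot_right V)
  exact S.bo_min_card hAH hA hA1
    (fun B hBA hB hB1 => hmin B hBA hB (S.comm_ne_bot (hBA.trans hAH) hB1))

/-- **Claim 3**: every best offender is a direct product of best offenders of order `p`. -/
theorem FFSetup.bo_decomp (S : FFSetup p V H M) : ∀ (n : ℕ) (A : Subgroup G), Nat.card A = n →
    A ≤ H → IsBestOffenderOn p V A →
    ∃ (k : ℕ) (B : Fin k → Subgroup G),
      (∀ i, B i ≤ A ∧ IsBestOffenderOn p V (B i) ∧ Nat.card (B i) = p) ∧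
        iSupIndep B ∧ ⨆ i, B i = A := by
  intro n
  induction n using Nat.strong_induction_on with
  | _ n ih =>
  intro A hn hAH hA
  by_cases hA1 : A = ⊥
  · subst hA1
    refine ⟨0, fun i => i.elim0, fun i => i.elim0, fun i => i.elim0, ?_⟩
    rw [iSup_of_empty]
  · have hAc := S.bo_comm hAH hA
    -- a minimal nontrivial best offender inside `A`
    let Pr : Subgroup G → Prop := fun C => C ≤ A ∧ IsBestOffenderOn p V C ∧ C ≠ ⊥
    obtain ⟨C, -, hCmin⟩ := Finite.exists_le_minimal (p := Pr) (a := A) ⟨le_rfl, hA, hA1⟩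
    obtain ⟨⟨hCA, hCbo, hC1⟩, hCm⟩ := hCmin
    obtain ⟨c, hcC, hc1, hcp, hCz, hCcard⟩ := S.bo_min_card (hCA.trans hAH) hCbo hC1
      (fun B hBC hB hB1 => le_antisymm hBC (hCm ⟨hBC.trans hCA, hB, hB1⟩ hBC))
    have hcA : c ∈ A := hCA hcC
    obtain ⟨B, hBA, hgen, hcB, hnc⟩ := S.bo_exists_hyperplane hAH hA c hcA hc1
    obtain ⟨hBbo, -⟩ := S.bo_hyperplane hAH hA hBA c hcA hgen hnc
    have hlt : Nat.card B < n := by
      by_contra hge
      have h1 : Nat.card A ≤ Nat.card B := by omega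
      have := subgroup_eq_of_le_of_card_le hBA h1
      exact hcB (this ▸ hcA)
    obtain ⟨k, B', hB', hind, hsup⟩ := ih (Nat.card B) hlt B rfl (hBA.trans hAH) hBbo
    have hCB : ∀ y ∈ C, y ∈ B → y = 1 := by
      intro y hyC hyB
      by_contra hy1
      rw [hCz] at hyC
      exact hcB ((Subgroup.zpowers_le.mpr hyB) (mem_zpowers_of_prime hcp hyC hy1))
    have hB'B : ∀ j, B' j ≤ B := fun j => hsup ▸ le_iSup B' j
    refine ⟨k + 1, (Fin.cons C B' : Fin (k + 1) → Subgroup G), ?_, ?_, ?_⟩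
    · intro i
      refine Fin.cases ?_ (fun i' => ?_) i
      · rw [Fin.cons_zero]
        exact ⟨hCA, hCbo, hCcard⟩
      · rw [Fin.cons_succ]
        exact ⟨(hB' i').1.trans hBA, (hB' i').2.1, (hB' i').2.2⟩
    · intro i
      refine Fin.cases ?_ (fun i' => ?_) i
      · rw [Fin.cons_zero]
        have hle : (⨆ j, ⨆ (_ : j ≠ 0), (Fin.cons C B' : Fin (k + 1) → Subgroup G) j) ≤ B := by
          refine iSup_le fun j => iSup_le fun hj => ?_
          obtain ⟨j', rfl⟩ := Fin.exists_succ_eq.mpr hj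
          rw [Fin.cons_succ]
          exact hB'B j'
        refine Disjoint.mono_right hle ?_
        rw [Subgroup.disjoint_def]
        intro y hyC hyB
        exact hCB y hyC hyB
      · rw [Fin.cons_succ]
        set Y := ⨆ j', ⨆ (_ : j' ≠ i'), B' j' with hY
        have hYB : Y ≤ B := iSup_le fun j' => iSup_le fun _ => hB'B j'
        have hle : (⨆ j, ⨆ (_ : j ≠ i'.succ), (Fin.cons C B' : Fin (k + 1) → Subgroup G) j) ≤
            C ⊔ Y := by
          refine iSup_le fun j => ?_
          refine Fin.cases ?_ (fun j' => ?_) j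
          · refine iSup_le fun _ => ?_
            rw [Fin.cons_zero]
            exact le_sup_left
          · refine iSup_le fun hj => ?_
            rw [Fin.cons_succ]
            have hj' : j' ≠ i' := fun h => hj (by rw [h])
            exact le_sup_of_le_right (le_iSup_of_le j' (le_iSup_of_le hj' le_rfl))
        refine Disjoint.mono_right hle ?_
        rw [Subgroup.disjoint_def]
        intro y hy1 hy2
        obtain ⟨c', hc', z, hz, rfl⟩ := exists_mul_of_mem_sup_abelian hAc hCA (hYB.trans hBA) hy2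
        have hc'1 : c' = 1 := by
          apply hCB c' hc'
          have : c' = (c' * z) * z⁻¹ := by group
          rw [this]
          exact B.mul_mem (hB'B i' hy1) (B.inv_mem (hYB hz))
        rw [hc'1, one_mul] at hy1 ⊢
        have hd := hind i'
        rw [Subgroup.disjoint_def] at hd
        exact hd hy1 hz
    · apply le_antisymm
      · refine iSup_le fun j => ?_
        refine Fin.cases ?_ (fun j' => ?_) j
        · rw [Fin.cons_zero]; exact hCA
        · rw [Fin.cons_succ]; exact (hB'B j').trans hBA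
      · rw [hgen, ← hCz, ← hsup]
        refine sup_le (iSup_le fun j' => ?_) ?_
        · refine le_iSup_of_le j'.succ ?_
          rw [Fin.cons_succ]
        · refine le_iSup_of_le 0 ?_
          rw [Fin.cons_zero]

end ffclaims

end Cfsg.Agent.Lib.Helper14
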