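import Mathlib
import Cfsg.Agent.Lib.Helper14.SL2Solv

set_option autoImplicit false

namespace Cfsg.Agent.Lib.Helper14

open Matrix

section config

variable {K : Type*} [Field K] {p : ℕ} [Fact p.Prime] [CharP K p]

omit [CharP K p] in
/-- in a `2`-group, elements of order dividing `2p` (`p` odd) have square `1`. -/
theorem two_group_sq (hp2 : p ≠ 2) (R : Subgroup (SpecialLinearGroup (Fin 2) K))
    (hR2 : IsPGroup 2 R) : ∀ h ∈ R, h ^ (2 * p) = 1 → h * h = 1 := by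
  have hp : p.Prime := Fact.out
  intro h hh h2p
  obtain ⟨j, hj⟩ := hR2 ⟨h, hh⟩
  have hj' : h ^ (2 ^ j) = 1 := congrArg Subtype.val hj
  have h1 : orderOf h ∣ 2 * p := orderOf_dvd_of_pow_eq_one h2p
  have h2 : orderOf h ∣ 2 ^ j := orderOf_dvd_of_pow_eq_one hj'
  have h3 : Nat.Coprime (orderOf h) p :=
    Nat.Coprime.coprime_dvd_left h2
      (Nat.Coprime.pow_left j ((Nat.coprime_primes Nat.prime_two hp).mpr (Ne.symm hp2)))
  have h4 : orderOf h ∣ 2 := h3.dvd_of_dvd_mul_right h1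
  rw [← pow_two]
  exact orderOf_dvd_iff_pow_eq_one.mp h4

/-- a nonabelian finite `2`-subgroup of `SL₂(K)` contains an element `h` with `h² ≠ 1` whose
conjugates in the subgroup are `h` and `h⁻¹` only. -/
theorem SL2_two_group_special (hp2 : p ≠ 2) (R : Subgroup (SpecialLinearGroup (Fin 2) K))
    [Finite R] (hR2 : IsPGroup 2 R) (hab : ¬ ∀ a ∈ R, ∀ b ∈ R, a * b = b * a) :
    ∃ h ∈ R, h * h ≠ 1 ∧ ∀ n ∈ R, n * h * n⁻¹ = h ∨ n * h * n⁻¹ = h⁻¹ := by
  have h2K := two_ne_zero_of_char K p hp2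
  haveI : Fact (Nat.Prime 2) := ⟨Nat.prime_two⟩
  have hRp := two_group_sq hp2 R hR2
  haveI : Group.IsNilpotent ↥R := hR2.isNilpotent
  obtain ⟨E, hEn, hEc, hEmax⟩ := Cfsg.Agent.Lib.Helper59.exists_maximal_normal_abelian ↥R
  have hcen := Cfsg.Agent.Lib.Helper59.centralizer_le_of_maximal E hEn hEc hEmax
  have hex : ∃ h₀ ∈ E, (h₀ : SpecialLinearGroup (Fin 2) K) * h₀ ≠ 1 := by
    by_contra hall
    apply hab
    have hall' : ∀ h₀ ∈ E, (h₀ : SpecialLinearGroup (Fin 2) K) * h₀ = 1 := by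
      intro h₀ hh₀
      by_contra hne
      exact hall ⟨h₀, hh₀, hne⟩
    have hE : ∀ r : ↥R, r ∈ E := by
      intro r
      apply hcen
      rw [Subgroup.mem_centralizer_iff]
      intro e he
      apply Subtype.ext
      exact (SL2_central_of_sq h2K (e : SpecialLinearGroup (Fin 2) K) r (hall' e he)).symm
    intro a ha b hb
    have := hEc.is_comm.comm ⟨⟨a, ha⟩, hE _⟩ ⟨⟨b, hb⟩, hE _⟩
    exact congrArg (fun t : ↥E => ((t : ↥R) : SpecialLinearGroup (Fin 2) K)) this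
  obtain ⟨h₀, hh₀E, hh2⟩ := hex
  refine ⟨(h₀ : SpecialLinearGroup (Fin 2) K), h₀.2, hh2, ?_⟩
  intro n hn
  have h2p : (h₀ : SpecialLinearGroup (Fin 2) K) ^ (2 * p) ≠ 1 := fun e => hh2 (hRp _ h₀.2 e)
  have h1 : (⟨n, hn⟩ : ↥R) * h₀ * (⟨n, hn⟩ : ↥R)⁻¹ ∈ E := hEn.conj_mem h₀ hh₀E _
  have h2 := hEc.is_comm.comm ⟨_, h1⟩ ⟨h₀, hh₀E⟩
  have h3 : (n * (h₀ : SpecialLinearGroup (Fin 2) K) * n⁻¹) * (h₀ : SpecialLinearGroup (Fin 2) K) =
      (h₀ : SpecialLinearGroup (Fin 2) K) * (n * (h₀ : SpecialLinearGroup (Fin 2) K) * n⁻¹) :=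
    congrArg (fun t : ↥E => ((t : ↥R) : SpecialLinearGroup (Fin 2) K)) h2
  exact SL2_conj_comm hp2 _ n h2p h3

/-- an element of order `p` (odd) commuting with a special element of a `2`-group that it
normalizes centralizes the `2`-group. -/
theorem SL2_centralizes_of_comm_special (hp2 : p ≠ 2) (x : SpecialLinearGroup (Fin 2) K)
    (hx : x ^ p = 1) (R : Subgroup (SpecialLinearGroup (Fin 2) K))
    (hR2 : IsPGroup 2 R) (hxR : ∀ h ∈ R, x * h * x⁻¹ ∈ R)
    (h : SpecialLinearGroup (Fin 2) K) (hh2 : h * h ≠ 1)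
    (hi : ∀ n ∈ R, n * h * n⁻¹ = h ∨ n * h * n⁻¹ = h⁻¹) (hxh : x * h = h * x) :
    ∀ n ∈ R, x * n = n * x := by
  have hp : p.Prime := Fact.out
  have hRp := two_group_sq hp2 R hR2
  set C : Subgroup (SpecialLinearGroup (Fin 2) K) := R ⊓ Subgroup.centralizer {h} with hC
  have hCmem : ∀ c, c ∈ C ↔ c ∈ R ∧ c * h = h * c := by
    intro c
    rw [hC, Subgroup.mem_inf, Subgroup.mem_centralizer_iff]
    constructor
    · rintro ⟨h1, h2⟩
      exact ⟨h1, (h2 h (Set.mem_singleton h)).symm⟩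
    · rintro ⟨h1, h2⟩
      refine ⟨h1, ?_⟩
      intro y hy
      rw [Set.mem_singleton_iff] at hy
      rw [hy]; exact h2.symm
  have hCab : ∀ a ∈ C, ∀ b ∈ C, a * b = b * a := by
    intro a ha b hb
    exact SL2_comm_of_comm h a b hh2 ((hCmem a).mp ha).2 ((hCmem b).mp hb).2
  have hxC : ∀ c ∈ C, x * c * x⁻¹ ∈ C := by
    intro c hc
    obtain ⟨hc1, hc2⟩ := (hCmem c).mp hc
    refine (hCmem _).mpr ⟨hxR c hc1, ?_⟩
    have hxh' : x⁻¹ * h = h * x⁻¹ := by
      calc x⁻¹ * h = x⁻¹ * (h * x) * x⁻¹ := by group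
        _ = x⁻¹ * (x * h) * x⁻¹ := by rw [hxh]
        _ = h * x⁻¹ := by group
    calc x * c * x⁻¹ * h = x * c * (x⁻¹ * h) := by group
      _ = x * c * (h * x⁻¹) := by rw [hxh']
      _ = x * (c * h) * x⁻¹ := by group
      _ = x * (h * c) * x⁻¹ := by rw [hc2]
      _ = (x * h) * c * x⁻¹ := by group
      _ = (h * x) * c * x⁻¹ := by rw [hxh]
      _ = h * (x * c * x⁻¹) := by group
  have hxCc : ∀ c ∈ C, x * c = c * x :=
    SL2_centralizes_abelian hp2 x hx C hCab (fun c hc => hRp c ((hCmem c).mp hc).1) hxC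
  intro n hn
  by_cases hnC : n ∈ C
  · exact hxCc n hnC
  have hninv : n * h * n⁻¹ = h⁻¹ := by
    rcases hi n hn with e | e
    · exfalso
      apply hnC
      refine (hCmem n).mpr ⟨hn, ?_⟩
      calc n * h = (n * h * n⁻¹) * n := by group
        _ = h * n := by rw [e]
    · exact e
  have hninv' : n⁻¹ * h * n = h⁻¹ := by
    have e : n * h⁻¹ * n⁻¹ = h := by
      calc n * h⁻¹ * n⁻¹ = (n * h * n⁻¹)⁻¹ := by group
        _ = h := by rw [hninv, inv_inv]
    calc n⁻¹ * h * n = n⁻¹ * (n * h⁻¹ * n⁻¹) * n := by rw [e]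
      _ = h⁻¹ := by group
  have hxh1 : x * h * x⁻¹ = h := by
    calc x * h * x⁻¹ = h * x * x⁻¹ := by rw [hxh]
      _ = h := by group
  have hxh2 : x⁻¹ * h * x = h := by
    calc x⁻¹ * h * x = x⁻¹ * (h * x) := by group
      _ = x⁻¹ * (x * h) := by rw [hxh]
      _ = h := by group
  set c := x * n * x⁻¹ * n⁻¹ with hc
  have hcR : c ∈ R := R.mul_mem (hxR n hn) (R.inv_mem hn)
  have e1 : (x * n * x⁻¹) * h * (x * n * x⁻¹)⁻¹ = h⁻¹ := by
    calc (x * n * x⁻¹) * h * (x * n * x⁻¹)⁻¹ = x * (n * (x⁻¹ * h * x) * n⁻¹) * x⁻¹ := by group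
      _ = x * (n * h * n⁻¹) * x⁻¹ := by rw [hxh2]
      _ = x * h⁻¹ * x⁻¹ := by rw [hninv]
      _ = (x * h * x⁻¹)⁻¹ := by group
      _ = h⁻¹ := by rw [hxh1]
  have e2 : c * h * c⁻¹ = h := by
    calc c * h * c⁻¹ = (x * n * x⁻¹) * (n⁻¹ * h * n) * (x * n * x⁻¹)⁻¹ := by
          simp only [hc]; group
      _ = (x * n * x⁻¹) * h⁻¹ * (x * n * x⁻¹)⁻¹ := by rw [hninv']
      _ = ((x * n * x⁻¹) * h * (x * n * x⁻¹)⁻¹)⁻¹ := by group
      _ = h := by rw [e1, inv_inv]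
  have hcC : c ∈ C := by
    refine (hCmem c).mpr ⟨hcR, ?_⟩
    calc c * h = (c * h * c⁻¹) * c := by group
      _ = h * c := by rw [e2]
  have hxc : Commute x c := hxCc c hcC
  have hpow : ∀ i : ℕ, x ^ i * n * (x ^ i)⁻¹ = c ^ i * n := by
    intro i
    induction i with
    | zero => simp
    | succ i ih =>
      have hxci : x * c ^ i * x⁻¹ = c ^ i := by
        have := (hxc.pow_right i).eq
        calc x * c ^ i * x⁻¹ = c ^ i * x * x⁻¹ := by rw [this]
          _ = c ^ i := by group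
      calc x ^ (i + 1) * n * (x ^ (i + 1))⁻¹ = x * (x ^ i * n * (x ^ i)⁻¹) * x⁻¹ := by
            rw [pow_succ']; group
        _ = x * (c ^ i * n) * x⁻¹ := by rw [ih]
        _ = (x * c ^ i * x⁻¹) * (x * n * x⁻¹ * n⁻¹) * n := by group
        _ = c ^ i * c * n := by rw [hxci]
        _ = c ^ (i + 1) * n := by rw [pow_succ]
  have hcp : c ^ p = 1 := by
    have := hpow p
    rw [hx, inv_one, one_mul, mul_one] at this
    calc c ^ p = c ^ p * n * n⁻¹ := by group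
      _ = n * n⁻¹ := by rw [← this]
      _ = 1 := mul_inv_cancel n
  have hc1 : c = 1 := by
    obtain ⟨j, hj⟩ := hR2 ⟨c, hcR⟩
    have hj' : c ^ (2 ^ j) = 1 := congrArg Subtype.val hj
    have h1 : orderOf c ∣ p := orderOf_dvd_of_pow_eq_one hcp
    have h2 : orderOf c ∣ 2 ^ j := orderOf_dvd_of_pow_eq_one hj'
    have h3 : Nat.Coprime p (2 ^ j) :=
      Nat.Coprime.pow_right j ((Nat.coprime_primes hp Nat.prime_two).mpr hp2)
    exact orderOf_eq_one_iff.mp (Nat.eq_one_of_dvd_coprimes h3 h1 h2)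
  calc x * n = (x * n * x⁻¹ * n⁻¹) * n * x := by group
    _ = n * x := by rw [← hc, hc1, one_mul]

/-- the quaternion configuration: an element `x` of order `p` (odd) normalizing but not
centralizing a finite `2`-subgroup `R` of `SL₂(K)` moves some `h ∈ R` to elements `x h x⁻¹`,
`x² h x⁻²` inverting `h` (and inverted by `h`). -/
theorem SL2_two_group_config (hp2 : p ≠ 2) (x : SpecialLinearGroup (Fin 2) K)
    (hx : x ^ p = 1) (R : Subgroup (SpecialLinearGroup (Fin 2) K)) [Finite R]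
    (hR2 : IsPGroup 2 R) (hxR : ∀ h ∈ R, x * h * x⁻¹ ∈ R)
    (hnc : ¬ ∀ n ∈ R, x * n = n * x) :
    ∃ h ∈ R, h * h ≠ 1 ∧
      (x * h * x⁻¹) * h * (x * h * x⁻¹)⁻¹ = h⁻¹ ∧ h * (x * h * x⁻¹) * h⁻¹ = (x * h * x⁻¹)⁻¹ ∧
      (x ^ 2 * h * (x ^ 2)⁻¹) * h * (x ^ 2 * h * (x ^ 2)⁻¹)⁻¹ = h⁻¹ := by
  have hp : p.Prime := Fact.out
  have hRp := two_group_sq hp2 R hR2
  have hab : ¬ ∀ a ∈ R, ∀ b ∈ R, a * b = b * a :=
    fun hab => hnc (SL2_centralizes_abelian hp2 x hx R hab hRp hxR)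
  obtain ⟨h, hh, hh2, hi⟩ := SL2_two_group_special hp2 R hR2 hab
  have h2p : h ^ (2 * p) ≠ 1 := fun e => hh2 (hRp h hh e)
  have hxh : ¬ (x * h = h * x) :=
    fun e => hnc (SL2_centralizes_of_comm_special hp2 x hx R hR2 hxR h hh2 hi e)
  have key : ∀ d : ℕ, 0 < d → d < 3 →
      ¬ ((x ^ d * h * (x ^ d)⁻¹) * h = h * (x ^ d * h * (x ^ d)⁻¹)) := by
    intro d hd0 hd3 hc
    have hcomm : x ^ (2 * d) * h = h * x ^ (2 * d) := by
      rcases SL2_conj_comm hp2 h (x ^ d) h2p hc with e | e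
      · have e' : x ^ d * h = h * x ^ d := by
          calc x ^ d * h = (x ^ d * h * (x ^ d)⁻¹) * x ^ d := by group
            _ = h * x ^ d := by rw [e]
        rw [two_mul, pow_add, mul_assoc, e', ← mul_assoc, e', mul_assoc]
      · rw [two_mul, pow_add]
        calc x ^ d * x ^ d * h = x ^ d * (x ^ d * h * (x ^ d)⁻¹) * x ^ d := by group
          _ = x ^ d * h⁻¹ * x ^ d := by rw [e]
          _ = (x ^ d * h * (x ^ d)⁻¹)⁻¹ * (x ^ d * x ^ d) := by group
          _ = h * (x ^ d * x ^ d) := by rw [e, inv_inv]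
    have hcop : Nat.Coprime (2 * d) (orderOf x) := by
      have hdvd : orderOf x ∣ p := orderOf_dvd_of_pow_eq_one hx
      have hcp : Nat.Coprime (2 * d) p := by
        rw [Nat.coprime_comm, Nat.Prime.coprime_iff_not_dvd hp]
        intro hpd
        have hp3 : 3 ≤ p := by
          rcases hp.eq_two_or_odd' with h' | h'
          · exact absurd h' hp2
          · obtain ⟨k, hk⟩ := h'
            have := hp.two_le
            omega
        rcases (Nat.Prime.dvd_mul hp).mp hpd with h' | h'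
        · have := Nat.le_of_dvd (by norm_num) h'; omega
        · have := Nat.le_of_dvd hd0 h'; omega
      exact Nat.Coprime.coprime_dvd_right hdvd hcp
    obtain ⟨m, hm⟩ := exists_pow_eq_self_of_coprime hcop
    apply hxh
    have hc2 : Commute (x ^ (2 * d)) h := hcomm
    have := hc2.pow_left m
    rw [hm] at this
    exact this
  have hinvd : ∀ d : ℕ, 0 < d → d < 3 →
      (x ^ d * h * (x ^ d)⁻¹) * h * (x ^ d * h * (x ^ d)⁻¹)⁻¹ = h⁻¹ := by
    intro d hd0 hd3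
    rcases hi _ (conj_pow_mem x R hxR d h hh) with e | e
    · exfalso
      apply key d hd0 hd3
      calc (x ^ d * h * (x ^ d)⁻¹) * h
          = ((x ^ d * h * (x ^ d)⁻¹) * h * (x ^ d * h * (x ^ d)⁻¹)⁻¹) * (x ^ d * h * (x ^ d)⁻¹) := by
            group
        _ = h * (x ^ d * h * (x ^ d)⁻¹) := by rw [e]
    · exact e
  refine ⟨h, hh, hh2, ?_, ?_, hinvd 2 (by norm_num) (by norm_num)⟩
  · have := hinvd 1 (by norm_num) (by norm_num)
    rw [pow_one] at this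
    exact this
  · -- `h` inverts `x h x⁻¹`
    have hn' : x⁻¹ * h * x ∈ R := by
      have := conj_inv_pow_mem hp.pos x hx R hxR 1 h hh
      rw [pow_one] at this
      exact this
    rcases hi _ hn' with e | e
    · exfalso
      apply key 1 (by norm_num) (by norm_num)
      have e' : (x⁻¹ * h * x) * h = h * (x⁻¹ * h * x) := by
        calc (x⁻¹ * h * x) * h = ((x⁻¹ * h * x) * h * (x⁻¹ * h * x)⁻¹) * (x⁻¹ * h * x) := by group
          _ = h * (x⁻¹ * h * x) := by rw [e]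
      rw [pow_one]
      calc (x * h * x⁻¹) * h = x * (h * (x⁻¹ * h * x)) * x⁻¹ := by group
        _ = x * ((x⁻¹ * h * x) * h) * x⁻¹ := by rw [e']
        _ = h * (x * h * x⁻¹) := by group
    · calc h * (x * h * x⁻¹) * h⁻¹ = x * ((x⁻¹ * h * x) * h * (x⁻¹ * h * x)⁻¹) * x⁻¹ := by group
        _ = x * h⁻¹ * x⁻¹ := by rw [e]
        _ = (x * h * x⁻¹)⁻¹ := by group

end config

end Cfsg.Agent.Lib.Helper14
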