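import Mathlib
import Cfsg.Agent.Lib.Helper14.SL2Solv

set_option autoImplicit false

namespace Cfsg.Agent.Lib.Helper14

open Matrix

section mats

variable {K : Type*} [Field K]

/-- for a `2 × 2` matrix `N` of determinant `0`: `N M N = tr(M N) N`. -/
theorem mat2_rank_one (N M : Matrix (Fin 2) (Fin 2) K) (hdet : N.det = 0) :
    N * M * N = (M * N).trace • N := by
  rw [Matrix.det_fin_two] at hdet
  ext i j
  fin_cases i <;> fin_cases j
  · simp [Matrix.mul_apply, Fin.sum_univ_two, Matrix.trace_fin_two]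
    linear_combination (-M 1 1) * hdet
  · simp [Matrix.mul_apply, Fin.sum_univ_two, Matrix.trace_fin_two]
    linear_combination (M 0 1) * hdet
  · simp [Matrix.mul_apply, Fin.sum_univ_two, Matrix.trace_fin_two]
    linear_combination (M 1 0) * hdet
  · simp [Matrix.mul_apply, Fin.sum_univ_two, Matrix.trace_fin_two]
    linear_combination (-M 0 0) * hdet

/-- trace-zero `2 × 2` matrices: the anticommutator is scalar. -/
theorem mat2_anticomm (N H : Matrix (Fin 2) (Fin 2) K) (hN : N.trace = 0) (hH : H.trace = 0) :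
    N * H + H * N = (H * N).trace • (1 : Matrix (Fin 2) (Fin 2) K) := by
  rw [Matrix.trace_fin_two] at hN hH
  ext i j
  fin_cases i <;> fin_cases j
  · simp [Matrix.mul_apply, Fin.sum_univ_two, Matrix.trace_fin_two]
    linear_combination (-N 1 1) * hH + (H 0 0) * hN
  · simp [Matrix.mul_apply, Fin.sum_univ_two, Matrix.trace_fin_two]
    linear_combination (H 0 1) * hN + (N 0 1) * hH
  · simp [Matrix.mul_apply, Fin.sum_univ_two, Matrix.trace_fin_two]
    linear_combination (H 1 0) * hN + (N 1 0) * hH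
  · simp [Matrix.mul_apply, Fin.sum_univ_two, Matrix.trace_fin_two]
    linear_combination (-N 0 0) * hH + (H 1 1) * hN

/-- the anticommutator of `H` with its conjugate by `1 + N`. -/
theorem mat2_conj_anticomm (N H : Matrix (Fin 2) (Fin 2) K) (hH : H * H = -1) :
    (1 + N) * H * (1 - N) * H + H * ((1 + N) * H * (1 - N)) =
      -(1 + 1) - (N * H * (N * H) + H * N * (H * N)) := by
  have e1 : (1 + N) * H * (1 - N) * H = H * H + N * (H * H) - H * N * H - N * H * (N * H) := by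
    noncomm_ring
  have e2 : H * ((1 + N) * H * (1 - N)) = H * H + H * N * H - (H * H) * N - H * N * (H * N) := by
    noncomm_ring
  rw [e1, e2, hH]
  noncomm_ring

end mats

section three

variable {K : Type*} [Field K]

/-- a non-identity element of `SL₂(K)` with square `1` is `-1`. -/
theorem SL2_sq_eq_neg_one (h2 : (2 : K) ≠ 0) (z : SpecialLinearGroup (Fin 2) K)
    (hz : z * z = 1) (hz1 : z ≠ 1) : (z : Matrix (Fin 2) (Fin 2) K) = -1 := by
  have hm : (z : Matrix (Fin 2) (Fin 2) K) * (z : Matrix (Fin 2) (Fin 2) K) = 1 :=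
    congrArg Subtype.val hz
  have hc := mat2_cayley (z : Matrix (Fin 2) (Fin 2) K)
  rw [hm, z.det_coe, one_smul] at hc
  set τ := (z : Matrix (Fin 2) (Fin 2) K).trace with hτdef
  have h1 : τ • (z : Matrix (Fin 2) (Fin 2) K) = (2 : K) • (1 : Matrix (Fin 2) (Fin 2) K) := by
    rw [two_smul]
    rw [eq_sub_iff_add_eq] at hc
    exact hc.symm
  have hτ : τ ≠ 0 := by
    intro h0
    rw [h0, zero_smul] at h1
    have := congrFun (congrFun h1 0) 0
    simp at this
    exact h2 this.symm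
  have h3 : (z : Matrix (Fin 2) (Fin 2) K) = (τ⁻¹ * 2) • (1 : Matrix (Fin 2) (Fin 2) K) := by
    rw [mul_smul, ← h1, smul_smul, inv_mul_cancel₀ hτ, one_smul]
  set c := τ⁻¹ * 2 with hcdef
  have hcc : c * c = 1 := by
    have h4 := hm
    rw [h3] at h4
    have := congrFun (congrFun h4 0) 0
    simpa using this
  have hc' : (c - 1) * (c + 1) = 0 := by linear_combination hcc
  rcases mul_eq_zero.mp hc' with h5 | h5
  · exfalso
    apply hz1
    apply Subtype.ext
    rw [h3, sub_eq_zero.mp h5, one_smul]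
    rfl
  · rw [h3, eq_neg_of_add_eq_zero_left h5, neg_smul, one_smul]

/-- the matrix of the inverse of a unipotent element. -/
theorem SL2_coe_inv_unipotent (x : SpecialLinearGroup (Fin 2) K)
    (N : Matrix (Fin 2) (Fin 2) K) (hN : (x : Matrix (Fin 2) (Fin 2) K) = 1 + N)
    (hNN : N * N = 0) : ((x⁻¹ : SpecialLinearGroup (Fin 2) K) : Matrix (Fin 2) (Fin 2) K) = 1 - N := by
  have h1 : ((x⁻¹ : SpecialLinearGroup (Fin 2) K) : Matrix (Fin 2) (Fin 2) K) *
      (x : Matrix (Fin 2) (Fin 2) K) = 1 := congrArg Subtype.val (inv_mul_cancel x)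
  have h2 : (x : Matrix (Fin 2) (Fin 2) K) * (1 - N) = 1 := by
    rw [hN]
    have : (1 + N) * (1 - N) = 1 - N * N := by noncomm_ring
    rw [this, hNN, sub_zero]
  calc ((x⁻¹ : SpecialLinearGroup (Fin 2) K) : Matrix (Fin 2) (Fin 2) K)
      = ((x⁻¹ : SpecialLinearGroup (Fin 2) K) : Matrix (Fin 2) (Fin 2) K) *
        ((x : Matrix (Fin 2) (Fin 2) K) * (1 - N)) := by rw [h2, Matrix.mul_one]
    _ = 1 - N := by rw [← Matrix.mul_assoc, h1, Matrix.one_mul]

/-- if `k` inverts `h` and `h² = -1` then the matrices anticommute. -/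
theorem SL2_anticomm_of_inv (h k : SpecialLinearGroup (Fin 2) K)
    (hHH : (h : Matrix (Fin 2) (Fin 2) K) * (h : Matrix (Fin 2) (Fin 2) K) = -1)
    (hk : k * h * k⁻¹ = h⁻¹) :
    (k : Matrix (Fin 2) (Fin 2) K) * (h : Matrix (Fin 2) (Fin 2) K) +
      (h : Matrix (Fin 2) (Fin 2) K) * (k : Matrix (Fin 2) (Fin 2) K) = 0 := by
  have h1 : k * h = h⁻¹ * k := by
    calc k * h = (k * h * k⁻¹) * k := by group
      _ = h⁻¹ * k := by rw [hk]
  have h2 : (k : Matrix (Fin 2) (Fin 2) K) * (h : Matrix (Fin 2) (Fin 2) K) =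
      ((h⁻¹ : SpecialLinearGroup (Fin 2) K) : Matrix (Fin 2) (Fin 2) K) *
        (k : Matrix (Fin 2) (Fin 2) K) := congrArg Subtype.val h1
  have h3 : ((h⁻¹ : SpecialLinearGroup (Fin 2) K) : Matrix (Fin 2) (Fin 2) K) =
      -(h : Matrix (Fin 2) (Fin 2) K) := by
    have e1 : ((h⁻¹ : SpecialLinearGroup (Fin 2) K) : Matrix (Fin 2) (Fin 2) K) *
        (h : Matrix (Fin 2) (Fin 2) K) = 1 := congrArg Subtype.val (inv_mul_cancel h)
    have e2 : (h : Matrix (Fin 2) (Fin 2) K) * (-(h : Matrix (Fin 2) (Fin 2) K)) = 1 := by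
      rw [Matrix.mul_neg, hHH, neg_neg]
    calc ((h⁻¹ : SpecialLinearGroup (Fin 2) K) : Matrix (Fin 2) (Fin 2) K)
        = ((h⁻¹ : SpecialLinearGroup (Fin 2) K) : Matrix (Fin 2) (Fin 2) K) *
          ((h : Matrix (Fin 2) (Fin 2) K) * (-(h : Matrix (Fin 2) (Fin 2) K))) := by
          rw [e2, Matrix.mul_one]
      _ = -(h : Matrix (Fin 2) (Fin 2) K) := by rw [← Matrix.mul_assoc, e1, Matrix.one_mul]
  rw [h2, h3, Matrix.neg_mul, neg_add_cancel]

variable {p : ℕ} [Fact p.Prime] [CharP K p]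

/-- the quaternion configuration forces characteristic `3`. -/
theorem SL2_config_char_three (hp2 : p ≠ 2) (x h : SpecialLinearGroup (Fin 2) K)
    (hx : x ^ p = 1) (hh2 : h * h ≠ 1)
    (h1 : (x * h * x⁻¹) * h * (x * h * x⁻¹)⁻¹ = h⁻¹)
    (h1' : h * (x * h * x⁻¹) * h⁻¹ = (x * h * x⁻¹)⁻¹)
    (h2 : (x ^ 2 * h * (x ^ 2)⁻¹) * h * (x ^ 2 * h * (x ^ 2)⁻¹)⁻¹ = h⁻¹) : p = 3 := by
  have hp : p.Prime := Fact.out
  have h2K := two_ne_zero_of_char K p hp2
  set Xm : Matrix (Fin 2) (Fin 2) K := (x : Matrix (Fin 2) (Fin 2) K) with hXm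
  set Hm : Matrix (Fin 2) (Fin 2) K := (h : Matrix (Fin 2) (Fin 2) K) with hHm
  set N : Matrix (Fin 2) (Fin 2) K := Xm - 1 with hN
  have hXN : Xm = 1 + N := by rw [hN]; abel
  have hNN : N * N = 0 :=
    mat2_sq_zero_of_trace_two Xm (mat2_trace_of_pow_char p Xm (congrArg Subtype.val hx)) x.det_coe
  obtain ⟨-, hz⟩ := inv_pair h (x * h * x⁻¹) h1' h1
  have hHH : Hm * Hm = -1 := SL2_sq_eq_neg_one h2K (h * h) hz hh2
  -- first conjugate
  have hK1 : ((x * h * x⁻¹ : SpecialLinearGroup (Fin 2) K) : Matrix (Fin 2) (Fin 2) K) =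
      (1 + N) * Hm * (1 - N) := by
    have : ((x * h * x⁻¹ : SpecialLinearGroup (Fin 2) K) : Matrix (Fin 2) (Fin 2) K) =
        Xm * Hm * ((x⁻¹ : SpecialLinearGroup (Fin 2) K) : Matrix (Fin 2) (Fin 2) K) := rfl
    rw [this, SL2_coe_inv_unipotent x N hXN hNN, hXN]
  have hT1 := SL2_anticomm_of_inv h (x * h * x⁻¹) hHH h1
  rw [hK1, mat2_conj_anticomm N Hm hHH] at hT1
  -- second conjugate
  set N2 : Matrix (Fin 2) (Fin 2) K := N + N with hN2
  have hN2N2 : N2 * N2 = 0 := by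
    have : N2 * N2 = N * N + N * N + N * N + N * N := by rw [hN2]; noncomm_ring
    rw [this, hNN]; simp
  have hX2 : ((x ^ 2 : SpecialLinearGroup (Fin 2) K) : Matrix (Fin 2) (Fin 2) K) = 1 + N2 := by
    have : ((x ^ 2 : SpecialLinearGroup (Fin 2) K) : Matrix (Fin 2) (Fin 2) K) = Xm * Xm := by
      rw [pow_two]; rfl
    rw [this, hXN]
    have : (1 + N) * (1 + N) = 1 + (N + N) + N * N := by noncomm_ring
    rw [this, hNN, add_zero]
  have hK2 : ((x ^ 2 * h * (x ^ 2)⁻¹ : SpecialLinearGroup (Fin 2) K) :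
      Matrix (Fin 2) (Fin 2) K) = (1 + N2) * Hm * (1 - N2) := by
    have : ((x ^ 2 * h * (x ^ 2)⁻¹ : SpecialLinearGroup (Fin 2) K) : Matrix (Fin 2) (Fin 2) K) =
        ((x ^ 2 : SpecialLinearGroup (Fin 2) K) : Matrix (Fin 2) (Fin 2) K) * Hm *
          (((x ^ 2)⁻¹ : SpecialLinearGroup (Fin 2) K) : Matrix (Fin 2) (Fin 2) K) := rfl
    rw [this, SL2_coe_inv_unipotent (x ^ 2) N2 hX2 hN2N2, hX2]
  have hT2 := SL2_anticomm_of_inv h (x ^ 2 * h * (x ^ 2)⁻¹) hHH h2
  rw [hK2, mat2_conj_anticomm N2 Hm hHH] at hT2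
  set T : Matrix (Fin 2) (Fin 2) K := N * Hm * (N * Hm) + Hm * N * (Hm * N) with hT
  have hT2' : N2 * Hm * (N2 * Hm) + Hm * N2 * (Hm * N2) = T + T + T + T := by
    rw [hN2, hT]; noncomm_ring
  rw [hT2'] at hT2
  have hTval : T = -(1 + 1) := by
    have : -(1 + 1) - T = 0 := hT1
    exact (sub_eq_zero.mp this).symm
  rw [hTval] at hT2
  have h6 : (6 : K) = 0 := by
    have := congrFun (congrFun hT2 0) 0
    simp at this
    linear_combination this
  have h6' : ((6 : ℕ) : K) = 0 := by exact_mod_cast h6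
  rw [CharP.cast_eq_zero_iff K p] at h6'
  have h23 : (6 : ℕ) = 2 * 3 := by norm_num
  rw [h23] at h6'
  rcases (Nat.Prime.dvd_mul hp).mp h6' with h' | h'
  · exact absurd ((Nat.prime_dvd_prime_iff_eq hp Nat.prime_two).mp h') hp2
  · exact (Nat.prime_dvd_prime_iff_eq hp Nat.prime_three).mp h'

end three

section hom3

variable {K : Type*} [Field K]

/-- conjugation by an invertible matrix on `SL₂`. -/
noncomputable def conjSL (P : Matrix (Fin 2) (Fin 2) K) (hP : IsUnit P.det) :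
    SpecialLinearGroup (Fin 2) K →* SpecialLinearGroup (Fin 2) K where
  toFun A := ⟨P * (A : Matrix (Fin 2) (Fin 2) K) * P⁻¹, by
    rw [Matrix.det_mul, Matrix.det_mul, A.det_coe, mul_one, ← Matrix.det_mul,
      Matrix.mul_nonsing_inv P hP, Matrix.det_one]⟩
  map_one' := by
    apply Subtype.ext
    show P * (1 : Matrix (Fin 2) (Fin 2) K) * P⁻¹ = 1
    rw [Matrix.mul_one, Matrix.mul_nonsing_inv P hP]
  map_mul' A B := by
    apply Subtype.ext
    show P * ((A : Matrix (Fin 2) (Fin 2) K) * (B : Matrix (Fin 2) (Fin 2) K)) * P⁻¹ =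
      (P * (A : Matrix (Fin 2) (Fin 2) K) * P⁻¹) * (P * (B : Matrix (Fin 2) (Fin 2) K) * P⁻¹)
    have h1 : (P * (A : Matrix (Fin 2) (Fin 2) K) * P⁻¹) * (P * (B : Matrix (Fin 2) (Fin 2) K) * P⁻¹) =
        P * (A : Matrix (Fin 2) (Fin 2) K) * (P⁻¹ * P) * (B : Matrix (Fin 2) (Fin 2) K) * P⁻¹ := by
      simp only [Matrix.mul_assoc]
    rw [h1, Matrix.nonsing_inv_mul P hP, Matrix.mul_one]
    simp only [Matrix.mul_assoc]

theorem conjSL_coe (P : Matrix (Fin 2) (Fin 2) K) (hP : IsUnit P.det)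
    (A : SpecialLinearGroup (Fin 2) K) :
    ((conjSL P hP A : SpecialLinearGroup (Fin 2) K) : Matrix (Fin 2) (Fin 2) K) =
      P * (A : Matrix (Fin 2) (Fin 2) K) * P⁻¹ := rfl

theorem conjSL_injective (P : Matrix (Fin 2) (Fin 2) K) (hP : IsUnit P.det) :
    Function.Injective (conjSL P hP) := by
  intro A B hAB
  apply Subtype.ext
  have h1 : P * (A : Matrix (Fin 2) (Fin 2) K) * P⁻¹ = P * (B : Matrix (Fin 2) (Fin 2) K) * P⁻¹ :=
    congrArg Subtype.val hAB
  have key : ∀ M : Matrix (Fin 2) (Fin 2) K, P⁻¹ * (P * M * P⁻¹) * P = M := by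
    intro M
    calc P⁻¹ * (P * M * P⁻¹) * P = (P⁻¹ * P) * M * (P⁻¹ * P) := by simp only [Matrix.mul_assoc]
      _ = M := by rw [Matrix.nonsing_inv_mul P hP, Matrix.one_mul, Matrix.mul_one]
  calc (A : Matrix (Fin 2) (Fin 2) K) = P⁻¹ * (P * (A : Matrix (Fin 2) (Fin 2) K) * P⁻¹) * P :=
        (key _).symm
    _ = P⁻¹ * (P * (B : Matrix (Fin 2) (Fin 2) K) * P⁻¹) * P := by rw [h1]
    _ = (B : Matrix (Fin 2) (Fin 2) K) := key _

/-- the standard unipotent generator of `SL₂(𝔽₃)`. -/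
def T3 : SpecialLinearGroup (Fin 2) (ZMod 3) := ⟨!![1, 1; 0, 1], by decide⟩

/-- the standard element of order `4` of `SL₂(𝔽₃)`. -/
def J3 : SpecialLinearGroup (Fin 2) (ZMod 3) := ⟨!![0, -1; 1, 0], by decide⟩

set_option maxRecDepth 100000 in
theorem SL2_three_gen : ∀ g : SpecialLinearGroup (Fin 2) (ZMod 3), ∃ i : Fin 3, ∃ j : Fin 4,
    ∃ k : Fin 3, g = T3 ^ (i : ℕ) * J3 ^ (j : ℕ) * T3 ^ (k : ℕ) := by
  decide

theorem mat2_basis_aux (Xm Hm N : Matrix (Fin 2) (Fin 2) K) (γ : K) (j : Fin 2)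
    (hXN : Xm = 1 + N) (hNN : N * N = 0) (hHH : Hm * Hm = -1) (hNHN : N * Hm * N = γ • N)
    (hγ2 : γ * γ = 1) :
    Xm * !![N 0 j, γ * (Hm * N) 0 j; N 1 j, γ * (Hm * N) 1 j] =
        !![N 0 j, γ * (Hm * N) 0 j; N 1 j, γ * (Hm * N) 1 j] * !![1, 1; 0, 1] ∧
      Hm * !![N 0 j, γ * (Hm * N) 0 j; N 1 j, γ * (Hm * N) 1 j] =
        !![N 0 j, γ * (Hm * N) 0 j; N 1 j, γ * (Hm * N) 1 j] * !![0, -γ; γ, 0] := by
  set B := Hm * N with hB
  have hXN' : ∀ i, Xm i 0 * N 0 j + Xm i 1 * N 1 j = N i j := by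
    intro i
    have h1 : Xm * N = N := by
      rw [hXN, Matrix.add_mul, Matrix.one_mul, hNN, add_zero]
    have := congrFun (congrFun h1 i) j
    simpa [Matrix.mul_apply, Fin.sum_univ_two] using this
  have hXB' : ∀ i, Xm i 0 * B 0 j + Xm i 1 * B 1 j = B i j + γ * N i j := by
    intro i
    have h1 : Xm * B = B + γ • N := by
      rw [hXN, Matrix.add_mul, Matrix.one_mul, hB, ← Matrix.mul_assoc, hNHN]
    have := congrFun (congrFun h1 i) j
    simpa [Matrix.mul_apply, Fin.sum_univ_two] using this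
  have hHN' : ∀ i, Hm i 0 * N 0 j + Hm i 1 * N 1 j = B i j := by
    intro i
    simp [hB, Matrix.mul_apply, Fin.sum_univ_two]
  have hHB' : ∀ i, Hm i 0 * B 0 j + Hm i 1 * B 1 j = -N i j := by
    intro i
    have h1 : Hm * B = -N := by
      rw [hB, ← Matrix.mul_assoc, hHH, Matrix.neg_mul, Matrix.one_mul]
    have := congrFun (congrFun h1 i) j
    simpa [Matrix.mul_apply, Fin.sum_univ_two] using this
  constructor
  · ext i c
    fin_cases i <;> fin_cases c
    · simp [Matrix.mul_apply, Fin.sum_univ_two]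
      linear_combination hXN' 0
    · simp [Matrix.mul_apply, Fin.sum_univ_two]
      linear_combination γ * hXB' 0 + N 0 j * hγ2
    · simp [Matrix.mul_apply, Fin.sum_univ_two]
      linear_combination hXN' 1
    · simp [Matrix.mul_apply, Fin.sum_univ_two]
      linear_combination γ * hXB' 1 + N 1 j * hγ2
  · ext i c
    fin_cases i <;> fin_cases c
    · simp [Matrix.mul_apply, Fin.sum_univ_two]
      linear_combination hHN' 0 - B 0 j * hγ2
    · simp [Matrix.mul_apply, Fin.sum_univ_two]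
      linear_combination γ * hHB' 0
    · simp [Matrix.mul_apply, Fin.sum_univ_two]
      linear_combination hHN' 1 - B 1 j * hγ2
    · simp [Matrix.mul_apply, Fin.sum_univ_two]
      linear_combination γ * hHB' 1

theorem mat2_basis_det0 (Hm N : Matrix (Fin 2) (Fin 2) K) (γ : K) (hdetN : N.det = 0)
    (htrN : N.trace = 0) (hγ : γ = (Hm * N).trace) (hγ2 : γ * γ = 1) :
    (!![N 0 0, γ * (Hm * N) 0 0; N 1 0, γ * (Hm * N) 1 0] : Matrix (Fin 2) (Fin 2) K).det =
      -N 1 0 := by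
  rw [Matrix.det_fin_two] at hdetN ⊢
  rw [Matrix.trace_fin_two] at htrN
  simp only [Matrix.trace_fin_two, Matrix.mul_apply, Fin.sum_univ_two] at hγ
  simp [Matrix.mul_apply, Fin.sum_univ_two]
  linear_combination (γ * Hm 1 0 * N 0 0 + γ * Hm 1 1 * N 1 0) * htrN - γ * Hm 1 0 * hdetN +
    γ * N 1 0 * hγ - N 1 0 * hγ2

theorem mat2_basis_det1 (Hm N : Matrix (Fin 2) (Fin 2) K) (γ : K) (hdetN : N.det = 0)
    (htrN : N.trace = 0) (hγ : γ = (Hm * N).trace) (hγ2 : γ * γ = 1) :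
    (!![N 0 1, γ * (Hm * N) 0 1; N 1 1, γ * (Hm * N) 1 1] : Matrix (Fin 2) (Fin 2) K).det =
      N 0 1 := by
  rw [Matrix.det_fin_two] at hdetN ⊢
  rw [Matrix.trace_fin_two] at htrN
  simp only [Matrix.trace_fin_two, Matrix.mul_apply, Fin.sum_univ_two] at hγ
  simp [Matrix.mul_apply, Fin.sum_univ_two]
  linear_combination N 0 1 * hγ2 - γ * N 0 1 * hγ -
    γ * (Hm 0 0 * N 0 1 + Hm 0 1 * N 1 1) * htrN + γ * Hm 0 1 * hdetN

theorem mapSL_injective {R S : Type*} [CommRing R] [CommRing S] (f : R →+* S)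
    (hf : Function.Injective f) :
    Function.Injective (SpecialLinearGroup.map (n := Fin 2) f) := by
  intro A B hAB
  apply Subtype.ext
  have h1 : f.mapMatrix (A : Matrix (Fin 2) (Fin 2) R) = f.mapMatrix (B : Matrix (Fin 2) (Fin 2) R) :=
    congrArg Subtype.val hAB
  ext i j
  have h2 := congrFun (congrFun h1 i) j
  simp only [RingHom.mapMatrix_apply, Matrix.map_apply] at h2
  exact hf h2

theorem mat2_mul_inv_cancel (P M : Matrix (Fin 2) (Fin 2) K) (hP : IsUnit P.det) :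
    M * P * P⁻¹ = M := by
  rw [Matrix.mul_assoc, Matrix.mul_nonsing_inv P hP, Matrix.mul_one]

/-- the quaternion configuration in characteristic `3` gives a copy of `SL₂(𝔽₃)`. -/
theorem SL2_config_hom [CharP K 3] (x h : SpecialLinearGroup (Fin 2) K)
    (hx : x ^ 3 = 1) (hh2 : h * h ≠ 1)
    (h1 : (x * h * x⁻¹) * h * (x * h * x⁻¹)⁻¹ = h⁻¹)
    (h1' : h * (x * h * x⁻¹) * h⁻¹ = (x * h * x⁻¹)⁻¹) :
    ∃ ψ : SpecialLinearGroup (Fin 2) (ZMod 3) →* SpecialLinearGroup (Fin 2) K,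
      Function.Injective ψ ∧
        ∀ Y : Subgroup (SpecialLinearGroup (Fin 2) K), x ∈ Y → h ∈ Y → ψ.range ≤ Y := by
  have : Fact (Nat.Prime 3) := ⟨Nat.prime_three⟩
  have h2K : (2 : K) ≠ 0 := two_ne_zero_of_char K 3 (by norm_num)
  have h3K : (3 : K) = 0 := by
    have := CharP.cast_eq_zero K 3
    exact_mod_cast this
  set Xm : Matrix (Fin 2) (Fin 2) K := (x : Matrix (Fin 2) (Fin 2) K) with hXm
  set Hm : Matrix (Fin 2) (Fin 2) K := (h : Matrix (Fin 2) (Fin 2) K) with hHm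
  set N : Matrix (Fin 2) (Fin 2) K := Xm - 1 with hN
  have hXN : Xm = 1 + N := by rw [hN]; abel
  have htrX : Xm.trace = 2 := mat2_trace_of_pow_char 3 Xm (congrArg Subtype.val hx)
  have hNN : N * N = 0 := mat2_sq_zero_of_trace_two Xm htrX x.det_coe
  obtain ⟨-, hz⟩ := inv_pair h (x * h * x⁻¹) h1' h1
  have hHH : Hm * Hm = -1 := SL2_sq_eq_neg_one h2K (h * h) hz hh2
  have htrN : N.trace = 0 := by
    rw [hN, Matrix.trace_sub, htrX, Matrix.trace_one]
    simp
  have hdetN : N.det = 0 := by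
    have hc := mat2_cayley N
    rw [hNN, htrN, zero_smul, zero_sub] at hc
    have := congrFun (congrFun hc 0) 0
    simpa using this
  have htrH : Hm.trace = 0 := by
    have hc := mat2_cayley Hm
    rw [hHH, h.det_coe, one_smul] at hc
    have h0 : Hm.trace • Hm = 0 := by
      have : Hm.trace • Hm = (-1 : Matrix (Fin 2) (Fin 2) K) + 1 := by rw [hc]; abel
      rw [this]; simp
    rcases smul_eq_zero.mp h0 with h' | h'
    · exact h'
    · exfalso
      rw [h', Matrix.mul_zero] at hHH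
      have := congrFun (congrFun hHH 0) 0
      simp at this
  set γ : K := (Hm * N).trace with hγ
  have hNHN : N * Hm * N = γ • N := mat2_rank_one N Hm hdetN
  have hanti : N * Hm + Hm * N = γ • (1 : Matrix (Fin 2) (Fin 2) K) :=
    mat2_anticomm N Hm htrN htrH
  -- `γ² = 1`
  have hK1 : ((x * h * x⁻¹ : SpecialLinearGroup (Fin 2) K) : Matrix (Fin 2) (Fin 2) K) =
      (1 + N) * Hm * (1 - N) := by
    have : ((x * h * x⁻¹ : SpecialLinearGroup (Fin 2) K) : Matrix (Fin 2) (Fin 2) K) =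
        Xm * Hm * ((x⁻¹ : SpecialLinearGroup (Fin 2) K) : Matrix (Fin 2) (Fin 2) K) := rfl
    rw [this, SL2_coe_inv_unipotent x N hXN hNN, hXN]
  have hT1 := SL2_anticomm_of_inv h (x * h * x⁻¹) hHH h1
  rw [hK1, mat2_conj_anticomm N Hm hHH] at hT1
  have hT : N * Hm * (N * Hm) + Hm * N * (Hm * N) = (γ * γ) • (1 : Matrix (Fin 2) (Fin 2) K) := by
    have e1 : N * Hm * (N * Hm) = γ • (N * Hm) := by
      rw [← Matrix.mul_assoc, hNHN, Matrix.smul_mul]
    have e2 : Hm * N * (Hm * N) = γ • (Hm * N) := by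
      have : Hm * N * (Hm * N) = Hm * (N * Hm * N) := by simp only [Matrix.mul_assoc]
      rw [this, hNHN, Matrix.mul_smul]
    rw [e1, e2, ← smul_add, hanti, smul_smul]
  rw [hT] at hT1
  have hγ2 : γ * γ = 1 := by
    have := congrFun (congrFun hT1 0) 0
    simp at this
    linear_combination -this - h3K
  have hγ1 : γ = 1 ∨ γ = -1 := by
    have : (γ - 1) * (γ + 1) = 0 := by linear_combination hγ2
    rcases mul_eq_zero.mp this with h' | h'
    · exact Or.inl (sub_eq_zero.mp h')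
    · exact Or.inr (eq_neg_of_add_eq_zero_left h')
  -- `N ≠ 0`
  have hN0 : N ≠ 0 := by
    intro h0
    have hx1 : x = 1 := by
      apply Subtype.ext
      show Xm = 1
      rw [hXN, h0, add_zero]
    apply hh2
    rw [hx1] at h1
    have : h * h * h⁻¹ = h⁻¹ := by simpa using h1
    calc h * h = (h * h * h⁻¹) * h := by group
      _ = h⁻¹ * h := by rw [this]
      _ = 1 := inv_mul_cancel h
  have hoff : N 1 0 ≠ 0 ∨ N 0 1 ≠ 0 := by
    by_contra hcon
    push Not at hcon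
    obtain ⟨h10, h01⟩ := hcon
    apply hN0
    rw [Matrix.trace_fin_two] at htrN
    rw [Matrix.det_fin_two, h10, h01] at hdetN
    have h00 : N 0 0 = 0 := by
      have : N 0 0 * N 0 0 = 0 := by linear_combination -hdetN + N 0 0 * htrN
      exact mul_self_eq_zero.mp this
    have h11 : N 1 1 = 0 := by rw [h00, zero_add] at htrN; exact htrN
    ext i j
    fin_cases i <;> fin_cases j <;> simp [h00, h01, h10, h11]
  obtain ⟨j, hPdet⟩ : ∃ j : Fin 2, IsUnit
      (!![N 0 j, γ * (Hm * N) 0 j; N 1 j, γ * (Hm * N) 1 j] : Matrix (Fin 2) (Fin 2) K).det := by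
    rcases hoff with h' | h'
    · refine ⟨0, ?_⟩
      rw [mat2_basis_det0 Hm N γ hdetN htrN hγ hγ2]
      exact (neg_ne_zero.mpr h').isUnit
    · refine ⟨1, ?_⟩
      rw [mat2_basis_det1 Hm N γ hdetN htrN hγ hγ2]
      exact h'.isUnit
  obtain ⟨hb1, hb2⟩ := mat2_basis_aux Xm Hm N γ j hXN hNN hHH hNHN hγ2
  set P : Matrix (Fin 2) (Fin 2) K := !![N 0 j, γ * (Hm * N) 0 j; N 1 j, γ * (Hm * N) 1 j] with hP
  set f : ZMod 3 →+* K := ZMod.castHom (dvd_refl 3) K with hf
  set ψ : SpecialLinearGroup (Fin 2) (ZMod 3) →* SpecialLinearGroup (Fin 2) K :=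
    (conjSL P hPdet).comp (SpecialLinearGroup.map f) with hψ
  have hψT : ψ T3 = x := by
    apply Subtype.ext
    show P * f.mapMatrix (!![1, 1; 0, 1] : Matrix (Fin 2) (Fin 2) (ZMod 3)) * P⁻¹ = Xm
    have e : f.mapMatrix (!![1, 1; 0, 1] : Matrix (Fin 2) (Fin 2) (ZMod 3)) =
        (!![1, 1; 0, 1] : Matrix (Fin 2) (Fin 2) K) := by
      ext i j
      fin_cases i <;> fin_cases j <;> simp
    rw [e, ← hb1, mat2_mul_inv_cancel P Xm hPdet]
  have hψJ : ((ψ J3 : SpecialLinearGroup (Fin 2) K) : Matrix (Fin 2) (Fin 2) K) =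
      P * (!![0, -1; 1, 0] : Matrix (Fin 2) (Fin 2) K) * P⁻¹ := by
    show P * f.mapMatrix (!![0, -1; 1, 0] : Matrix (Fin 2) (Fin 2) (ZMod 3)) * P⁻¹ = _
    have e : f.mapMatrix (!![0, -1; 1, 0] : Matrix (Fin 2) (Fin 2) (ZMod 3)) =
        (!![0, -1; 1, 0] : Matrix (Fin 2) (Fin 2) K) := by
      ext i j
      fin_cases i <;> fin_cases j <;> simp
    rw [e]
  have hψJ' : ψ J3 = h ∨ ψ J3 = h⁻¹ := by
    rcases hγ1 with hg | hg
    · left
      apply Subtype.ext
      rw [hψJ]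
      show _ = Hm
      rw [hg] at hb2
      have e : (!![0, -1; 1, 0] : Matrix (Fin 2) (Fin 2) K) = !![0, -1; 1, 0] := rfl
      rw [← hb2, mat2_mul_inv_cancel P Hm hPdet]
    · right
      apply Subtype.ext
      rw [hψJ]
      have hinv : ((h⁻¹ : SpecialLinearGroup (Fin 2) K) : Matrix (Fin 2) (Fin 2) K) = -Hm := by
        have e1 : ((h⁻¹ : SpecialLinearGroup (Fin 2) K) : Matrix (Fin 2) (Fin 2) K) * Hm = 1 :=
          congrArg Subtype.val (inv_mul_cancel h)
        have e2 : Hm * (-Hm) = 1 := by rw [Matrix.mul_neg, hHH, neg_neg]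
        calc ((h⁻¹ : SpecialLinearGroup (Fin 2) K) : Matrix (Fin 2) (Fin 2) K)
            = ((h⁻¹ : SpecialLinearGroup (Fin 2) K) : Matrix (Fin 2) (Fin 2) K) *
              (Hm * (-Hm)) := by rw [e2, Matrix.mul_one]
          _ = -Hm := by rw [← Matrix.mul_assoc, e1, Matrix.one_mul]
      show _ = ((h⁻¹ : SpecialLinearGroup (Fin 2) K) : Matrix (Fin 2) (Fin 2) K)
      rw [hinv]
      rw [hg] at hb2
      have e : (!![0, -1; 1, 0] : Matrix (Fin 2) (Fin 2) K) = -!![0, - -1; -1, 0] := by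
        ext i j
        fin_cases i <;> fin_cases j <;> simp
      rw [e, Matrix.mul_neg, Matrix.neg_mul, ← hb2, mat2_mul_inv_cancel P Hm hPdet]
  refine ⟨ψ, ?_, ?_⟩
  · exact (conjSL_injective P hPdet).comp (mapSL_injective f (ZMod.castHom_injective K))
  · intro Y hxY hhY
    rintro _ ⟨g, rfl⟩
    obtain ⟨i, j', k, rfl⟩ := SL2_three_gen g
    have hJ : ψ J3 ∈ Y := by
      rcases hψJ' with h' | h'
      · rw [h']; exact hhY
      · rw [h']; exact Y.inv_mem hhY
    rw [map_mul, map_mul, map_pow, map_pow, map_pow, hψT]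
    exact Y.mul_mem (Y.mul_mem (Y.pow_mem hxY _) (Y.pow_mem hJ _)) (Y.pow_mem hxY _)

end hom3

end Cfsg.Agent.Lib.Helper14
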