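import Mathlib
import Cfsg.Prelude.Def_Local
import Cfsg.Agent.Lib.Helper14.SL2Solv3
import Cfsg.Agent.Lib.Helper14.SL2Three
import Cfsg.Agent.Lib.Helper14.SL2Three2

set_option autoImplicit false

namespace Cfsg.Agent.Lib.Helper14

open Matrix Cfsg

section sl2three3

variable {K : Type*} [Field K] {p : ℕ} [Fact p.Prime] [CharP K p]

/-- for `p` odd, an element of order `p` of a finite subgroup `X ≤ SL₂(K)` centralizes every
normal `p'`-subgroup of `X`, unless the quaternion configuration occurs. -/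
theorem SL2_centralizes_pprime_of_no_config (hp2 : p ≠ 2)
    (X : Subgroup (SpecialLinearGroup (Fin 2) K))
    [Finite X] (M : Subgroup ↥X) [M.Normal] (hM : (Nat.card M).Coprime p) (x : ↥X)
    (hx : x ^ p = 1)
    (hno : ¬ ∃ h ∈ X, h * h ≠ 1 ∧
      ((x : SpecialLinearGroup (Fin 2) K) * h * (x : SpecialLinearGroup (Fin 2) K)⁻¹) * h *
        ((x : SpecialLinearGroup (Fin 2) K) * h * (x : SpecialLinearGroup (Fin 2) K)⁻¹)⁻¹ = h⁻¹ ∧
      h * ((x : SpecialLinearGroup (Fin 2) K) * h * (x : SpecialLinearGroup (Fin 2) K)⁻¹) * h⁻¹ =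
        ((x : SpecialLinearGroup (Fin 2) K) * h * (x : SpecialLinearGroup (Fin 2) K)⁻¹)⁻¹ ∧
      ((x : SpecialLinearGroup (Fin 2) K) ^ 2 * h * ((x : SpecialLinearGroup (Fin 2) K) ^ 2)⁻¹) * h *
        ((x : SpecialLinearGroup (Fin 2) K) ^ 2 * h *
          ((x : SpecialLinearGroup (Fin 2) K) ^ 2)⁻¹)⁻¹ = h⁻¹) :
    ∀ m ∈ M, x * m = m * x := by
  have hp : p.Prime := Fact.out
  have hxm : (x : SpecialLinearGroup (Fin 2) K) ^ p = 1 := by
    have := congrArg Subtype.val hx
    simpa using this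
  set C : Subgroup ↥X := M ⊓ Subgroup.centralizer {x} with hC
  have hCM : C ≤ M := inf_le_left
  have hkey : ∀ r : ℕ, r.Prime → r ^ (Nat.card M).factorization r ∣ Nat.card C := by
    intro r hr
    haveI : Fact r.Prime := ⟨hr⟩
    obtain ⟨R', hR'M, hR'r, hR'card, hR'x⟩ :=
      exists_invariant_sylow M hM x ⟨1, by rw [pow_one]; exact hx⟩ r
    set R := R'.map X.subtype with hR
    have hRr : IsPGroup r R := hR'r.map _
    haveI : Finite ↥R := by
      rw [hR]
      exact Finite.of_surjective (X.subtype.subgroupMap R') (X.subtype.subgroupMap_surjective R')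
    have hxR : ∀ h ∈ R, (x : SpecialLinearGroup (Fin 2) K) * h *
        (x : SpecialLinearGroup (Fin 2) K)⁻¹ ∈ R := by
      rintro _ ⟨h', hh', rfl⟩
      exact ⟨x * h' * x⁻¹, hR'x h' hh', by simp⟩
    have hRp : ∀ h ∈ R, h ^ (2 * p) = 1 → h * h = 1 := by
      rintro _ ⟨h', hh', rfl⟩ h2p
      have h1 : orderOf h' ∣ 2 * p := by
        apply orderOf_dvd_of_pow_eq_one
        apply Subtype.ext
        simpa using h2p
      have h2 : orderOf h' ∣ Nat.card M := by
        have := orderOf_dvd_natCard (⟨h', hR'M hh'⟩ : M)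
        rwa [Subgroup.orderOf_mk] at this
      have h3 : Nat.Coprime (orderOf h') p := Nat.Coprime.coprime_dvd_left h2 hM
      have h4 : orderOf h' ∣ 2 := h3.dvd_of_dvd_mul_right h1
      have h5 : h' ^ 2 = 1 := orderOf_dvd_iff_pow_eq_one.mp h4
      have h6 := congrArg Subtype.val h5
      rw [pow_two] at h6
      simpa using h6
    have hcent : ∀ h ∈ R, (x : SpecialLinearGroup (Fin 2) K) * h =
        h * (x : SpecialLinearGroup (Fin 2) K) := by
      by_cases hr2 : r = 2
      · subst hr2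
        by_contra hnc
        obtain ⟨h, hhR, hh2, c1, c2, c3⟩ := SL2_two_group_config hp2 _ hxm R hRr hxR hnc
        refine hno ⟨h, ?_, hh2, c1, c2, c3⟩
        obtain ⟨h', -, rfl⟩ := hhR
        exact h'.2
      · exact SL2_centralizes_abelian hp2 _ hxm R (SL2_odd_pgroup_comm r hr2 R hRr) hRp hxR
    have hR'C : R' ≤ C := by
      intro h' hh'
      refine Subgroup.mem_inf.mpr ⟨hR'M hh', ?_⟩
      rw [Subgroup.mem_centralizer_iff]
      intro y hy
      rw [Set.mem_singleton_iff] at hy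
      rw [hy]
      apply Subtype.ext
      exact hcent _ ⟨h', hh', rfl⟩
    rw [← hR'card]
    exact Subgroup.card_dvd_of_le hR'C
  have hdvd : Nat.card M ∣ Nat.card C := by
    rw [← Nat.factorization_prime_le_iff_dvd Nat.card_pos.ne' Nat.card_pos.ne']
    intro r hr
    exact (hr.pow_dvd_iff_le_factorization Nat.card_pos.ne').mp (hkey r hr)
  have hCeq : C = M := Subgroup.eq_of_le_of_card_ge hCM (Nat.le_of_dvd Nat.card_pos hdvd)
  intro m hm
  rw [← hCeq] at hm
  have := Subgroup.mem_centralizer_iff.mp (Subgroup.mem_inf.mp hm).2 x (Set.mem_singleton x)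
  exact this

/-- for `p` odd, a finite `p`-solvable subgroup of `SL₂(K)` generated by elements of
order `p` which centralize its `p'`-core is a `p`-group. -/
theorem SL2_pSolvable_isPGroup_of_cent (hp2 : p ≠ 2)
    (X : Subgroup (SpecialLinearGroup (Fin 2) K))
    [Finite X] (S : Set (SpecialLinearGroup (Fin 2) K)) (hS : ∀ s ∈ S, s ^ p = 1)
    (hgen : X = Subgroup.closure S) (hsol : IsPSolvable p ↥X)
    (hcent : ∀ s (_ : s ∈ S) (hsX : s ∈ X), ∀ m ∈ pPrimeCore p ↥X,
      (⟨s, hsX⟩ : ↥X) * m = m * ⟨s, hsX⟩) : IsPGroup p X := by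
  have hp : p.Prime := Fact.out
  have hSX : ∀ s ∈ S, s ∈ X := fun s hs => hgen ▸ Subgroup.subset_closure hs
  have hSp : ∀ s (hs : s ∈ S), (⟨s, hSX s hs⟩ : ↥X) ^ p = 1 := by
    intro s hs
    apply Subtype.ext
    exact hS s hs
  set M := pPrimeCore p ↥X with hMdef
  have hMc : (Nat.card M).Coprime p := pPrimeCore_coprime
  -- Step 1: `M` is central
  have hMcent : ∀ m ∈ M, ∀ g : ↥X, g * m = m * g := by
    intro m hm g
    have h1 : X ≤ Subgroup.centralizer {(m : SpecialLinearGroup (Fin 2) K)} := by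
      refine hgen.le.trans ?_
      rw [Subgroup.closure_le]
      intro s hs
      rw [SetLike.mem_coe, Subgroup.mem_centralizer_iff]
      intro y hy
      rw [Set.mem_singleton_iff] at hy
      rw [hy]
      have := hcent s hs (hSX s hs) m hm
      exact (congrArg Subtype.val this).symm
    have h2 := Subgroup.mem_centralizer_iff.mp (h1 g.2) _ (Set.mem_singleton _)
    exact Subtype.ext h2.symm
  -- the quotient
  have hYsol : IsPSolvable p (↥X ⧸ M) :=
    isPSolvable_map (QuotientGroup.mk' M) (QuotientGroup.mk'_surjective M) hsol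
  have hYred : pPrimeCore p (↥X ⧸ M) = ⊥ := Cfsg.Agent.Lib.Helper40.pPrimeCore_quotient hp
  have hHH := Cfsg.Agent.Lib.Helper40.centralizer_pCore_le hYsol hYred
  by_cases hQ : pCore p (↥X ⧸ M) = ⊥
  · rw [hQ] at hHH
    have hYtriv : ∀ y : ↥X ⧸ M, y = 1 := by
      intro y
      have : y ∈ Subgroup.centralizer ((⊥ : Subgroup (↥X ⧸ M)) : Set (↥X ⧸ M)) := by
        rw [Subgroup.mem_centralizer_iff]
        intro h hh
        rw [SetLike.mem_coe, Subgroup.mem_bot] at hh
        rw [hh]; group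
      exact Subgroup.mem_bot.mp (hHH this)
    have hXM : ∀ g : ↥X, g ∈ M := fun g => (QuotientGroup.eq_one_iff g).mp (hYtriv _)
    have hS1 : ∀ s ∈ S, s = 1 := by
      intro s hs
      have h1 : orderOf (⟨s, hSX s hs⟩ : ↥X) ∣ p := orderOf_dvd_of_pow_eq_one (hSp s hs)
      have h2 : orderOf (⟨s, hSX s hs⟩ : ↥X) ∣ Nat.card M := by
        have := orderOf_dvd_natCard (⟨_, hXM ⟨s, hSX s hs⟩⟩ : M)
        rwa [Subgroup.orderOf_mk] at this
      have h3 := Nat.eq_one_of_dvd_coprimes hMc h2 h1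
      have := orderOf_eq_one_iff.mp h3
      exact congrArg Subtype.val this
    have hXbot : X = ⊥ := by
      rw [hgen, Subgroup.closure_eq_bot_iff]
      intro s hs
      exact hS1 s hs
    rw [hXbot]
    exact IsPGroup.of_bot
  · set Q := pCore p (↥X ⧸ M) with hQdef
    have hQp : IsPGroup p Q := pCore_isPGroup
    haveI : Nontrivial ↥Q := (Subgroup.nontrivial_iff_ne_bot Q).mpr hQ
    obtain ⟨zq, hzq, hzq1⟩ := SetLike.exists_of_lt hQp.bot_lt_center
    have hzq1' : (zq : ↥X ⧸ M) ≠ 1 := fun h => hzq1 (Subgroup.mem_bot.mpr (Subtype.ext h))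
    obtain ⟨j, hj⟩ := hQp zq
    have hj' : (zq : ↥X ⧸ M) ^ (p ^ j) = 1 := congrArg Subtype.val hj
    have hzconj : ∀ y : ↥X ⧸ M, (y * zq * y⁻¹) * (zq : ↥X ⧸ M) = (zq : ↥X ⧸ M) * (y * zq * y⁻¹) := by
      intro y
      have h1 : y * (zq : ↥X ⧸ M) * y⁻¹ ∈ Q := (inferInstance : Q.Normal).conj_mem _ zq.2 y
      have := Subgroup.mem_center_iff.mp hzq ⟨_, h1⟩
      exact congrArg Subtype.val this
    obtain ⟨z₀, hz₀⟩ := QuotientGroup.mk'_surjective M (zq : ↥X ⧸ M)
    set m := Nat.card M with hm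
    set z₁ : ↥X := z₀ ^ m with hz₁
    have hz₁p : z₁ ^ (p ^ j) = 1 := by
      have h1 : z₀ ^ (p ^ j) ∈ M := by
        rw [← QuotientGroup.eq_one_iff]
        show (QuotientGroup.mk' M) (z₀ ^ (p ^ j)) = 1
        rw [map_pow, hz₀]; exact hj'
      have h2 : (⟨_, h1⟩ : M) ^ m = 1 := pow_card_eq_one'
      have h3 : (z₀ ^ (p ^ j)) ^ m = 1 := congrArg Subtype.val h2
      rw [hz₁, ← pow_mul, mul_comm, pow_mul]
      exact h3
    have hz₁1 : z₁ ≠ 1 := by
      intro h
      have h1 : (zq : ↥X ⧸ M) ^ m = 1 := by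
        rw [← hz₀, ← map_pow, ← hz₁, h, map_one]
      have h2 : orderOf (zq : ↥X ⧸ M) ∣ m := orderOf_dvd_of_pow_eq_one h1
      have h3 : orderOf (zq : ↥X ⧸ M) ∣ p ^ j := orderOf_dvd_of_pow_eq_one hj'
      exact hzq1' (orderOf_eq_one_iff.mp
        (Nat.eq_one_of_dvd_coprimes (Nat.Coprime.pow_right j hMc) h2 h3))
    have hz₁conj : ∀ g : ↥X, (g * z₁ * g⁻¹) * z₁ = z₁ * (g * z₁ * g⁻¹) := by
      intro g
      set u := g * z₁ * g⁻¹ with hu
      set c := u * z₁ * u⁻¹ * z₁⁻¹ with hc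
      have hcM : c ∈ M := by
        rw [← QuotientGroup.eq_one_iff]
        show QuotientGroup.mk' M c = 1
        have e1 : QuotientGroup.mk' M z₁ = (zq : ↥X ⧸ M) ^ m := by rw [hz₁, map_pow, hz₀]
        have e2 : QuotientGroup.mk' M u =
            (QuotientGroup.mk' M g * (zq : ↥X ⧸ M) * (QuotientGroup.mk' M g)⁻¹) ^ m := by
          rw [hu, map_mul, map_mul, map_inv, e1, conj_pow]
        have e3 : Commute (QuotientGroup.mk' M g * (zq : ↥X ⧸ M) * (QuotientGroup.mk' M g)⁻¹)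
            (zq : ↥X ⧸ M) := hzconj _
        have e4 : Commute (QuotientGroup.mk' M u) (QuotientGroup.mk' M z₁) := by
          rw [e1, e2]; exact e3.pow_pow m m
        rw [hc]
        simp only [map_mul, map_inv]
        rw [e4.eq]
        group
      have hcc : Commute c z₁ := (hMcent c hcM z₁).symm
      have e5 : u * z₁ * u⁻¹ = c * z₁ := by rw [hc]; group
      have e6 : (c * z₁) ^ (p ^ j) = c ^ (p ^ j) * z₁ ^ (p ^ j) := hcc.mul_pow _
      have e7 : c ^ (p ^ j) = 1 := by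
        have h1 : (u * z₁ * u⁻¹) ^ (p ^ j) = 1 := by
          rw [conj_pow, hz₁p, mul_one, mul_inv_cancel]
        rw [e5, e6, hz₁p, mul_one] at h1
        exact h1
      have hc1 : c = 1 := by
        have h2 : orderOf c ∣ Nat.card M := by
          have := orderOf_dvd_natCard (⟨c, hcM⟩ : M)
          rwa [Subgroup.orderOf_mk] at this
        have h3 : orderOf c ∣ p ^ j := orderOf_dvd_of_pow_eq_one e7
        exact orderOf_eq_one_iff.mp
          (Nat.eq_one_of_dvd_coprimes (Nat.Coprime.pow_right j hMc) h2 h3)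
      calc u * z₁ = (u * z₁ * u⁻¹ * z₁⁻¹) * (z₁ * u) := by group
        _ = z₁ * u := by rw [← hc, hc1, one_mul]
    -- an element of order `p`
    have ho : orderOf z₁ ∣ p ^ j := orderOf_dvd_of_pow_eq_one hz₁p
    obtain ⟨i, hij, hi⟩ := (Nat.dvd_prime_pow hp).mp ho
    have hi0 : i ≠ 0 := by
      rintro rfl
      rw [pow_zero] at hi
      exact hz₁1 (orderOf_eq_one_iff.mp hi)
    set e := p ^ (i - 1) with he
    set z : ↥X := z₁ ^ e with hz
    have hzp : z ^ p = 1 := by
      rw [hz, ← pow_mul, he, ← pow_succ, Nat.sub_add_cancel (Nat.pos_of_ne_zero hi0), ← hi]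
      exact pow_orderOf_eq_one z₁
    have hz1 : z ≠ 1 := by
      intro h
      have h1 : orderOf z₁ ∣ e := orderOf_dvd_of_pow_eq_one h
      rw [hi, he] at h1
      have h2 := (Nat.pow_dvd_pow_iff_le_right hp.one_lt).mp h1
      omega
    have hzconj' : ∀ g : ↥X, (g * z * g⁻¹) * z = z * (g * z * g⁻¹) := by
      intro g
      have h1 : Commute (g * z₁ * g⁻¹) z₁ := hz₁conj g
      have h2 := h1.pow_pow e e
      rw [conj_pow] at h2
      exact h2
    -- in `SL₂`
    set zm : SpecialLinearGroup (Fin 2) K := (z : SpecialLinearGroup (Fin 2) K) with hzm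
    have hzmp : zm ^ p = 1 := congrArg Subtype.val hzp
    have hzm1 : zm ≠ 1 := fun h => hz1 (Subtype.ext h)
    have hScomm : ∀ s ∈ S, s * zm = zm * s := by
      intro s hs
      apply SL2_comm_of_conj_comm hp2 s zm (hS s hs) hzmp hzm1
      have := hzconj' ⟨s, hSX s hs⟩
      exact congrArg Subtype.val this
    have hzz : zm * zm ≠ 1 := by
      intro h
      apply hzm1
      have h1 : orderOf zm ∣ 2 := orderOf_dvd_of_pow_eq_one (by rw [pow_two]; exact h)
      have h2 : orderOf zm ∣ p := orderOf_dvd_of_pow_eq_one hzmp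
      have h3 : Nat.Coprime 2 p := (Nat.coprime_primes Nat.prime_two hp).mpr (Ne.symm hp2)
      exact orderOf_eq_one_iff.mp (Nat.eq_one_of_dvd_coprimes h3 h1 h2)
    have hXcent : X ≤ Subgroup.centralizer {zm} := by
      refine hgen.le.trans ?_
      rw [Subgroup.closure_le]
      intro s hs
      rw [SetLike.mem_coe, Subgroup.mem_centralizer_iff]
      intro y hy
      rw [Set.mem_singleton_iff] at hy
      rw [hy]; exact (hScomm s hs).symm
    have hXab : ∀ a ∈ X, ∀ b ∈ X, a * b = b * a := by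
      intro a ha b hb
      have h1 := Subgroup.mem_centralizer_iff.mp (hXcent ha) zm (Set.mem_singleton _)
      have h2 := Subgroup.mem_centralizer_iff.mp (hXcent hb) zm (Set.mem_singleton _)
      exact SL2_comm_of_comm zm a b hzz h1.symm h2.symm
    have hXp : ∀ g ∈ Subgroup.closure S, g ^ p = 1 := by
      intro g hg
      induction hg using Subgroup.closure_induction with
      | mem s hs => exact hS s hs
      | one => exact one_pow p
      | mul a b ha hb iha ihb =>
        have hc : Commute a b := hXab a (hgen ▸ ha) b (hgen ▸ hb)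
        rw [hc.mul_pow, iha, ihb, one_mul]
      | inv a ha iha => rw [inv_pow, iha, inv_one]
    rintro ⟨g, hg⟩
    refine ⟨1, ?_⟩
    apply Subtype.ext
    rw [pow_one]
    exact hXp g (hgen ▸ hg)

/-- **Dichotomy**: for `p` odd, a finite `p`-solvable subgroup of `SL₂(K)` generated by
elements of order `p` is a `p`-group, or `p = 3` and it contains a copy of `SL₂(𝔽₃)`. -/
theorem SL2_pSolvable_dichotomy (hp2 : p ≠ 2) (X : Subgroup (SpecialLinearGroup (Fin 2) K))
    [Finite X] (S : Set (SpecialLinearGroup (Fin 2) K)) (hS : ∀ s ∈ S, s ^ p = 1)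
    (hgen : X = Subgroup.closure S) (hsol : IsPSolvable p ↥X) :
    IsPGroup p X ∨ (p = 3 ∧
      ∃ ψ : SpecialLinearGroup (Fin 2) (ZMod 3) →* SpecialLinearGroup (Fin 2) K,
        Function.Injective ψ ∧ ψ.range ≤ X) := by
  by_cases hall : ∀ s (_ : s ∈ S) (hsX : s ∈ X), ∀ m ∈ pPrimeCore p ↥X,
      (⟨s, hsX⟩ : ↥X) * m = m * ⟨s, hsX⟩
  · left
    exact SL2_pSolvable_isPGroup_of_cent hp2 X S hS hgen hsol hall
  · right
    obtain ⟨s, hall⟩ := not_forall.mp hall
    obtain ⟨hs, hall⟩ := not_forall.mp hall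
    obtain ⟨hsX, hnc⟩ := not_forall.mp hall
    have hxp : (⟨s, hsX⟩ : ↥X) ^ p = 1 := Subtype.ext (hS s hs)
    have hcfg : ∃ h ∈ X, h * h ≠ 1 ∧
        (s * h * s⁻¹) * h * (s * h * s⁻¹)⁻¹ = h⁻¹ ∧
        h * (s * h * s⁻¹) * h⁻¹ = (s * h * s⁻¹)⁻¹ ∧
        (s ^ 2 * h * (s ^ 2)⁻¹) * h * (s ^ 2 * h * (s ^ 2)⁻¹)⁻¹ = h⁻¹ := by
      by_contra hno
      exact hnc (SL2_centralizes_pprime_of_no_config hp2 X (pPrimeCore p ↥X) pPrimeCore_coprime
        ⟨s, hsX⟩ hxp hno)
    obtain ⟨h, hhX, hh2, c1, c2, c3⟩ := hcfg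
    have hp3 : p = 3 := SL2_config_char_three hp2 s h (hS s hs) hh2 c1 c2 c3
    refine ⟨hp3, ?_⟩
    subst hp3
    obtain ⟨ψ, hψi, hψ⟩ := SL2_config_hom s h (hS s hs) hh2 c1 c2
    exact ⟨ψ, hψi, hψ X hsX hhX⟩

end sl2three3

end Cfsg.Agent.Lib.Helper14
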