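import Mathlib
import Cfsg.Prelude.Def_Local
import Cfsg.Prelude.Def_Transfer
import Cfsg.Agent.Lib.Helper14.QuadSylow
import Cfsg.Agent.Lib.Helper14.QuadGen
import Cfsg.Agent.Lib.Helper14.SL2Three3

set_option autoImplicit false

namespace Cfsg.Agent.Lib.Helper14

open Cfsg

section sectionhom

/-- a section of `G` from a homomorphism with a large image. -/
theorem section_of_hom {Γ G T S : Type*} [Group Γ] [Group G] [Group T] [Group S]
    (ι : Γ →* G) (hι : Function.Injective ι) (φ : Γ →* T) (ψ : S →* T)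
    (hψ : Function.Injective ψ) (hle : ψ.range ≤ φ.range) :
    ∃ (K L : Subgroup G) (hL : (L.subgroupOf K).Normal), K ≤ ι.range ∧
      Nonempty ((K ⧸ L.subgroupOf K) ≃* S) := by
  set E := ψ.range with hE
  set K₀ := E.comap φ with hK₀
  set K := K₀.map ι with hK
  set L := φ.ker.map ι with hL
  let e₁ : ↥K₀ ≃* ↥K := K₀.equivMapOfInjective ι hι
  let f : ↥K →* ↥E := (φ.subgroupComap E).comp e₁.symm.toMonoidHom
  have he₁ : ∀ k : ↥K, ι ((e₁.symm k : ↥K₀) : Γ) = (k : G) := by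
    intro k
    have := Subgroup.coe_equivMapOfInjective_apply K₀ ι hι (e₁.symm k)
    rw [← this]
    exact congrArg Subtype.val (e₁.apply_symm_apply k)
  have hfsurj : Function.Surjective f := by
    rintro ⟨t, ht⟩
    obtain ⟨g, rfl⟩ := hle ht
    have hg : g ∈ K₀ := ht
    refine ⟨e₁ ⟨g, hg⟩, ?_⟩
    apply Subtype.ext
    show φ ((e₁.symm (e₁ ⟨g, hg⟩) : ↥K₀) : Γ) = φ g
    rw [e₁.symm_apply_apply]
  have hker : f.ker = L.subgroupOf K := by
    ext k
    rw [MonoidHom.mem_ker, Subgroup.mem_subgroupOf]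
    constructor
    · intro hk
      have h1 : φ ((e₁.symm k : ↥K₀) : Γ) = 1 := congrArg Subtype.val hk
      exact ⟨_, h1, he₁ k⟩
    · rintro ⟨g, hg, hgk⟩
      apply Subtype.ext
      show φ ((e₁.symm k : ↥K₀) : Γ) = 1
      have : ((e₁.symm k : ↥K₀) : Γ) = g := hι ((he₁ k).trans hgk.symm)
      rw [this]; exact hg
  have hLn : (L.subgroupOf K).Normal := hker ▸ f.normal_ker
  refine ⟨K, L, hLn, ?_, ?_⟩
  · rintro _ ⟨g, -, rfl⟩; exact ⟨g, rfl⟩
  · exact ⟨(QuotientGroup.quotientMulEquivOfEq hker.symm).trans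
      ((QuotientGroup.quotientKerEquivOfSurjective f hfsurj).trans
        (MonoidHom.ofInjective hψ).symm)⟩

end sectionhom

section quadsl23

variable {Γ : Type*} [Group Γ] [Finite Γ] {p : ℕ} [Fact p.Prime]

/-- a normal `p'`-subgroup with `p`-group quotient makes the group `p`-solvable. -/
theorem isPSolvable_of_normal_pprime (N : Subgroup Γ) [N.Normal] (hN : (Nat.card N).Coprime p)
    (hQ : IsPGroup p (Γ ⧸ N)) : IsPSolvable p Γ := by
  refine ⟨2, ![⊥, N, ⊤], rfl, rfl, ?_, ?_, ?_⟩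
  · intro i j hij
    fin_cases i <;> fin_cases j <;> first | exact le_rfl | exact bot_le | exact le_top | (exfalso; revert hij; decide)
  · intro i
    fin_cases i
    · exact (inferInstance : (⊥ : Subgroup Γ).Normal)
    · exact (inferInstance : N.Normal)
    · exact (inferInstance : (⊤ : Subgroup Γ).Normal)
  · intro i
    fin_cases i
    · right
      show ((⊥ : Subgroup Γ).relIndex N).Coprime p
      rw [Subgroup.relIndex_bot_left]
      exact hN
    · left
      obtain ⟨n, hn⟩ := IsPGroup.iff_card.mp hQ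
      refine ⟨n, ?_⟩
      show N.relIndex ⊤ = p ^ n
      rw [Subgroup.relIndex_top_right, Subgroup.index_eq_card, hn]

/-- the `SL₂(𝔽₃)` alternative for pairs of quadratic elements. -/
theorem quad_pair_SL23 {A : Type*} [CommGroup A] [Finite A] (hp2 : p ≠ 2)
    (hA : ∀ x : A, x ^ p = 1) (θ : Γ →* MulAut A)
    (hθ : ∀ g : Γ, θ g = 1 → g = 1) (a b : Γ) (hgen : Subgroup.closure {a, b} = ⊤)
    (ha : ∀ v : A, θ a (θ a v / v) = θ a v / v) (hb : ∀ v : A, θ b (θ b v / v) = θ b v / v)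
    (hsol : IsPSolvable p Γ) (hnp : ¬ IsPGroup p Γ) :
    p = 3 ∧ ∃ (m : ℕ) (φ : Γ →* Matrix.SpecialLinearGroup (Fin 2) (GaloisField p m))
      (ψ : Matrix.SpecialLinearGroup (Fin 2) (ZMod 3) →*
        Matrix.SpecialLinearGroup (Fin 2) (GaloisField p m)),
      Function.Injective ψ ∧ ψ.range ≤ φ.range := by
  by_contra hcon
  apply hnp
  apply quad_pair_gen hA θ hθ a b hgen ha hb
  intro m φ hφa hφb
  have hXgen : φ.range = Subgroup.closure
      ({φ a, φ b} : Set (Matrix.SpecialLinearGroup (Fin 2) (GaloisField p m))) := by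
    rw [MonoidHom.range_eq_map, ← hgen, MonoidHom.map_closure, Set.image_pair]
  have hS : ∀ s ∈ ({φ a, φ b} :
      Set (Matrix.SpecialLinearGroup (Fin 2) (GaloisField p m))), s ^ p = 1 := by
    intro s hs
    rcases hs with rfl | hs
    · exact hφa
    · rw [Set.mem_singleton_iff] at hs
      subst hs
      exact hφb
  rcases SL2_pSolvable_dichotomy hp2 φ.range _ hS hXgen
    (isPSolvable_map φ.rangeRestrict φ.rangeRestrict_surjective hsol) with h | ⟨hp3, ψ, hψi, hψr⟩
  · exact h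
  · exact absurd ⟨hp3, m, φ, ψ, hψi, hψr⟩ hcon

end quadsl23

section quadsection

variable {G : Type*} [Group G] [Finite G] {p : ℕ} [Fact p.Prime]

/-- two quadratic elements of a faithful group on an elementary abelian `p`-group (`p` odd)
generating a `p`-solvable group which is not a `p`-group: `p = 3` and `SL₂(𝔽₃)` is involved. -/
theorem quad_pair_section (hp2 : p ≠ 2) (V H : Subgroup G)
    (hV : IsElementaryAbelian p V) (hHV : H ≤ Subgroup.normalizer (V : Set G))
    (hf : H ⊓ Subgroup.centralizer (V : Set G) = ⊥) (a b : ↥H)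
    (ha : ∀ v : ↥V, conjHom V H hHV a (conjHom V H hHV a v / v) = conjHom V H hHV a v / v)
    (hb : ∀ v : ↥V, conjHom V H hHV b (conjHom V H hHV b v / v) = conjHom V H hHV b v / v)
    (hsol : IsPSolvable p ↥(Subgroup.closure ({a, b} : Set ↥H)))
    (hnp : ¬ IsPGroup p ↥(Subgroup.closure ({a, b} : Set ↥H))) :
    p = 3 ∧ ∃ (K L : Subgroup G) (hL : (L.subgroupOf K).Normal), K ≤ H ∧
      Nonempty ((K ⧸ L.subgroupOf K) ≃* Matrix.SpecialLinearGroup (Fin 2) (ZMod 3)) := by
  have hVc := hV.1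
  let cg : CommGroup ↥V :=
    { (inferInstance : Group ↥V) with mul_comm := fun x y => mul_comm' x y }
  have hVp : ∀ x : ↥V, x ^ p = 1 := fun x => Subtype.ext (hV.2 x x.2)
  set Γ₁ := Subgroup.closure ({a, b} : Set ↥H) with hΓ₁def
  have haΓ : a ∈ Γ₁ := Subgroup.subset_closure (Set.mem_insert a _)
  have hbΓ : b ∈ Γ₁ := Subgroup.subset_closure (Set.mem_insert_of_mem a (Set.mem_singleton _))
  have hgen : Subgroup.closure ({⟨a, haΓ⟩, ⟨b, hbΓ⟩} : Set ↥Γ₁) = ⊤ := by
    apply Subgroup.map_injective Γ₁.subtype_injective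
    rw [MonoidHom.map_closure, ← MonoidHom.range_eq_map, Subgroup.range_subtype, Set.image_pair]
    rfl
  obtain ⟨hp3, m, φ, ψ, hψi, hψr⟩ := @quad_pair_SL23 ↥Γ₁ _ _ p _ ↥V cg _ hp2 hVp
    ((conjHom V H hHV).comp Γ₁.subtype)
    (fun g hg => Subtype.ext (conjHom_eq_one V H hHV hf _ hg)) ⟨a, haΓ⟩ ⟨b, hbΓ⟩ hgen ha hb
    hsol hnp
  refine ⟨hp3, ?_⟩
  obtain ⟨K, L, hL, hK, e⟩ := section_of_hom (H.subtype.comp Γ₁.subtype)
    (H.subtype_injective.comp Γ₁.subtype_injective) φ ψ hψi hψr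
  refine ⟨K, L, hL, ?_, e⟩
  intro k hk
  obtain ⟨g, rfl⟩ := hK hk
  exact g.1.2

end quadsection

end Cfsg.Agent.Lib.Helper14
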