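import Mathlib
import Cfsg.Prelude.Def_Local
import Cfsg.Agent.Lib.Helper14.SL2Three4
import Cfsg.Agent.Lib.Helper40.AxB

set_option autoImplicit false

namespace Cfsg.Agent.Lib.Helper14

open Cfsg

section tv

variable {p : ℕ} [Fact p.Prime] {𝕍 : Type*} [AddCommGroup 𝕍] [Module (ZMod p) 𝕍]
variable {Γ : Type*} [Group Γ] (ρ : Γ →* Module.End (ZMod p) 𝕍)

/-- `s` acts as the transvection `v ↦ v + φ v • w`. -/
def IsTvWith (s : Γ) (w : 𝕍) (φ : 𝕍 →ₗ[ZMod p] ZMod p) : Prop :=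
  w ≠ 0 ∧ ∀ v, ρ s v = v + φ v • w

theorem rho_mul_apply (g h : Γ) (v : 𝕍) : ρ (g * h) v = ρ g (ρ h v) := by
  rw [map_mul, Module.End.mul_apply]

theorem rho_one_apply (v : 𝕍) : ρ 1 v = v := by
  rw [map_one, Module.End.one_apply]

theorem rho_inv_apply (g : Γ) (v : 𝕍) : ρ g⁻¹ (ρ g v) = v := by
  rw [← rho_mul_apply, inv_mul_cancel, rho_one_apply]

theorem rho_apply_inv (g : Γ) (v : 𝕍) : ρ g (ρ g⁻¹ v) = v := by
  rw [← rho_mul_apply, mul_inv_cancel, rho_one_apply]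

theorem rho_injective_apply (g : Γ) {v v' : 𝕍} (h : ρ g v = ρ g v') : v = v' := by
  have := congrArg (ρ g⁻¹) h
  rwa [rho_inv_apply, rho_inv_apply] at this

theorem p_nsmul_eq_zero (u : 𝕍) : p • u = 0 := by
  rw [← Nat.cast_smul_eq_nsmul (ZMod p) p u, ZMod.natCast_self, zero_smul]

theorem nsmul_eq_zero_of_dvd {k : ℕ} (hk : p ∣ k) (u : 𝕍) : k • u = 0 := by
  obtain ⟨j, rfl⟩ := hk
  rw [mul_comm, mul_nsmul, p_nsmul_eq_zero]

variable {ρ}

theorem tv_pow_w {s : Γ} {w : 𝕍} {φ : 𝕍 →ₗ[ZMod p] ZMod p} (h : IsTvWith ρ s w φ) (k : ℕ) :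
    ρ (s ^ k) w = (1 + φ w) ^ k • w := by
  induction k with
  | zero => rw [pow_zero, rho_one_apply, pow_zero, one_smul]
  | succ k ih =>
    rw [pow_succ, rho_mul_apply, h.2 w, map_add, map_smul, ih, smul_smul, ← add_smul]
    congr 1
    ring

theorem tv_phi_w {s : Γ} {w : 𝕍} {φ : 𝕍 →ₗ[ZMod p] ZMod p} (h : IsTvWith ρ s w φ)
    (hs : s ^ p = 1) : φ w = 0 := by
  have h1 := tv_pow_w h p
  rw [hs, rho_one_apply] at h1
  have h2 : ((1 + φ w) ^ p - 1) • w = 0 := by rw [sub_smul, one_smul, ← h1, sub_self]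
  rcases smul_eq_zero.mp h2 with h3 | h3
  · have h4 : (1 + φ w) ^ p = 1 := sub_eq_zero.mp h3
    rw [ZMod.pow_card] at h4
    linear_combination h4
  · exact absurd h3 h.1

theorem tv_inv {s : Γ} {w : 𝕍} {φ : 𝕍 →ₗ[ZMod p] ZMod p} (h : IsTvWith ρ s w φ)
    (hφw : φ w = 0) (v : 𝕍) : ρ s⁻¹ v = v - φ v • w := by
  apply rho_injective_apply ρ s
  rw [rho_apply_inv, h.2, map_sub, map_smul, hφw, smul_zero, sub_zero, sub_add_cancel]

theorem tv_pow {s : Γ} {w : 𝕍} {φ : 𝕍 →ₗ[ZMod p] ZMod p} (h : IsTvWith ρ s w φ)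
    (hφw : φ w = 0) (k : ℕ) (v : 𝕍) : ρ (s ^ k) v = v + ((k : ZMod p) * φ v) • w := by
  induction k with
  | zero => rw [pow_zero, rho_one_apply, Nat.cast_zero, zero_mul, zero_smul, add_zero]
  | succ k ih =>
    have hw : ρ (s ^ k) w = w := by
      rw [tv_pow_w h k, hφw, add_zero, one_pow, one_smul]
    rw [pow_succ, rho_mul_apply, h.2 v, map_add, map_smul, ih, hw, Nat.cast_succ, add_assoc,
      ← add_smul]
    congr 2
    ring

theorem tv_conj {s : Γ} {w : 𝕍} {φ : 𝕍 →ₗ[ZMod p] ZMod p} (h : IsTvWith ρ s w φ) (g : Γ) :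
    IsTvWith ρ (g * s * g⁻¹) (ρ g w) (φ ∘ₗ ρ g⁻¹) := by
  refine ⟨fun h0 => h.1 (rho_injective_apply ρ g (by rw [h0, map_zero])), fun v => ?_⟩
  rw [rho_mul_apply, rho_mul_apply, h.2, map_add, map_smul, rho_apply_inv]
  rfl

/-- `ρ(g)ⁿ v` when `(ρ(g) - 1)³ = 0`. -/
theorem rho_pow_of_cube_zero (g : Γ) (N : 𝕍 → 𝕍) (hN : ∀ v, ρ g v = v + N v)
    (hadd : ∀ v v', N (v + v') = N v + N v')
    (h3 : ∀ v, N (N (N v)) = 0) (n : ℕ) (v : 𝕍) :
    ρ (g ^ n) v = v + n • N v + n.choose 2 • N (N v) := by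
  have hN0 : N 0 = 0 := by
    have := hadd 0 0
    rw [add_zero] at this
    exact left_eq_add.mp this
  have hsm : ∀ (k : ℕ) (u : 𝕍), N (k • u) = k • N u := by
    intro k u
    induction k with
    | zero => rw [zero_smul, zero_smul, hN0]
    | succ k ih => rw [succ_nsmul, hadd, ih, succ_nsmul]
  induction n generalizing v with
  | zero => simp [rho_one_apply]
  | succ n ih =>
    rw [pow_succ, rho_mul_apply, hN v, map_add, ih v, ih (N v), h3, smul_zero, add_zero,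
      Nat.choose_succ_succ, Nat.choose_one_right, succ_nsmul, add_smul]
    abel

/-- the basic non-degeneracy of a pair of transvections whose quotient is a nontrivial
`p'`-element. -/
theorem pair_ne_zero (hρ : ∀ g : Γ, ρ g = 1 → g = 1) {s t : Γ} {w₁ w₂ : 𝕍}
    {φ₁ φ₂ : 𝕍 →ₗ[ZMod p] ZMod p} (h₁ : IsTvWith ρ s w₁ φ₁) (h₂ : IsTvWith ρ t w₂ φ₂)
    (hs : s ^ p = 1) (ht : t ^ p = 1) (n : ℕ) (hn : n.Coprime p) (hc : (t * s⁻¹) ^ n = 1)
    (hts : t ≠ s) : φ₁ w₂ * φ₂ w₁ ≠ 0 := by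
  have hp : p.Prime := Fact.out
  intro h0
  have hφ₁ := tv_phi_w h₁ hs
  have hφ₂ := tv_phi_w h₂ ht
  set α := φ₁ w₂ with hα
  set β := φ₂ w₁ with hβ
  set N : 𝕍 →ₗ[ZMod p] 𝕍 := ρ (t * s⁻¹) - 1 with hNdef
  have hNv : ∀ v, N v = (-φ₁ v) • w₁ + (φ₂ v - β * φ₁ v) • w₂ := by
    intro v
    rw [hNdef, LinearMap.sub_apply, Module.End.one_apply, rho_mul_apply, tv_inv h₁ hφ₁, h₂.2,
      map_sub, map_smul, smul_eq_mul, mul_comm (φ₁ v) β, neg_smul]
    abel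
  have hN : ∀ v, ρ (t * s⁻¹) v = v + N v := by
    intro v
    rw [hNdef, LinearMap.sub_apply, Module.End.one_apply]
    abel
  have hadd : ∀ v v', N (v + v') = N v + N v' := fun v v' => map_add N v v'
  have hstep : ∀ x y : ZMod p, N (x • w₁ + y • w₂) =
      (-(y * α)) • w₁ + (x * β - y * (β * α)) • w₂ := by
    intro x y
    rw [hNv, map_add, map_add, map_smul, map_smul, map_smul, map_smul, hφ₁, hφ₂, ← hα, ← hβ]
    simp only [smul_eq_mul, mul_zero, zero_add, add_zero]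
    congr 2
    ring
  have h3 : ∀ v, N (N (N v)) = 0 := by
    intro v
    rw [hNv v, hstep, hstep]
    rcases mul_eq_zero.mp h0 with h | h
    · simp [h]
    · simp [h]
  have hpow := rho_pow_of_cube_zero (t * s⁻¹) (fun v => N v) hN hadd h3 (p ^ 2)
  have hc2 : (t * s⁻¹) ^ p ^ 2 = 1 := by
    apply hρ
    apply LinearMap.ext
    intro v
    rw [hpow v, nsmul_eq_zero_of_dvd (dvd_pow_self p (by norm_num)),
      nsmul_eq_zero_of_dvd (hp.dvd_choose_pow (by norm_num) (by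
        intro h
        have h2 : 2 ≤ p := hp.two_le
        nlinarith)), add_zero, add_zero, Module.End.one_apply]
  have hc1 : t * s⁻¹ = 1 :=
    Cfsg.Agent.Lib.Helper40.eq_one_of_pow_eq_one_of_coprime hc2 hc hn
  exact hts (mul_inv_eq_one.mp hc1)

end tv

end Cfsg.Agent.Lib.Helper14
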