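import Mathlib
import Cfsg.Prelude.Def_Local
import Cfsg.Agent.Lib.Helper14.Tv1

set_option autoImplicit false

namespace Cfsg.Agent.Lib.Helper14

open Cfsg Matrix

section plane

variable {p : ℕ} [Fact p.Prime] {𝕍 : Type*} [AddCommGroup 𝕍] [Module (ZMod p) 𝕍]
variable {Γ : Type*} [Group Γ]

/-- membership in the plane spanned by `w₁, w₂`. -/
def InPlane (p : ℕ) {𝕍 : Type*} [AddCommGroup 𝕍] [Module (ZMod p) 𝕍] (w₁ w₂ w : 𝕍) : Prop :=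
  ∃ x y : ZMod p, w = x • w₁ + y • w₂

theorem inPlane_add {w₁ w₂ w w' : 𝕍} (h : InPlane p w₁ w₂ w) (h' : InPlane p w₁ w₂ w') :
    InPlane p w₁ w₂ (w + w') := by
  obtain ⟨x, y, rfl⟩ := h
  obtain ⟨x', y', rfl⟩ := h'
  exact ⟨x + x', y + y', by module⟩

theorem inPlane_smul {w₁ w₂ w : 𝕍} (c : ZMod p) (h : InPlane p w₁ w₂ w) :
    InPlane p w₁ w₂ (c • w) := by
  obtain ⟨x, y, rfl⟩ := h
  exact ⟨c * x, c * y, by module⟩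

theorem inPlane_zero (w₁ w₂ : 𝕍) : InPlane p w₁ w₂ 0 := ⟨0, 0, by simp⟩

theorem inPlane_left (w₁ w₂ : 𝕍) : InPlane p w₁ w₂ w₁ := ⟨1, 0, by simp⟩

theorem inPlane_right (w₁ w₂ : 𝕍) : InPlane p w₁ w₂ w₂ := ⟨0, 1, by simp⟩

theorem inPlane_neg {w₁ w₂ w : 𝕍} (h : InPlane p w₁ w₂ w) : InPlane p w₁ w₂ (-w) := by
  have := inPlane_smul (-1) h
  rwa [neg_smul, one_smul] at this

theorem inPlane_sub {w₁ w₂ w w' : 𝕍} (h : InPlane p w₁ w₂ w) (h' : InPlane p w₁ w₂ w') :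
    InPlane p w₁ w₂ (w - w') := by
  rw [sub_eq_add_neg]
  exact inPlane_add h (inPlane_neg h')

/-- the matrix of `ρ g` on the plane, computed with the coordinate functionals. -/
noncomputable def pairMat (ρ : Γ →* Module.End (ZMod p) 𝕍) (w₁ w₂ : 𝕍)
    (φ₁ φ₂ : 𝕍 →ₗ[ZMod p] ZMod p) (g : Γ) : Matrix (Fin 2) (Fin 2) (ZMod p) :=
  !![(φ₂ w₁)⁻¹ * φ₂ (ρ g w₁), (φ₂ w₁)⁻¹ * φ₂ (ρ g w₂);
     (φ₁ w₂)⁻¹ * φ₁ (ρ g w₁), (φ₁ w₂)⁻¹ * φ₁ (ρ g w₂)]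

/-- `ρ g` preserves the plane. -/
def Pres (ρ : Γ →* Module.End (ZMod p) 𝕍) (w₁ w₂ : 𝕍) (g : Γ) : Prop :=
  InPlane p w₁ w₂ (ρ g w₁) ∧ InPlane p w₁ w₂ (ρ g w₂)

variable {ρ : Γ →* Module.End (ZMod p) 𝕍} {w₁ w₂ : 𝕍} {φ₁ φ₂ : 𝕍 →ₗ[ZMod p] ZMod p}

theorem pres_apply {g : Γ} (hg : Pres ρ w₁ w₂ g) {w : 𝕍} (hw : InPlane p w₁ w₂ w) :
    InPlane p w₁ w₂ (ρ g w) := by
  obtain ⟨x, y, rfl⟩ := hw
  rw [map_add, map_smul, map_smul]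
  exact inPlane_add (inPlane_smul x hg.1) (inPlane_smul y hg.2)

theorem pres_mul {g h : Γ} (hg : Pres ρ w₁ w₂ g) (hh : Pres ρ w₁ w₂ h) :
    Pres ρ w₁ w₂ (g * h) := by
  constructor
  · rw [rho_mul_apply]; exact pres_apply hg hh.1
  · rw [rho_mul_apply]; exact pres_apply hg hh.2

theorem pres_one : Pres ρ w₁ w₂ 1 := by
  constructor
  · rw [rho_one_apply]; exact inPlane_left w₁ w₂
  · rw [rho_one_apply]; exact inPlane_right w₁ w₂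

theorem inPlane_coord (hφ₁ : φ₁ w₁ = 0) (hφ₂ : φ₂ w₂ = 0) (hα : φ₁ w₂ ≠ 0) (hβ : φ₂ w₁ ≠ 0)
    {w : 𝕍} (hw : InPlane p w₁ w₂ w) :
    w = ((φ₂ w₁)⁻¹ * φ₂ w) • w₁ + ((φ₁ w₂)⁻¹ * φ₁ w) • w₂ := by
  obtain ⟨x, y, rfl⟩ := hw
  rw [map_add, map_add, map_smul, map_smul, map_smul, map_smul, hφ₁, hφ₂]
  simp only [smul_eq_mul, mul_zero, add_zero, zero_add]
  rw [mul_comm x, inv_mul_cancel_left₀ hβ, mul_comm y, inv_mul_cancel_left₀ hα]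

theorem pairMat_one (hφ₁ : φ₁ w₁ = 0) (hφ₂ : φ₂ w₂ = 0) (hα : φ₁ w₂ ≠ 0) (hβ : φ₂ w₁ ≠ 0) :
    pairMat ρ w₁ w₂ φ₁ φ₂ 1 = 1 := by
  ext i j
  fin_cases i <;> fin_cases j <;> simp [pairMat, rho_one_apply, hφ₁, hφ₂, hα, hβ]

theorem pairMat_mul (hφ₁ : φ₁ w₁ = 0) (hφ₂ : φ₂ w₂ = 0) (hα : φ₁ w₂ ≠ 0) (hβ : φ₂ w₁ ≠ 0)
    (g : Γ) {h : Γ} (hh : Pres ρ w₁ w₂ h) :
    pairMat ρ w₁ w₂ φ₁ φ₂ (g * h) = pairMat ρ w₁ w₂ φ₁ φ₂ g * pairMat ρ w₁ w₂ φ₁ φ₂ h := by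
  have k1 := inPlane_coord hφ₁ hφ₂ hα hβ hh.1
  have k2 := inPlane_coord hφ₁ hφ₂ hα hβ hh.2
  have e1 : ρ (g * h) w₁ = ((φ₂ w₁)⁻¹ * φ₂ (ρ h w₁)) • ρ g w₁ +
      ((φ₁ w₂)⁻¹ * φ₁ (ρ h w₁)) • ρ g w₂ := by
    rw [rho_mul_apply]
    conv_lhs => rw [k1]
    rw [map_add, map_smul, map_smul]
  have e2 : ρ (g * h) w₂ = ((φ₂ w₁)⁻¹ * φ₂ (ρ h w₂)) • ρ g w₁ +
      ((φ₁ w₂)⁻¹ * φ₁ (ρ h w₂)) • ρ g w₂ := by
    rw [rho_mul_apply]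
    conv_lhs => rw [k2]
    rw [map_add, map_smul, map_smul]
  ext i j
  fin_cases i <;> fin_cases j
  · simp only [pairMat, Matrix.mul_apply, Fin.sum_univ_two]
    simp only [e1, map_add, map_smul, smul_eq_mul, Fin.zero_eta, Fin.isValue, Matrix.of_apply,
      Matrix.cons_val', Matrix.cons_val_zero, Matrix.cons_val_fin_one, Matrix.cons_val_one]
    ring
  · simp only [pairMat, Matrix.mul_apply, Fin.sum_univ_two]
    simp only [e2, map_add, map_smul, smul_eq_mul, Fin.zero_eta, Fin.mk_one, Fin.isValue,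
      Matrix.of_apply, Matrix.cons_val', Matrix.cons_val_zero, Matrix.cons_val_fin_one,
      Matrix.cons_val_one]
    ring
  · simp only [pairMat, Matrix.mul_apply, Fin.sum_univ_two]
    simp only [e1, map_add, map_smul, smul_eq_mul, Fin.zero_eta, Fin.mk_one, Fin.isValue,
      Matrix.of_apply, Matrix.cons_val', Matrix.cons_val_zero, Matrix.cons_val_fin_one,
      Matrix.cons_val_one]
    ring
  · simp only [pairMat, Matrix.mul_apply, Fin.sum_univ_two]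
    simp only [e2, map_add, map_smul, smul_eq_mul, Fin.mk_one, Fin.isValue, Matrix.of_apply,
      Matrix.cons_val', Matrix.cons_val_zero, Matrix.cons_val_fin_one, Matrix.cons_val_one]
    ring

/-- the stabilizer of a vector. -/
def fixSub (ρ : Γ →* Module.End (ZMod p) 𝕍) (w : 𝕍) : Subgroup Γ where
  carrier := {g | ρ g w = w}
  mul_mem' := by
    intro a b ha hb
    show ρ (a * b) w = w
    rw [rho_mul_apply, (hb : ρ b w = w), (ha : ρ a w = w)]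
  one_mem' := rho_one_apply ρ w
  inv_mem' := by
    intro a ha
    show ρ a⁻¹ w = w
    have h1 : ρ a w = w := ha
    calc ρ a⁻¹ w = ρ a⁻¹ (ρ a w) := by rw [h1]
      _ = w := rho_inv_apply ρ a w

theorem mem_fixSub {g : Γ} {w : 𝕍} : g ∈ fixSub ρ w ↔ ρ g w = w := Iff.rfl

end plane

end Cfsg.Agent.Lib.Helper14
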