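import Mathlib
import Cfsg.Prelude.Def_Local
import Cfsg.Agent.Lib.Helper14.Tv2
import Cfsg.Agent.Lib.Helper14.FF1

set_option autoImplicit false
set_option linter.unusedSectionVars false

namespace Cfsg.Agent.Lib.Helper14

open Cfsg Matrix

section small

set_option maxRecDepth 100000 in
theorem SL2_two_gen : ∀ S T g : SpecialLinearGroup (Fin 2) (ZMod 2), S * S = 1 → T * T = 1 →
    S ≠ 1 → T ≠ 1 → S ≠ T →
      (g = 1 ∨ g = S ∨ g = T ∨ g = S * T ∨ g = T * S ∨ g = S * T * S) := by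
  decide

set_option maxRecDepth 100000 in
theorem SL2_three_pow : ∀ g : SpecialLinearGroup (Fin 2) (ZMod 3), g ^ 24 = 1 := by
  decide

set_option maxRecDepth 100000 in
theorem zmod3_tau : ∀ a b : ZMod 3, a * b ≠ 0 →
    (!![1, -a; b, 1 - a * b] : Matrix (Fin 2) (Fin 2) (ZMod 3)) ^ 8 = 1 → a * b = -1 := by
  decide

theorem zmod2_tau : ∀ a : ZMod 2, a ≠ 0 → a = -1 := by
  decide

end small

section pair

variable {p : ℕ} [Fact p.Prime] {𝕍 : Type*} [AddCommGroup 𝕍] [Module (ZMod p) 𝕍]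
variable {Γ : Type*} [Group Γ] [Finite Γ] {ρ : Γ →* Module.End (ZMod p) 𝕍}
variable {M : Subgroup Γ} {s t : Γ} {w₁ w₂ : 𝕍} {φ₁ φ₂ : 𝕍 →ₗ[ZMod p] ZMod p}

/-- a pair of transvections `s ≠ t` with `t s⁻¹` in the normal `p'`-subgroup `M`. -/
structure TvPair (ρ : Γ →* Module.End (ZMod p) 𝕍) (M : Subgroup Γ) (s t : Γ) (w₁ w₂ : 𝕍)
    (φ₁ φ₂ : 𝕍 →ₗ[ZMod p] ZMod p) : Prop where
  faithful : ∀ g : Γ, ρ g = 1 → g = 1
  normal : M.Normal
  coprime : (Nat.card M).Coprime p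
  tv₁ : IsTvWith ρ s w₁ φ₁
  tv₂ : IsTvWith ρ t w₂ φ₂
  hs : s ^ p = 1
  ht : t ^ p = 1
  hc : t * s⁻¹ ∈ M
  hts : t ≠ s

namespace TvPair

variable (P : TvPair ρ M s t w₁ w₂ φ₁ φ₂)
include P

theorem phi₁ : φ₁ w₁ = 0 := tv_phi_w P.tv₁ P.hs

theorem phi₂ : φ₂ w₂ = 0 := tv_phi_w P.tv₂ P.ht

theorem pow_card_c : (t * s⁻¹) ^ Nat.card M = 1 := by
  have h : (⟨t * s⁻¹, P.hc⟩ : M) ^ Nat.card M = 1 := pow_card_eq_one'
  exact congrArg Subtype.val h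

theorem prod_ne : φ₁ w₂ * φ₂ w₁ ≠ 0 :=
  pair_ne_zero P.faithful P.tv₁ P.tv₂ P.hs P.ht (Nat.card M) P.coprime P.pow_card_c P.hts

theorem alpha_ne : φ₁ w₂ ≠ 0 := left_ne_zero_of_mul P.prod_ne

theorem beta_ne : φ₂ w₁ ≠ 0 := right_ne_zero_of_mul P.prod_ne

theorem s_w₁ : ρ s w₁ = w₁ := by rw [P.tv₁.2, P.phi₁, zero_smul, add_zero]

theorem s_w₂ : ρ s w₂ = w₂ + φ₁ w₂ • w₁ := P.tv₁.2 w₂

theorem t_w₁ : ρ t w₁ = w₁ + φ₂ w₁ • w₂ := P.tv₂.2 w₁

theorem t_w₂ : ρ t w₂ = w₂ := by rw [P.tv₂.2, P.phi₂, zero_smul, add_zero]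

theorem sinv_w₁ : ρ s⁻¹ w₁ = w₁ := by rw [tv_inv P.tv₁ P.phi₁, P.phi₁, zero_smul, sub_zero]

theorem sinv_w₂ : ρ s⁻¹ w₂ = w₂ - φ₁ w₂ • w₁ := tv_inv P.tv₁ P.phi₁ w₂

theorem tinv_w₁ : ρ t⁻¹ w₁ = w₁ - φ₂ w₁ • w₂ := tv_inv P.tv₂ P.phi₂ w₁

theorem tinv_w₂ : ρ t⁻¹ w₂ = w₂ := by rw [tv_inv P.tv₂ P.phi₂, P.phi₂, zero_smul, sub_zero]

theorem pres_s : Pres ρ w₁ w₂ s := by
  constructor
  · rw [P.s_w₁]; exact inPlane_left _ _
  · rw [P.s_w₂]; exact inPlane_add (inPlane_right _ _) (inPlane_smul _ (inPlane_left _ _))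

theorem pres_sinv : Pres ρ w₁ w₂ s⁻¹ := by
  constructor
  · rw [P.sinv_w₁]; exact inPlane_left _ _
  · rw [P.sinv_w₂]; exact inPlane_sub (inPlane_right _ _) (inPlane_smul _ (inPlane_left _ _))

theorem pres_t : Pres ρ w₁ w₂ t := by
  constructor
  · rw [P.t_w₁]; exact inPlane_add (inPlane_left _ _) (inPlane_smul _ (inPlane_right _ _))
  · rw [P.t_w₂]; exact inPlane_right _ _

theorem pres_tinv : Pres ρ w₁ w₂ t⁻¹ := by
  constructor
  · rw [P.tinv_w₁]; exact inPlane_sub (inPlane_left _ _) (inPlane_smul _ (inPlane_right _ _))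
  · rw [P.tinv_w₂]; exact inPlane_right _ _

theorem pairMat_s : pairMat ρ w₁ w₂ φ₁ φ₂ s = !![1, φ₁ w₂; 0, 1] := by
  have ha := P.alpha_ne
  have hb := P.beta_ne
  ext i j
  fin_cases i <;> fin_cases j
  · simp [pairMat, P.s_w₁, hb]
  · simp [pairMat, P.s_w₂, P.phi₂]
    rw [mul_comm (φ₁ w₂), inv_mul_cancel_left₀ hb]
  · simp [pairMat, P.s_w₁, P.phi₁]
  · simp [pairMat, P.s_w₂, P.phi₁, ha]

theorem pairMat_sinv : pairMat ρ w₁ w₂ φ₁ φ₂ s⁻¹ = !![1, -φ₁ w₂; 0, 1] := by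
  have ha := P.alpha_ne
  have hb := P.beta_ne
  ext i j
  fin_cases i <;> fin_cases j
  · simp [pairMat, P.sinv_w₁, hb]
  · simp [pairMat, P.sinv_w₂, P.phi₂]
    rw [mul_comm (φ₁ w₂), inv_mul_cancel_left₀ hb]
  · simp [pairMat, P.sinv_w₁, P.phi₁]
  · simp [pairMat, P.sinv_w₂, P.phi₁, ha]

theorem pairMat_t : pairMat ρ w₁ w₂ φ₁ φ₂ t = !![1, 0; φ₂ w₁, 1] := by
  have ha := P.alpha_ne
  have hb := P.beta_ne
  ext i j
  fin_cases i <;> fin_cases j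
  · simp [pairMat, P.t_w₁, P.phi₂, hb]
  · simp [pairMat, P.t_w₂, P.phi₂]
  · simp [pairMat, P.t_w₁, P.phi₁]
    rw [mul_comm (φ₂ w₁), inv_mul_cancel_left₀ ha]
  · simp [pairMat, P.t_w₂, ha]

theorem pairMat_tinv : pairMat ρ w₁ w₂ φ₁ φ₂ t⁻¹ = !![1, 0; -φ₂ w₁, 1] := by
  have ha := P.alpha_ne
  have hb := P.beta_ne
  ext i j
  fin_cases i <;> fin_cases j
  · simp [pairMat, P.tinv_w₁, P.phi₂, hb]
  · simp [pairMat, P.tinv_w₂, P.phi₂]
  · simp [pairMat, P.tinv_w₁, P.phi₁]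
    rw [mul_comm (φ₂ w₁), inv_mul_cancel_left₀ ha]
  · simp [pairMat, P.tinv_w₂, ha]

theorem pres_of_mem {g : Γ} (hg : g ∈ Subgroup.closure ({s, t} : Set Γ)) :
    Pres ρ w₁ w₂ g ∧ Pres ρ w₁ w₂ g⁻¹ := by
  induction hg using Subgroup.closure_induction with
  | mem x hx =>
    rcases hx with hx | hx
    · rw [hx]; exact ⟨P.pres_s, P.pres_sinv⟩
    · rw [Set.mem_singleton_iff] at hx
      rw [hx]; exact ⟨P.pres_t, P.pres_tinv⟩
  | one => rw [inv_one]; exact ⟨pres_one, pres_one⟩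
  | mul x y hx hy ihx ihy =>
    rw [_root_.mul_inv_rev]; exact ⟨pres_mul ihx.1 ihy.1, pres_mul ihy.2 ihx.2⟩
  | inv x hx ih => rw [inv_inv]; exact ⟨ih.2, ih.1⟩

theorem det_of_mem {g : Γ} (hg : g ∈ Subgroup.closure ({s, t} : Set Γ)) :
    (pairMat ρ w₁ w₂ φ₁ φ₂ g).det = 1 ∧ (pairMat ρ w₁ w₂ φ₁ φ₂ g⁻¹).det = 1 := by
  induction hg using Subgroup.closure_induction with
  | mem x hx =>
    rcases hx with hx | hx
    · rw [hx, P.pairMat_s, P.pairMat_sinv]; simp [Matrix.det_fin_two]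
    · rw [Set.mem_singleton_iff] at hx
      rw [hx, P.pairMat_t, P.pairMat_tinv]; simp [Matrix.det_fin_two]
  | one =>
    rw [inv_one, pairMat_one P.phi₁ P.phi₂ P.alpha_ne P.beta_ne]; simp
  | mul x y hx hy ihx ihy =>
    rw [_root_.mul_inv_rev, pairMat_mul P.phi₁ P.phi₂ P.alpha_ne P.beta_ne x (P.pres_of_mem hy).1,
      pairMat_mul P.phi₁ P.phi₂ P.alpha_ne P.beta_ne y⁻¹ (P.pres_of_mem hx).2, Matrix.det_mul,
      Matrix.det_mul, ihx.1, ihy.1, ihx.2, ihy.2]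
    simp
  | inv x hx ih => rw [inv_inv]; exact ⟨ih.2, ih.1⟩

theorem sub_of_mem {g : Γ} (hg : g ∈ Subgroup.closure ({s, t} : Set Γ)) :
    (∀ v, InPlane p w₁ w₂ (ρ g v - v)) ∧ (∀ v, InPlane p w₁ w₂ (ρ g⁻¹ v - v)) := by
  have key : ∀ (a b : Γ), Pres ρ w₁ w₂ a → (∀ v, InPlane p w₁ w₂ (ρ a v - v)) →
      (∀ v, InPlane p w₁ w₂ (ρ b v - v)) → ∀ v, InPlane p w₁ w₂ (ρ (a * b) v - v) := by
    intro a b ha h1 h2 v
    have : ρ (a * b) v - v = ρ a (ρ b v - v) + (ρ a v - v) := by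
      rw [rho_mul_apply, map_sub]; abel
    rw [this]; exact inPlane_add (pres_apply ha (h2 v)) (h1 v)
  induction hg using Subgroup.closure_induction with
  | mem x hx =>
    rcases hx with hx | hx
    · rw [hx]
      constructor
      · intro v
        rw [P.tv₁.2, add_sub_cancel_left]; exact inPlane_smul _ (inPlane_left _ _)
      · intro v
        rw [tv_inv P.tv₁ P.phi₁, sub_sub_cancel_left]
        exact inPlane_neg (inPlane_smul _ (inPlane_left _ _))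
    · rw [Set.mem_singleton_iff] at hx
      rw [hx]
      constructor
      · intro v
        rw [P.tv₂.2, add_sub_cancel_left]; exact inPlane_smul _ (inPlane_right _ _)
      · intro v
        rw [tv_inv P.tv₂ P.phi₂, sub_sub_cancel_left]
        exact inPlane_neg (inPlane_smul _ (inPlane_right _ _))
  | one =>
    rw [inv_one]
    constructor <;> intro v <;> rw [rho_one_apply, sub_self] <;> exact inPlane_zero _ _
  | mul x y hx hy ihx ihy =>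
    rw [_root_.mul_inv_rev]
    exact ⟨key x y (P.pres_of_mem hx).1 ihx.1 ihy.1, key y⁻¹ x⁻¹ (P.pres_of_mem hy).2 ihy.2 ihx.2⟩
  | inv x hx ih => rw [inv_inv]; exact ⟨ih.2, ih.1⟩

theorem decomp_of_mem {g : Γ} (hg : g ∈ Subgroup.closure ({s, t} : Set Γ)) :
    ∃ m ∈ M, ∃ i : ℤ, g = m * s ^ i := by
  have hn := P.normal
  induction hg using Subgroup.closure_induction with
  | mem x hx =>
    rcases hx with hx | hx
    · exact ⟨1, M.one_mem, 1, by rw [hx]; simp⟩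
    · rw [Set.mem_singleton_iff] at hx
      exact ⟨t * s⁻¹, P.hc, 1, by rw [hx]; simp⟩
  | one => exact ⟨1, M.one_mem, 0, by simp⟩
  | mul x y hx hy ihx ihy =>
    obtain ⟨m, hm, i, hxe⟩ := ihx
    obtain ⟨m', hm', j, hye⟩ := ihy
    refine ⟨m * (s ^ i * m' * (s ^ i)⁻¹), M.mul_mem hm (hn.conj_mem m' hm' (s ^ i)), i + j, ?_⟩
    rw [hxe, hye, _root_.zpow_add]; group
  | inv x hx ih =>
    obtain ⟨m, hm, i, hxe⟩ := ih
    refine ⟨(s ^ i)⁻¹ * m⁻¹ * ((s ^ i)⁻¹)⁻¹, hn.conj_mem m⁻¹ (M.inv_mem hm) (s ^ i)⁻¹, -i, ?_⟩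
    rw [hxe, _root_.zpow_neg]; group

theorem pow_p_of_fix {k : Γ} (hk : k ∈ Subgroup.closure ({s, t} : Set Γ))
    (hfix : ∀ w, InPlane p w₁ w₂ w → ρ k w = w) : k ^ p = 1 := by
  set N : 𝕍 →ₗ[ZMod p] 𝕍 := ρ k - 1 with hN
  have hNv : ∀ v, N v = ρ k v - v := fun v => by
    rw [hN, LinearMap.sub_apply, Module.End.one_apply]
  have hNN : ∀ v, N (N v) = 0 := by
    intro v
    rw [hNv (N v), hfix _ (by rw [hNv]; exact (P.sub_of_mem hk).1 v), sub_self]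
  have hpow := rho_pow_of_cube_zero k (fun v => N v) (fun v => by rw [hNv]; abel)
    (fun v v' => map_add N v v') (fun v => by
      show N (N (N v)) = 0
      rw [hNN v, map_zero]) p
  apply P.faithful
  apply LinearMap.ext
  intro v
  rw [hpow v]
  show v + p • N v + p.choose 2 • N (N v) = (1 : Module.End (ZMod p) 𝕍) v
  rw [hNN v, smul_zero, add_zero, p_nsmul_eq_zero, add_zero, Module.End.one_apply]

theorem eq_one_of_fix {d : Γ} (hd : d ∈ Subgroup.closure ({s, t} : Set Γ))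
    (hdfix : ∀ w, InPlane p w₁ w₂ w → ρ d w = w) : d = 1 := by
  have hn := P.normal
  have hdp : d ^ p = 1 := P.pow_p_of_fix hd hdfix
  obtain ⟨m, hm, i, hdm⟩ := P.decomp_of_mem hd
  have hsD : s ∈ Subgroup.closure ({s, t} : Set Γ) := Subgroup.subset_closure (Set.mem_insert s _)
  have hdinv : ∀ w, InPlane p w₁ w₂ w → ρ d⁻¹ w = w := by
    intro w hw
    have := rho_inv_apply ρ d w
    rwa [hdfix w hw] at this
  set k := d * s * d⁻¹ * s⁻¹ with hk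
  have hkD : k ∈ Subgroup.closure ({s, t} : Set Γ) :=
    Subgroup.mul_mem _ (Subgroup.mul_mem _ (Subgroup.mul_mem _ hd hsD) (Subgroup.inv_mem _ hd))
      (Subgroup.inv_mem _ hsD)
  have hkfix : ∀ w, InPlane p w₁ w₂ w → ρ k w = w := by
    intro w hw
    rw [hk, rho_mul_apply, rho_mul_apply, rho_mul_apply, hdinv _ (pres_apply P.pres_sinv hw),
      rho_apply_inv]
    exact hdfix w hw
  have hkp : k ^ p = 1 := P.pow_p_of_fix hkD hkfix
  have hkM : k ∈ M := by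
    have : k = m * (s * m⁻¹ * s⁻¹) := by rw [hk, hdm]; group
    rw [this]; exact M.mul_mem hm (hn.conj_mem m⁻¹ (M.inv_mem hm) s)
  have hcop : ∀ x ∈ M, x ^ p = 1 → x = 1 := by
    intro x hxM hxp
    have h2 : orderOf x ∣ Nat.card M := by
      have := orderOf_dvd_natCard (⟨x, hxM⟩ : M)
      rwa [Subgroup.orderOf_mk] at this
    have h1 : orderOf x ∣ p := orderOf_dvd_of_pow_eq_one hxp
    exact orderOf_eq_one_iff.mp (Nat.eq_one_of_dvd_coprimes P.coprime h2 h1)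
  have hk1 : k = 1 := hcop k hkM hkp
  have hcomm : d * s = s * d := by
    have : d * s = k * (s * d) := by rw [hk]; group
    rw [this, hk1, one_mul]
  have hm_eq : m = d * (s ^ i)⁻¹ := by rw [hdm]; group
  have hcomm' : Commute d (s ^ i)⁻¹ := ((show Commute d s from hcomm).zpow_right i).inv_right
  have hmp : m ^ p = 1 := by
    rw [hm_eq, hcomm'.mul_pow, hdp, one_mul, inv_pow, ← zpow_natCast, ← _root_.zpow_mul, mul_comm,
      _root_.zpow_mul, zpow_natCast, P.hs, _root_.one_zpow, inv_one]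
  have hm1 : m = 1 := hcop m hm hmp
  have hds : d ∈ Subgroup.zpowers s := by
    rw [hdm, hm1, one_mul]; exact Subgroup.zpow_mem_zpowers s i
  by_contra hd1
  have hsd : s ∈ Subgroup.zpowers d := mem_zpowers_of_prime P.hs hds hd1
  have hfix2 : Subgroup.zpowers d ≤ fixSub ρ w₂ :=
    Subgroup.zpowers_le.mpr (mem_fixSub.mpr (hdfix w₂ (inPlane_right _ _)))
  have h3 := mem_fixSub.mp (hfix2 hsd)
  rw [P.s_w₂] at h3
  have h0 : φ₁ w₂ • w₁ = 0 := by simpa using h3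
  rcases smul_eq_zero.mp h0 with h | h
  · exact P.alpha_ne h
  · exact P.tv₁.1 h

theorem fix_of_pairMat {d : Γ} (hd : d ∈ Subgroup.closure ({s, t} : Set Γ))
    (h : pairMat ρ w₁ w₂ φ₁ φ₂ d = 1) : ∀ w, InPlane p w₁ w₂ w → ρ d w = w := by
  have hpres := (P.pres_of_mem hd).1
  have c1 := inPlane_coord P.phi₁ P.phi₂ P.alpha_ne P.beta_ne hpres.1
  have c2 := inPlane_coord P.phi₁ P.phi₂ P.alpha_ne P.beta_ne hpres.2
  have e00 : (φ₂ w₁)⁻¹ * φ₂ (ρ d w₁) = 1 := by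
    have := congrFun (congrFun h 0) 0
    simpa [pairMat] using this
  have e10 : (φ₁ w₂)⁻¹ * φ₁ (ρ d w₁) = 0 := by
    have := congrFun (congrFun h 1) 0
    simpa [pairMat] using this
  have e01 : (φ₂ w₁)⁻¹ * φ₂ (ρ d w₂) = 0 := by
    have := congrFun (congrFun h 0) 1
    simpa [pairMat] using this
  have e11 : (φ₁ w₂)⁻¹ * φ₁ (ρ d w₂) = 1 := by
    have := congrFun (congrFun h 1) 1
    simpa [pairMat] using this
  have hw₁ : ρ d w₁ = w₁ := by rw [c1, e00, e10, one_smul, zero_smul, add_zero]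
  have hw₂ : ρ d w₂ = w₂ := by rw [c2, e01, e11, zero_smul, one_smul, zero_add]
  rintro w ⟨x, y, rfl⟩
  rw [map_add, map_smul, map_smul, hw₁, hw₂]

theorem exists_hom : ∃ A : ↥(Subgroup.closure ({s, t} : Set Γ)) →*
    SpecialLinearGroup (Fin 2) (ZMod p),
    (∀ d, (A d : Matrix (Fin 2) (Fin 2) (ZMod p)) = pairMat ρ w₁ w₂ φ₁ φ₂ (d : Γ)) ∧
      Function.Injective A := by
  let A : ↥(Subgroup.closure ({s, t} : Set Γ)) →* SpecialLinearGroup (Fin 2) (ZMod p) :=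
    { toFun := fun d => ⟨pairMat ρ w₁ w₂ φ₁ φ₂ (d : Γ), (P.det_of_mem d.2).1⟩
      map_one' := Subtype.ext (pairMat_one P.phi₁ P.phi₂ P.alpha_ne P.beta_ne)
      map_mul' := fun a b => Subtype.ext
        (pairMat_mul P.phi₁ P.phi₂ P.alpha_ne P.beta_ne (a : Γ) (P.pres_of_mem b.2).1) }
  refine ⟨A, fun d => rfl, ?_⟩
  rw [injective_iff_map_eq_one]
  intro d hd
  have h1 : pairMat ρ w₁ w₂ φ₁ φ₂ (d : Γ) = 1 := congrArg Subtype.val hd
  exact Subtype.ext (P.eq_one_of_fix d.2 (P.fix_of_pairMat d.2 h1))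

end TvPair

end pair

end Cfsg.Agent.Lib.Helper14
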