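import Mathlib
import Cfsg.Prelude.Def_Local
import Cfsg.Agent.Lib.Helper14.Tv3

set_option autoImplicit false
set_option linter.unusedSectionVars false

namespace Cfsg.Agent.Lib.Helper14

open Cfsg Matrix

section pairmain

theorem sl_pow_coe {R : Type*} [CommRing R] (g : SpecialLinearGroup (Fin 2) R) (n : ℕ)
    (h : g ^ n = 1) : (g : Matrix (Fin 2) (Fin 2) R) ^ n = 1 := by
  have := congrArg (fun x : SpecialLinearGroup (Fin 2) R => (x : Matrix (Fin 2) (Fin 2) R)) h
  simpa using this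

variable {p : ℕ} [Fact p.Prime] {𝕍 : Type*} [AddCommGroup 𝕍] [Module (ZMod p) 𝕍]
variable {Γ : Type*} [Group Γ] [Finite Γ] {ρ : Γ →* Module.End (ZMod p) 𝕍}
variable {M : Subgroup Γ} {s t : Γ} {w₁ w₂ : 𝕍} {φ₁ φ₂ : 𝕍 →ₗ[ZMod p] ZMod p}

namespace TvPair

variable (P : TvPair ρ M s t w₁ w₂ φ₁ φ₂)
include P

theorem s_ne_one : s ≠ 1 := by
  intro h
  have h1 := P.s_w₂
  rw [h, rho_one_apply] at h1
  have h0 : φ₁ w₂ • w₁ = 0 := by simpa using h1.symm
  rcases smul_eq_zero.mp h0 with h | h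
  · exact P.alpha_ne h
  · exact P.tv₁.1 h

theorem t_ne_one : t ≠ 1 := by
  intro h
  have h1 := P.t_w₁
  rw [h, rho_one_apply] at h1
  have h0 : φ₂ w₁ • w₂ = 0 := by simpa using h1.symm
  rcases smul_eq_zero.mp h0 with h | h
  · exact P.beta_ne h
  · exact P.tv₂.1 h

theorem mem_s : s ∈ Subgroup.closure ({s, t} : Set Γ) :=
  Subgroup.subset_closure (Set.mem_insert s _)

theorem mem_t : t ∈ Subgroup.closure ({s, t} : Set Γ) :=
  Subgroup.subset_closure (Set.mem_insert_of_mem s (Set.mem_singleton t))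

theorem pairMat_c : pairMat ρ w₁ w₂ φ₁ φ₂ (t * s⁻¹) =
    !![1, -φ₁ w₂; φ₂ w₁, 1 - φ₁ w₂ * φ₂ w₁] := by
  rw [pairMat_mul P.phi₁ P.phi₂ P.alpha_ne P.beta_ne t P.pres_sinv, P.pairMat_t, P.pairMat_sinv]
  ext i j
  fin_cases i <;> fin_cases j <;> simp [Matrix.mul_apply, Fin.sum_univ_two] <;> ring

theorem isPSolvable_closure : IsPSolvable p ↥(Subgroup.closure ({s, t} : Set Γ)) := by
  have hn := P.normal
  set D := Subgroup.closure ({s, t} : Set Γ) with hD
  have : (M.subgroupOf D).Normal := hn.subgroupOf D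
  apply isPSolvable_of_normal_pprime (M.subgroupOf D)
  · have h1 : Nat.card (M.subgroupOf D) ∣ Nat.card M := by
      have h2 : Nat.card ↥(M.subgroupOf D) ∣ Nat.card ↥M :=
        Subgroup.card_dvd_of_injective
          ((D.subtype.comp (M.subgroupOf D).subtype).codRestrict M (fun x => x.2))
          (fun x y hxy => by
            have h3 : ((x : ↥D) : Γ) = ((y : ↥D) : Γ) := congrArg (fun z : ↥M => (z : Γ)) hxy
            exact Subtype.ext (Subtype.ext h3))
      exact h2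
    exact Nat.Coprime.coprime_dvd_left h1 P.coprime
  · intro q
    refine ⟨1, ?_⟩
    induction q using QuotientGroup.induction_on with
    | H d =>
      obtain ⟨m, hm, i, hdm⟩ := P.decomp_of_mem d.2
      have hmk : (QuotientGroup.mk d : ↥D ⧸ M.subgroupOf D) =
          (QuotientGroup.mk (⟨s, P.mem_s⟩ : ↥D)) ^ i := by
        rw [← QuotientGroup.mk_zpow, QuotientGroup.eq]
        rw [Subgroup.mem_subgroupOf]
        have : ((d⁻¹ * (⟨s, P.mem_s⟩ : ↥D) ^ i : ↥D) : Γ) = (s ^ i)⁻¹ * m⁻¹ * ((s ^ i)⁻¹)⁻¹ := by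
          rw [Subgroup.coe_mul, Subgroup.coe_inv, Subgroup.coe_zpow, hdm]
          group
        rw [this]
        exact hn.conj_mem m⁻¹ (M.inv_mem hm) _
      rw [pow_one, hmk, ← zpow_natCast, ← _root_.zpow_mul, mul_comm, _root_.zpow_mul, zpow_natCast,
        ← QuotientGroup.mk_pow]
      have hs1 : (⟨s, P.mem_s⟩ : ↥D) ^ p = 1 := Subtype.ext P.hs
      rw [hs1, QuotientGroup.mk_one, _root_.one_zpow]

theorem main : (p = 2 ∨ p = 3) ∧ φ₁ w₂ * φ₂ w₁ = -1 ∧
    ∃ A : ↥(Subgroup.closure ({s, t} : Set Γ)) →* SpecialLinearGroup (Fin 2) (ZMod p),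
      (∀ d, (A d : Matrix (Fin 2) (Fin 2) (ZMod p)) = pairMat ρ w₁ w₂ φ₁ φ₂ (d : Γ)) ∧
        Function.Bijective A := by
  have hp : p.Prime := Fact.out
  set D := Subgroup.closure ({s, t} : Set Γ) with hD
  obtain ⟨A, hA, hAinj⟩ : ∃ A : ↥D →* SpecialLinearGroup (Fin 2) (ZMod p),
    (∀ d, (A d : Matrix (Fin 2) (Fin 2) (ZMod p)) = pairMat ρ w₁ w₂ φ₁ φ₂ (d : Γ)) ∧
      Function.Injective A := P.exists_hom
  set s' : ↥D := ⟨s, P.mem_s⟩ with hs'
  set t' : ↥D := ⟨t, P.mem_t⟩ with ht'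
  have hgen : Subgroup.closure ({s', t'} : Set ↥D) = ⊤ := by
    apply Subgroup.map_injective D.subtype_injective
    rw [MonoidHom.map_closure, ← MonoidHom.range_eq_map, Subgroup.range_subtype, Set.image_pair]
    rfl
  have hXgen : A.range = Subgroup.closure
      ({A s', A t'} : Set (SpecialLinearGroup (Fin 2) (ZMod p))) := by
    rw [MonoidHom.range_eq_map, ← hgen, MonoidHom.map_closure, Set.image_pair]
  have hs'p : s' ^ p = 1 := Subtype.ext P.hs
  have ht'p : t' ^ p = 1 := Subtype.ext P.ht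
  have hAs : A s' ^ p = 1 := by rw [← map_pow, hs'p, map_one]
  have hAt : A t' ^ p = 1 := by rw [← map_pow, ht'p, map_one]
  have hs'1 : s' ≠ 1 := fun h => P.s_ne_one (congrArg Subtype.val h)
  have ht'1 : t' ≠ 1 := fun h => P.t_ne_one (congrArg Subtype.val h)
  have hts' : t' ≠ s' := fun h => P.hts (congrArg Subtype.val h)
  set c' : ↥D := t' * s'⁻¹ with hc'
  have hc'1 : c' ≠ 1 := fun h => hts' (mul_inv_eq_one.mp h)
  have hc'M : c' ^ Nat.card M = 1 := Subtype.ext P.pow_card_c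
  have hAc1 : A c' ≠ 1 := fun h => hc'1 (hAinj (by rw [h, map_one]))
  have hAcM : A c' ^ Nat.card M = 1 := by rw [← map_pow, hc'M, map_one]
  have hnp : ¬ IsPGroup p ↥A.range := by
    intro hpg
    obtain ⟨k, hk⟩ := hpg ⟨A c', c', rfl⟩
    have hk' : A c' ^ p ^ k = 1 := congrArg Subtype.val hk
    exact hAc1 (Cfsg.Agent.Lib.Helper40.eq_one_of_pow_eq_one_of_coprime hk' hAcM P.coprime)
  have hsol : IsPSolvable p ↥A.range :=
    isPSolvable_map A.rangeRestrict A.rangeRestrict_surjective P.isPSolvable_closure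
  have hAcmat : (A c' : Matrix (Fin 2) (Fin 2) (ZMod p)) =
      !![1, -φ₁ w₂; φ₂ w₁, 1 - φ₁ w₂ * φ₂ w₁] := by
    rw [hA]; exact P.pairMat_c
  by_cases hp2 : p = 2
  · subst hp2
    refine ⟨Or.inl rfl, zmod2_tau _ P.prod_ne, A, hA, hAinj, ?_⟩
    intro g
    have hSS : A s' * A s' = 1 := by rw [← pow_two]; exact hAs
    have hTT : A t' * A t' = 1 := by rw [← pow_two]; exact hAt
    have hS1 : A s' ≠ 1 := fun h => hs'1 (hAinj (by rw [h, map_one]))
    have hT1 : A t' ≠ 1 := fun h => ht'1 (hAinj (by rw [h, map_one]))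
    have hST : A s' ≠ A t' := fun h => hts' (hAinj h.symm)
    rcases SL2_two_gen (A s') (A t') g hSS hTT hS1 hT1 hST with h | h | h | h | h | h
    · exact ⟨1, by rw [h, map_one]⟩
    · exact ⟨s', h.symm⟩
    · exact ⟨t', h.symm⟩
    · exact ⟨s' * t', by rw [h, map_mul]⟩
    · exact ⟨t' * s', by rw [h, map_mul]⟩
    · exact ⟨s' * t' * s', by rw [h, map_mul, map_mul]⟩
  · have hS : ∀ x ∈ ({A s', A t'} : Set (SpecialLinearGroup (Fin 2) (ZMod p))), x ^ p = 1 := by
      intro x hx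
      rcases hx with rfl | hx
      · exact hAs
      · rw [Set.mem_singleton_iff] at hx
        subst hx
        exact hAt
    rcases SL2_pSolvable_dichotomy hp2 A.range _ hS hXgen hsol with h | ⟨hp3, ψ, hψi, hψr⟩
    · exact absurd h hnp
    · subst hp3
      have hψs : Function.Surjective ψ := Finite.injective_iff_surjective.mp hψi
      have hAsurj : Function.Surjective A := by
        intro g
        obtain ⟨x, rfl⟩ := hψs g
        exact hψr ⟨x, rfl⟩
      refine ⟨Or.inr rfl, ?_, A, hA, hAinj, hAsurj⟩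
      have h24 : A c' ^ 24 = 1 := SL2_three_pow (A c')
      have h8 : A c' ^ 8 = 1 := by
        have hd1 : orderOf (A c') ∣ 24 := orderOf_dvd_of_pow_eq_one h24
        have hd2 : orderOf (A c') ∣ Nat.card M := orderOf_dvd_of_pow_eq_one hAcM
        have hd3 : (orderOf (A c')).Coprime 3 := Nat.Coprime.coprime_dvd_left hd2 P.coprime
        have hd4 : orderOf (A c') ∣ 8 := by
          have : orderOf (A c') ∣ 3 * 8 := hd1
          exact hd3.dvd_of_dvd_mul_left this
        exact orderOf_dvd_iff_pow_eq_one.mp hd4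
      have h8m : (!![1, -φ₁ w₂; φ₂ w₁, 1 - φ₁ w₂ * φ₂ w₁] : Matrix (Fin 2) (Fin 2) (ZMod 3)) ^ 8
          = 1 := by
        have h8' := sl_pow_coe (A c') 8 h8
        rw [hAcmat] at h8'
        exact h8'
      exact zmod3_tau _ _ P.prod_ne h8m

end TvPair

end pairmain

end Cfsg.Agent.Lib.Helper14
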