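import Mathlib
import Cfsg.Prelude.Def_Local
import Cfsg.Agent.Lib.Helper14.Tv4

set_option autoImplicit false
set_option linter.unusedSectionVars false

namespace Cfsg.Agent.Lib.Helper14

open Cfsg Matrix

section small5

theorem zmod2_three : ∀ α β a a' b b' : ZMod 2, α * β = -1 → a * a' = -1 → b * b' = -1 →
    (a - b * α) * (a' + β * b') = -1 → False := by
  decide

theorem zmod3_three : ∀ X : ZMod 3, X = 1 → X = -1 → False := by
  decide

end small5

section three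

variable {p : ℕ} [Fact p.Prime] {𝕍 : Type*} [AddCommGroup 𝕍] [Module (ZMod p) 𝕍]
variable {Γ : Type*} [Group Γ] [Finite Γ] {ρ : Γ →* Module.End (ZMod p) 𝕍}
variable {M : Subgroup Γ}

/-- the standing hypotheses on the normal `p'`-subgroup `M`. -/
structure TvBase (ρ : Γ →* Module.End (ZMod p) 𝕍) (M : Subgroup Γ) : Prop where
  faithful : ∀ g : Γ, ρ g = 1 → g = 1
  normal : M.Normal
  coprime : (Nat.card M).Coprime p

theorem conj_pow_eq_one {s : Γ} (hs : s ^ p = 1) (g : Γ) : (g * s * g⁻¹) ^ p = 1 := by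
  rw [conj_pow, hs, mul_one, mul_inv_cancel]

namespace TvBase

variable (B : TvBase ρ M)
include B

theorem pair {s : Γ} {w : 𝕍} {φ : 𝕍 →ₗ[ZMod p] ZMod p} (h : IsTvWith ρ s w φ) (hs : s ^ p = 1)
    (g g' : Γ) (hM : g' * s * g'⁻¹ * (g * s * g⁻¹)⁻¹ ∈ M) (hne : g' * s * g'⁻¹ ≠ g * s * g⁻¹) :
    TvPair ρ M (g * s * g⁻¹) (g' * s * g'⁻¹) (ρ g w) (ρ g' w) (φ ∘ₗ ρ g⁻¹) (φ ∘ₗ ρ g'⁻¹) where
  faithful := B.faithful
  normal := B.normal
  coprime := B.coprime
  tv₁ := tv_conj h g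
  tv₂ := tv_conj h g'
  hs := conj_pow_eq_one hs g
  ht := conj_pow_eq_one hs g'
  hc := hM
  hts := hne

theorem prod_eq {s : Γ} {w : 𝕍} {φ : 𝕍 →ₗ[ZMod p] ZMod p} (h : IsTvWith ρ s w φ) (hs : s ^ p = 1)
    (g g' : Γ) (hM : g' * s * g'⁻¹ * (g * s * g⁻¹)⁻¹ ∈ M) (hne : g' * s * g'⁻¹ ≠ g * s * g⁻¹) :
    (p = 2 ∨ p = 3) ∧ φ (ρ g⁻¹ (ρ g' w)) * φ (ρ g'⁻¹ (ρ g w)) = -1 := by
  obtain ⟨h1, h2, -⟩ := (B.pair h hs g g' hM hne).main
  exact ⟨h1, h2⟩

/-- **three transvections**: every `M`-conjugate of the transvection `s` lies in the group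
generated by `s` and one `M`-conjugate `t ≠ s`. -/
theorem three {s : Γ} {w : 𝕍} {φ : 𝕍 →ₗ[ZMod p] ZMod p} (h : IsTvWith ρ s w φ) (hs : s ^ p = 1)
    {y z : Γ} (hy : y ∈ M) (hz : z ∈ M) (hne : y * s * y⁻¹ ≠ s) :
    z * s * z⁻¹ ∈ Subgroup.closure ({s, y * s * y⁻¹} : Set Γ) := by
  have hn := B.normal
  by_contra hu
  set t := y * s * y⁻¹ with ht
  have hsD : s ∈ Subgroup.closure ({s, t} : Set Γ) :=
    Subgroup.subset_closure (Set.mem_insert s _)
  have htD : t ∈ Subgroup.closure ({s, t} : Set Γ) :=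
    Subgroup.subset_closure (Set.mem_insert_of_mem s (Set.mem_singleton t))
  have hφw : φ w = 0 := tv_phi_w h hs
  have htp : t ^ p = 1 := conj_pow_eq_one hs y
  have htv : IsTvWith ρ t (ρ y w) (φ ∘ₗ ρ y⁻¹) := tv_conj h y
  have hφt : (φ ∘ₗ ρ y⁻¹) (ρ y w) = 0 := tv_phi_w htv htp
  have ht_apply : ∀ v, ρ t v = v + φ (ρ y⁻¹ v) • ρ y w := fun v => htv.2 v
  have htinv_apply : ∀ v, ρ t⁻¹ v = v - φ (ρ y⁻¹ v) • ρ y w := fun v => tv_inv htv hφt v
  -- congruences modulo `M`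
  have hmem : ∀ a b : Γ, (QuotientGroup.mk' M) a = (QuotientGroup.mk' M) b → a * b⁻¹ ∈ M := by
    intro a b hab
    rw [← QuotientGroup.eq_one_iff, ← QuotientGroup.mk'_apply, map_mul, map_inv, hab,
      mul_inv_cancel]
  have hπy : (QuotientGroup.mk' M) y = 1 := (QuotientGroup.eq_one_iff y).mpr hy
  have hπz : (QuotientGroup.mk' M) z = 1 := (QuotientGroup.eq_one_iff z).mpr hz
  have hπt : (QuotientGroup.mk' M) t = (QuotientGroup.mk' M) s := by
    rw [ht, map_mul, map_mul, map_inv, hπy]; simp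
  have hπu : (QuotientGroup.mk' M) (z * s * z⁻¹) = (QuotientGroup.mk' M) s := by
    rw [map_mul, map_mul, map_inv, hπz]; simp
  have hπ1 : (QuotientGroup.mk' M) (1 * s * 1⁻¹) = (QuotientGroup.mk' M) s := by simp
  have hπr : (QuotientGroup.mk' M) (t * s * t⁻¹) = (QuotientGroup.mk' M) s := by
    rw [map_mul, map_mul, map_inv, hπt]; simp
  have hπr' : (QuotientGroup.mk' M) (t⁻¹ * s * t⁻¹⁻¹) = (QuotientGroup.mk' M) s := by
    rw [inv_inv, map_mul, map_mul, map_inv, hπt]; simp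
  -- the five pairs
  obtain ⟨hp23, E1⟩ := B.prod_eq h hs 1 y (hmem _ _ (by rw [hπ1]; exact hπt))
    (by rw [one_mul, inv_one, mul_one]; exact hne)
  obtain ⟨-, E2⟩ := B.prod_eq h hs 1 z (hmem _ _ (by rw [hπ1]; exact hπu))
    (by rw [one_mul, inv_one, mul_one]; exact fun h => hu (by rw [h]; exact hsD))
  obtain ⟨-, E3⟩ := B.prod_eq h hs y z (hmem _ _ (by rw [hπu]; exact hπt.symm))
    (fun h => hu (by rw [h]; exact htD))
  obtain ⟨-, E4⟩ := B.prod_eq h hs t z (hmem _ _ (by rw [hπu, hπr]))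
    (fun h => hu (by
      rw [h]; exact Subgroup.mul_mem _ (Subgroup.mul_mem _ htD hsD) (Subgroup.inv_mem _ htD)))
  obtain ⟨-, E5⟩ := B.prod_eq h hs t⁻¹ z (hmem _ _ (by rw [hπu, hπr']))
    (fun h => hu (by
      rw [h]; exact Subgroup.mul_mem _ (Subgroup.mul_mem _ (Subgroup.inv_mem _ htD) hsD)
        (Subgroup.inv_mem _ (Subgroup.inv_mem _ htD))))
  rw [inv_one, rho_one_apply, rho_one_apply] at E1 E2
  rw [htinv_apply, ht_apply, map_sub, map_smul, map_add, map_add, map_smul, map_smul] at E4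
  rw [inv_inv, ht_apply, htinv_apply, map_add, map_smul, map_sub, map_sub, map_smul, map_smul]
    at E5
  simp only [smul_eq_mul] at E4 E5
  set α := φ (ρ y w) with hα
  set β := φ (ρ y⁻¹ w) with hβ
  set a := φ (ρ z w) with ha
  set a' := φ (ρ z⁻¹ w) with ha'
  set b := φ (ρ y⁻¹ (ρ z w)) with hb
  set b' := φ (ρ z⁻¹ (ρ y w)) with hb'
  rcases hp23 with hp2 | hp3
  · subst hp2
    exact zmod2_three α β a a' b b' E1 E2 E3 E4
  · subst hp3
    have hX1 : a * β * b' - b * α * a' = 1 := by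
      linear_combination E4 - E2 + b * b' * E1 - E3
    have hX2 : a * β * b' - b * α * a' = -1 := by
      linear_combination -E5 + E2 - b * b' * E1 + E3
    exact zmod3_three _ hX1 hX2

end TvBase

end three

end Cfsg.Agent.Lib.Helper14
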