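import Mathlib
import Cfsg.Prelude.Def_Local
import Cfsg.Agent.Lib.Helper14.Tv5

set_option autoImplicit false
set_option linter.unusedSectionVars false

namespace Cfsg.Agent.Lib.Helper14

open Cfsg Matrix

section small6

theorem zmod2_disc : ∀ α β x y : ZMod 2, α * β = -1 → ¬ (x = 0 ∧ y = 0) →
    x * (β * x + (1 - α * β) * y) - y * (x - α * y) ≠ 0 := by
  decide

theorem zmod3_disc : ∀ α β x y : ZMod 3, α * β = -1 → ¬ (x = 0 ∧ y = 0) →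
    x * (β * x + (1 - α * β) * y) - y * (x - α * y) ≠ 0 := by
  decide

end small6

section isU

variable {p : ℕ} [Fact p.Prime] {𝕍 : Type*} [AddCommGroup 𝕍] [Module (ZMod p) 𝕍]
variable {Γ : Type*} [Group Γ] {ρ : Γ →* Module.End (ZMod p) 𝕍}
variable {w₁ w₂ : 𝕍} {φ₁ φ₂ : 𝕍 →ₗ[ZMod p] ZMod p}

/-- `k` acts trivially on the plane and on the quotient by the plane. -/
def IsU (ρ : Γ →* Module.End (ZMod p) 𝕍) (w₁ w₂ : 𝕍) (k : Γ) : Prop :=
  (∀ u, InPlane p w₁ w₂ u → ρ k u = u) ∧ ∀ v, InPlane p w₁ w₂ (ρ k v - v)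

theorem IsU.inv {k : Γ} (hk : IsU ρ w₁ w₂ k) : IsU ρ w₁ w₂ k⁻¹ := by
  have hfix : ∀ u, InPlane p w₁ w₂ u → ρ k⁻¹ u = u := by
    intro u hu
    have := rho_inv_apply ρ k u
    rwa [hk.1 u hu] at this
  refine ⟨hfix, fun v => ?_⟩
  have h1 := hk.2 (ρ k⁻¹ v)
  rw [rho_apply_inv] at h1
  have : ρ k⁻¹ v - v = -(v - ρ k⁻¹ v) := by abel
  rw [this]; exact inPlane_neg h1

theorem IsU.mul {k k' : Γ} (hk : IsU ρ w₁ w₂ k) (hk' : IsU ρ w₁ w₂ k') :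
    IsU ρ w₁ w₂ (k * k') := by
  refine ⟨fun u hu => ?_, fun v => ?_⟩
  · rw [rho_mul_apply, hk'.1 u hu, hk.1 u hu]
  · have : ρ (k * k') v - v = (ρ k (ρ k' v) - ρ k' v) + (ρ k' v - v) := by
      rw [rho_mul_apply]; abel
    rw [this]; exact inPlane_add (hk.2 _) (hk'.2 _)

theorem IsU.conj {k : Γ} (hk : IsU ρ w₁ w₂ k) {g : Γ} (hg : Pres ρ w₁ w₂ g)
    (hg' : Pres ρ w₁ w₂ g⁻¹) : IsU ρ w₁ w₂ (g * k * g⁻¹) := by
  refine ⟨fun u hu => ?_, fun v => ?_⟩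
  · rw [rho_mul_apply, rho_mul_apply, hk.1 _ (pres_apply hg' hu), rho_apply_inv]
  · have : ρ (g * k * g⁻¹) v - v = ρ g (ρ k (ρ g⁻¹ v) - ρ g⁻¹ v) := by
      rw [rho_mul_apply, rho_mul_apply, map_sub, rho_apply_inv]
    rw [this]; exact pres_apply hg (hk.2 _)

theorem IsU.pow_p (hρ : ∀ g : Γ, ρ g = 1 → g = 1) {k : Γ} (hk : IsU ρ w₁ w₂ k) : k ^ p = 1 := by
  set N : 𝕍 →ₗ[ZMod p] 𝕍 := ρ k - 1 with hN
  have hNv : ∀ v, N v = ρ k v - v := fun v => by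
    rw [hN, LinearMap.sub_apply, Module.End.one_apply]
  have hNN : ∀ v, N (N v) = 0 := by
    intro v
    rw [hNv (N v), hk.1 _ (by rw [hNv]; exact hk.2 v), sub_self]
  have hpow := rho_pow_of_cube_zero k (fun v => N v) (fun v => by rw [hNv]; abel)
    (fun v v' => map_add N v v') (fun v => by
      show N (N (N v)) = 0
      rw [hNN v, map_zero]) p
  apply hρ
  apply LinearMap.ext
  intro v
  rw [hpow v]
  show v + p • N v + p.choose 2 • N (N v) = (1 : Module.End (ZMod p) 𝕍) v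
  rw [hNN v, smul_zero, add_zero, p_nsmul_eq_zero, add_zero, Module.End.one_apply]

theorem fix_of_pairMat_eq_one (hφ₁ : φ₁ w₁ = 0) (hφ₂ : φ₂ w₂ = 0) (hα : φ₁ w₂ ≠ 0)
    (hβ : φ₂ w₁ ≠ 0) {d : Γ} (hpres : Pres ρ w₁ w₂ d)
    (h : pairMat ρ w₁ w₂ φ₁ φ₂ d = 1) : ∀ w, InPlane p w₁ w₂ w → ρ d w = w := by
  have c1 := inPlane_coord hφ₁ hφ₂ hα hβ hpres.1
  have c2 := inPlane_coord hφ₁ hφ₂ hα hβ hpres.2
  have e00 : (φ₂ w₁)⁻¹ * φ₂ (ρ d w₁) = 1 := by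
    have := congrFun (congrFun h 0) 0
    simpa [pairMat] using this
  have e10 : (φ₁ w₂)⁻¹ * φ₁ (ρ d w₁) = 0 := by
    have := congrFun (congrFun h 1) 0
    simpa [pairMat] using this
  have e01 : (φ₂ w₁)⁻¹ * φ₂ (ρ d w₂) = 0 := by
    have := congrFun (congrFun h 0) 1
    simpa [pairMat] using this
  have e11 : (φ₁ w₂)⁻¹ * φ₁ (ρ d w₂) = 1 := by
    have := congrFun (congrFun h 1) 1
    simpa [pairMat] using this
  have hw₁ : ρ d w₁ = w₁ := by rw [c1, e00, e10, one_smul, zero_smul, add_zero]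
  have hw₂ : ρ d w₂ = w₂ := by rw [c2, e01, e11, zero_smul, one_smul, zero_add]
  rintro w ⟨x, y, rfl⟩
  rw [map_add, map_smul, map_smul, hw₁, hw₂]

theorem pairMat_pow (hφ₁ : φ₁ w₁ = 0) (hφ₂ : φ₂ w₂ = 0) (hα : φ₁ w₂ ≠ 0)
    (hβ : φ₂ w₁ ≠ 0) {g : Γ} (hg : Pres ρ w₁ w₂ g) (n : ℕ) :
    pairMat ρ w₁ w₂ φ₁ φ₂ (g ^ n) = (pairMat ρ w₁ w₂ φ₁ φ₂ g) ^ n := by
  induction n with
  | zero => rw [pow_zero, pow_zero, pairMat_one hφ₁ hφ₂ hα hβ]
  | succ n ih => rw [pow_succ, pow_succ, pairMat_mul hφ₁ hφ₂ hα hβ _ hg, ih]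

end isU

section pairfacts

variable {p : ℕ} [Fact p.Prime] {𝕍 : Type*} [AddCommGroup 𝕍] [Module (ZMod p) 𝕍]
variable {Γ : Type*} [Group Γ] [Finite Γ] {ρ : Γ →* Module.End (ZMod p) 𝕍}
variable {M : Subgroup Γ} {s t : Γ} {w₁ w₂ : 𝕍} {φ₁ φ₂ : 𝕍 →ₗ[ZMod p] ZMod p}

namespace TvPair

variable (P : TvPair ρ M s t w₁ w₂ φ₁ φ₂)
include P

theorem indep {x y : ZMod p} (h : x • w₁ + y • w₂ = 0) : x = 0 ∧ y = 0 := by
  have h1 := congrArg φ₁ h
  have h2 := congrArg φ₂ h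
  rw [map_add, map_smul, map_smul, P.phi₁, map_zero] at h1
  rw [map_add, map_smul, map_smul, P.phi₂, map_zero] at h2
  simp only [smul_eq_mul, mul_zero, zero_add, add_zero, mul_eq_zero] at h1 h2
  exact ⟨h2.resolve_right P.beta_ne, h1.resolve_right P.alpha_ne⟩

theorem fix_iff₁ (v : 𝕍) : ρ s v = v ↔ φ₁ v = 0 := by
  rw [P.tv₁.2]
  constructor
  · intro h
    have h0 : φ₁ v • w₁ = 0 := by simpa using h
    exact (smul_eq_zero.mp h0).resolve_right P.tv₁.1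
  · intro h; rw [h, zero_smul, add_zero]

theorem fix_iff₂ (v : 𝕍) : ρ t v = v ↔ φ₂ v = 0 := by
  rw [P.tv₂.2]
  constructor
  · intro h
    have h0 : φ₂ v • w₂ = 0 := by simpa using h
    exact (smul_eq_zero.mp h0).resolve_right P.tv₂.1
  · intro h; rw [h, zero_smul, add_zero]

theorem fixed_in_plane {u : 𝕍} (hu : InPlane p w₁ w₂ u) (h1 : ρ s u = u) (h2 : ρ t u = u) :
    u = 0 := by
  obtain ⟨x, y, rfl⟩ := hu
  have e1 := (P.fix_iff₁ _).mp h1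
  have e2 := (P.fix_iff₂ _).mp h2
  rw [map_add, map_smul, map_smul, P.phi₁] at e1
  rw [map_add, map_smul, map_smul, P.phi₂] at e2
  simp only [smul_eq_mul, mul_zero, zero_add, add_zero, mul_eq_zero] at e1 e2
  rw [e1.resolve_right P.alpha_ne, e2.resolve_right P.beta_ne, zero_smul, zero_smul, add_zero]

theorem decomp (v : 𝕍) : ∃ u, InPlane p w₁ w₂ u ∧ ρ s (v - u) = v - u ∧ ρ t (v - u) = v - u := by
  have ha := P.alpha_ne
  have hb := P.beta_ne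
  refine ⟨((φ₂ w₁)⁻¹ * φ₂ v) • w₁ + ((φ₁ w₂)⁻¹ * φ₁ v) • w₂, ⟨_, _, rfl⟩, ?_, ?_⟩
  · rw [P.fix_iff₁, map_sub, map_add, map_smul, map_smul, P.phi₁]
    simp only [smul_eq_mul, mul_zero, zero_add]
    rw [mul_comm ((φ₁ w₂)⁻¹), mul_assoc, inv_mul_cancel₀ ha, mul_one, sub_self]
  · rw [P.fix_iff₂, map_sub, map_add, map_smul, map_smul, P.phi₂]
    simp only [smul_eq_mul, mul_zero, add_zero]
    rw [mul_comm ((φ₂ w₁)⁻¹), mul_assoc, inv_mul_cancel₀ hb, mul_one, sub_self]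

theorem fix_closure {v : 𝕍} (h1 : ρ s v = v) (h2 : ρ t v = v) {d : Γ}
    (hd : d ∈ Subgroup.closure ({s, t} : Set Γ)) : ρ d v = v := by
  have hle : Subgroup.closure ({s, t} : Set Γ) ≤ fixSub ρ v := by
    rw [Subgroup.closure_le]
    intro x hx
    rcases hx with hx | hx
    · rw [hx]; exact h1
    · rw [Set.mem_singleton_iff] at hx
      rw [hx]; exact h2
  exact hle hd

end TvPair

end pairfacts

section tve

variable {p : ℕ} [Fact p.Prime] {𝕍 : Type*} [AddCommGroup 𝕍] [Module (ZMod p) 𝕍]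
variable {Γ : Type*} [Group Γ] [Finite Γ] {ρ : Γ →* Module.End (ZMod p) 𝕍}
variable {M : Subgroup Γ} {s y : Γ} {w : 𝕍} {φ : 𝕍 →ₗ[ZMod p] ZMod p}

/-- the full setting: a transvection `s` of order `p`, and an element `y` of the
self-centralizing normal `p'`-subgroup `M` not commuting with `s`. -/
structure TvE (ρ : Γ →* Module.End (ZMod p) 𝕍) (M : Subgroup Γ) (s y : Γ) (w : 𝕍)
    (φ : 𝕍 →ₗ[ZMod p] ZMod p) : Prop where
  base : TvBase ρ M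
  cent : ∀ h : Γ, (∀ m ∈ M, h * m = m * h) → h ∈ M
  tv : IsTvWith ρ s w φ
  hs : s ^ p = 1
  hy : y ∈ M
  hne : y * s * y⁻¹ ≠ s

namespace TvE

variable (T : TvE ρ M s y w φ)
include T

theorem pair : TvPair ρ M s (y * s * y⁻¹) w (ρ y w) φ (φ ∘ₗ ρ y⁻¹) where
  faithful := T.base.faithful
  normal := T.base.normal
  coprime := T.base.coprime
  tv₁ := T.tv
  tv₂ := tv_conj T.tv y
  hs := T.hs
  ht := conj_pow_eq_one T.hs y
  hc := by
    have : y * s * y⁻¹ * s⁻¹ = y * (s * y⁻¹ * s⁻¹) := by group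
    rw [this]; exact M.mul_mem T.hy (T.base.normal.conj_mem y⁻¹ (M.inv_mem T.hy) s)
  hts := T.hne

theorem conj_mem {m : Γ} (hm : m ∈ M) :
    m * s * m⁻¹ ∈ Subgroup.closure ({s, y * s * y⁻¹} : Set Γ) :=
  T.base.three T.tv T.hs T.hy hm T.hne

theorem conj_mem' {m : Γ} (hm : m ∈ M) {d : Γ}
    (hd : d ∈ Subgroup.closure ({s, y * s * y⁻¹} : Set Γ)) :
    m * d * m⁻¹ ∈ Subgroup.closure ({s, y * s * y⁻¹} : Set Γ) := by
  induction hd using Subgroup.closure_induction with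
  | mem x hx =>
    rcases hx with hx | hx
    · rw [hx]; exact T.conj_mem hm
    · rw [Set.mem_singleton_iff] at hx
      have : m * x * m⁻¹ = (m * y) * s * (m * y)⁻¹ := by rw [hx]; group
      rw [this]; exact T.conj_mem (M.mul_mem hm T.hy)
  | one => rw [mul_one, mul_inv_cancel]; exact Subgroup.one_mem _
  | mul a b ha hb iha ihb =>
    have : m * (a * b) * m⁻¹ = (m * a * m⁻¹) * (m * b * m⁻¹) := by group
    rw [this]; exact Subgroup.mul_mem _ iha ihb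
  | inv a ha iha =>
    have : m * a⁻¹ * m⁻¹ = (m * a * m⁻¹)⁻¹ := by group
    rw [this]; exact Subgroup.inv_mem _ iha

theorem inPlane_M {m : Γ} (hm : m ∈ M) : InPlane p w (ρ y w) (ρ m w) := by
  have P := T.pair
  have hu := T.conj_mem hm
  have h1 := (P.sub_of_mem hu).1 (ρ m (ρ y w))
  have h2 : ρ (m * s * m⁻¹) (ρ m (ρ y w)) - ρ m (ρ y w) = φ (ρ y w) • ρ m w := by
    rw [rho_mul_apply, rho_mul_apply, rho_inv_apply, T.tv.2, map_add, map_smul,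
      add_sub_cancel_left]
  rw [h2] at h1
  have h3 := inPlane_smul (φ (ρ y w))⁻¹ h1
  rwa [smul_smul, inv_mul_cancel₀ P.alpha_ne, one_smul] at h3

theorem pres_M {m : Γ} (hm : m ∈ M) : Pres ρ w (ρ y w) m := by
  refine ⟨T.inPlane_M hm, ?_⟩
  rw [← rho_mul_apply]; exact T.inPlane_M (M.mul_mem hm T.hy)

theorem isU_eq_one {k : Γ} (hk : IsU ρ w (ρ y w) k) : k = 1 := by
  have hn := T.base.normal
  have hkp := hk.pow_p T.base.faithful
  have hcop : ∀ x ∈ M, x ^ p = 1 → x = 1 := by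
    intro x hxM hxp
    have h2 : orderOf x ∣ Nat.card M := by
      have := orderOf_dvd_natCard (⟨x, hxM⟩ : M)
      rwa [Subgroup.orderOf_mk] at this
    have h1 : orderOf x ∣ p := orderOf_dvd_of_pow_eq_one hxp
    exact orderOf_eq_one_iff.mp (Nat.eq_one_of_dvd_coprimes T.base.coprime h2 h1)
  have hcent : ∀ m ∈ M, k * m = m * k := by
    intro m hm
    have hc : IsU ρ w (ρ y w) (k * (m * k⁻¹ * m⁻¹)) :=
      hk.mul (hk.inv.conj (T.pres_M hm) (T.pres_M (M.inv_mem hm)))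
    have hcM : k * (m * k⁻¹ * m⁻¹) ∈ M := by
      have : k * (m * k⁻¹ * m⁻¹) = (k * m * k⁻¹) * m⁻¹ := by group
      rw [this]; exact M.mul_mem (hn.conj_mem m hm k) (M.inv_mem hm)
    have h1 := hcop _ hcM (hc.pow_p T.base.faithful)
    calc k * m = (k * (m * k⁻¹ * m⁻¹)) * (m * k) := by group
      _ = m * k := by rw [h1, one_mul]
  exact hcop k (T.cent k hcent) hkp

/-- **Lemma P**: an element of order dividing `p` which preserves the plane and acts trivially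
on the quotient by the plane lies in `⟨s, t⟩`. -/
theorem lemmaP {g : Γ} (hgp : g ^ p = 1) (hg : Pres ρ w (ρ y w) g)
    (hsub : ∀ v, InPlane p w (ρ y w) (ρ g v - v)) :
    g ∈ Subgroup.closure ({s, y * s * y⁻¹} : Set Γ) := by
  have P := T.pair
  obtain ⟨-, -, A, hA, hAbij⟩ := P.main
  have hdet : (pairMat ρ w (ρ y w) φ (φ ∘ₗ ρ y⁻¹) g).det = 1 := by
    have h1 := pairMat_pow P.phi₁ P.phi₂ P.alpha_ne P.beta_ne hg p
    rw [hgp, pairMat_one P.phi₁ P.phi₂ P.alpha_ne P.beta_ne] at h1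
    have h2 := congrArg Matrix.det h1
    rw [Matrix.det_one, Matrix.det_pow, ZMod.pow_card] at h2
    exact h2.symm
  obtain ⟨d, hd⟩ := hAbij.2 ⟨pairMat ρ w (ρ y w) φ (φ ∘ₗ ρ y⁻¹) g, hdet⟩
  have hdm : pairMat ρ w (ρ y w) φ (φ ∘ₗ ρ y⁻¹) (d : Γ) =
      pairMat ρ w (ρ y w) φ (φ ∘ₗ ρ y⁻¹) g := by
    rw [← hA d, hd]
  have hdpres := P.pres_of_mem d.2
  have hk : IsU ρ w (ρ y w) (g * (d : Γ)⁻¹) := by
    have hkpres : Pres ρ w (ρ y w) (g * (d : Γ)⁻¹) := pres_mul hg hdpres.2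
    have hmat : pairMat ρ w (ρ y w) φ (φ ∘ₗ ρ y⁻¹) (g * (d : Γ)⁻¹) = 1 := by
      rw [pairMat_mul P.phi₁ P.phi₂ P.alpha_ne P.beta_ne g hdpres.2, ← hdm,
        ← pairMat_mul P.phi₁ P.phi₂ P.alpha_ne P.beta_ne _ hdpres.2, mul_inv_cancel,
        pairMat_one P.phi₁ P.phi₂ P.alpha_ne P.beta_ne]
    refine ⟨fix_of_pairMat_eq_one P.phi₁ P.phi₂ P.alpha_ne P.beta_ne hkpres hmat, fun v => ?_⟩
    have : ρ (g * (d : Γ)⁻¹) v - v = ρ g (ρ (d : Γ)⁻¹ v - v) + (ρ g v - v) := by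
      rw [rho_mul_apply, map_sub]; abel
    rw [this]; exact inPlane_add (pres_apply hg ((P.sub_of_mem d.2).2 v)) (hsub v)
  have h1 := T.isU_eq_one hk
  have h2 : g = (d : Γ) := mul_inv_eq_one.mp h1
  rw [h2]; exact d.2

/-- an element with a nonzero fixed vector in the plane preserves the plane. -/
theorem pres_of_fix {g : Γ} {v₀ : 𝕍} (hv₀ : InPlane p w (ρ y w) v₀) (hne : v₀ ≠ 0)
    (hfix : ρ g v₀ = v₀) : Pres ρ w (ρ y w) g := by
  have P := T.pair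
  have hn := T.base.normal
  obtain ⟨hp23, hτ, -⟩ := P.main
  obtain ⟨x₀, y₀, rfl⟩ := hv₀
  have hxy : ¬ (x₀ = 0 ∧ y₀ = 0) := by
    rintro ⟨rfl, rfl⟩; exact hne (by simp)
  have hcM : y * s * y⁻¹ * s⁻¹ ∈ M := P.hc
  have hcw₁ : ρ (y * s * y⁻¹ * s⁻¹) w = w + (φ ∘ₗ ρ y⁻¹) w • ρ y w := by
    rw [rho_mul_apply, P.sinv_w₁, P.t_w₁]
  have hcw₂ : ρ (y * s * y⁻¹ * s⁻¹) (ρ y w) =
      (-φ (ρ y w)) • w + (1 - φ (ρ y w) * (φ ∘ₗ ρ y⁻¹) w) • ρ y w := by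
    rw [rho_mul_apply, P.sinv_w₂, map_sub, map_smul, P.t_w₂, P.t_w₁]; module
  have hcv : ρ (y * s * y⁻¹ * s⁻¹) (x₀ • w + y₀ • ρ y w) =
      (x₀ - φ (ρ y w) * y₀) • w +
        ((φ ∘ₗ ρ y⁻¹) w * x₀ + (1 - φ (ρ y w) * (φ ∘ₗ ρ y⁻¹) w) * y₀) • ρ y w := by
    rw [map_add, map_smul, map_smul, hcw₁, hcw₂]; module
  have hΔ0 : x₀ * ((φ ∘ₗ ρ y⁻¹) w * x₀ + (1 - φ (ρ y w) * (φ ∘ₗ ρ y⁻¹) w) * y₀) -
      y₀ * (x₀ - φ (ρ y w) * y₀) ≠ 0 := by
    rcases hp23 with h2 | h3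
    · subst h2; exact zmod2_disc _ _ x₀ y₀ hτ hxy
    · subst h3; exact zmod3_disc _ _ x₀ y₀ hτ hxy
  have hgc : InPlane p w (ρ y w) (ρ g (ρ (y * s * y⁻¹ * s⁻¹) (x₀ • w + y₀ • ρ y w))) := by
    have h0 : ρ g⁻¹ (x₀ • w + y₀ • ρ y w) = x₀ • w + y₀ • ρ y w := by
      have := rho_inv_apply ρ g (x₀ • w + y₀ • ρ y w)
      rwa [hfix] at this
    have h1 : ρ g (ρ (y * s * y⁻¹ * s⁻¹) (x₀ • w + y₀ • ρ y w)) =
        ρ (g * (y * s * y⁻¹ * s⁻¹) * g⁻¹) (x₀ • w + y₀ • ρ y w) := by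
      conv_rhs => rw [rho_mul_apply, rho_mul_apply, h0]
    rw [h1]
    exact pres_apply (T.pres_M (hn.conj_mem _ hcM g)) ⟨x₀, y₀, rfl⟩
  have hgv : InPlane p w (ρ y w) (ρ g (x₀ • w + y₀ • ρ y w)) := by
    rw [hfix]; exact ⟨x₀, y₀, rfl⟩
  set Δ := x₀ * ((φ ∘ₗ ρ y⁻¹) w * x₀ + (1 - φ (ρ y w) * (φ ∘ₗ ρ y⁻¹) w) * y₀) -
      y₀ * (x₀ - φ (ρ y w) * y₀) with hΔ
  have e1 : Δ • w = ((φ ∘ₗ ρ y⁻¹) w * x₀ + (1 - φ (ρ y w) * (φ ∘ₗ ρ y⁻¹) w) * y₀) •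
      (x₀ • w + y₀ • ρ y w) - y₀ • ρ (y * s * y⁻¹ * s⁻¹) (x₀ • w + y₀ • ρ y w) := by
    rw [hcv, hΔ]; module
  have e2 : Δ • ρ y w = (-(x₀ - φ (ρ y w) * y₀)) • (x₀ • w + y₀ • ρ y w) +
      x₀ • ρ (y * s * y⁻¹ * s⁻¹) (x₀ • w + y₀ • ρ y w) := by
    rw [hcv, hΔ]; module
  constructor
  · have h1 : ρ g w = Δ⁻¹ • ρ g (Δ • w) := by
      rw [map_smul, smul_smul, inv_mul_cancel₀ hΔ0, one_smul]
    rw [h1, e1, map_sub, map_smul, map_smul]
    exact inPlane_smul _ (inPlane_sub (inPlane_smul _ hgv) (inPlane_smul _ hgc))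
  · have h1 : ρ g (ρ y w) = Δ⁻¹ • ρ g (Δ • ρ y w) := by
      rw [map_smul, smul_smul, inv_mul_cancel₀ hΔ0, one_smul]
    rw [h1, e2, map_add, map_smul, map_smul]
    exact inPlane_smul _ (inPlane_add (inPlane_smul _ hgv) (inPlane_smul _ hgc))

/-- **dichotomy**: every transvection of order `p` lies in `⟨s, t⟩` or centralizes the plane. -/
theorem tv_dichotomy {b : Γ} {w_b : 𝕍} {φ_b : 𝕍 →ₗ[ZMod p] ZMod p} (hb : IsTvWith ρ b w_b φ_b)
    (hbp : b ^ p = 1) :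
    b ∈ Subgroup.closure ({s, y * s * y⁻¹} : Set Γ) ∨ (ρ b w = w ∧ ρ b (ρ y w) = ρ y w) := by
  have P := T.pair
  by_cases h0 : φ_b w = 0 ∧ φ_b (ρ y w) = 0
  · right
    rw [hb.2, hb.2, h0.1, h0.2, zero_smul, add_zero, add_zero]
    exact ⟨rfl, rfl⟩
  · left
    have hv₀W : InPlane p w (ρ y w) (φ_b (ρ y w) • w - φ_b w • ρ y w) :=
      ⟨φ_b (ρ y w), -φ_b w, by module⟩
    have hv₀ne : φ_b (ρ y w) • w - φ_b w • ρ y w ≠ 0 := by
      intro h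
      have h1 := congrArg φ h
      have h2 := congrArg (φ ∘ₗ ρ y⁻¹) h
      rw [map_sub, map_smul, map_smul, P.phi₁, map_zero] at h1
      rw [map_sub, map_smul, map_smul, P.phi₂, map_zero] at h2
      simp only [smul_eq_mul, mul_zero, zero_sub, sub_zero, neg_eq_zero, mul_eq_zero] at h1 h2
      exact h0 ⟨h1.resolve_right P.alpha_ne, h2.resolve_right P.beta_ne⟩
    have hfix : ρ b (φ_b (ρ y w) • w - φ_b w • ρ y w) = φ_b (ρ y w) • w - φ_b w • ρ y w := by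
      rw [hb.2]
      have : φ_b (φ_b (ρ y w) • w - φ_b w • ρ y w) = 0 := by
        rw [map_sub, map_smul, map_smul, smul_eq_mul, smul_eq_mul]; ring
      rw [this, zero_smul, add_zero]
    have hpres := T.pres_of_fix hv₀W hv₀ne hfix
    have hwb : InPlane p w (ρ y w) w_b := by
      by_cases h1 : φ_b w = 0
      · have h2 : φ_b (ρ y w) ≠ 0 := fun h => h0 ⟨h1, h⟩
        have h3 := inPlane_sub hpres.2 (inPlane_right w (ρ y w))
        rw [hb.2, add_sub_cancel_left] at h3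
        have h4 := inPlane_smul (φ_b (ρ y w))⁻¹ h3
        rwa [smul_smul, inv_mul_cancel₀ h2, one_smul] at h4
      · have h3 := inPlane_sub hpres.1 (inPlane_left w (ρ y w))
        rw [hb.2, add_sub_cancel_left] at h3
        have h4 := inPlane_smul (φ_b w)⁻¹ h3
        rwa [smul_smul, inv_mul_cancel₀ h1, one_smul] at h4
    apply T.lemmaP hbp hpres
    intro v
    rw [hb.2, add_sub_cancel_left]; exact inPlane_smul _ hwb

/-- `⟨s, t⟩` commutes with the centralizer of the plane. -/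
theorem comm_of_fix {d c : Γ} (hd : d ∈ Subgroup.closure ({s, y * s * y⁻¹} : Set Γ))
    (hc₁ : ρ c w = w) (hc₂ : ρ c (ρ y w) = ρ y w) : d * c = c * d := by
  have P := T.pair
  have hcfix : ∀ u, InPlane p w (ρ y w) u → ρ c u = u := by
    rintro u ⟨x, y', rfl⟩
    rw [map_add, map_smul, map_smul, hc₁, hc₂]
  have hcinv : ∀ u, InPlane p w (ρ y w) u → ρ c⁻¹ u = u := by
    intro u hu
    have := rho_inv_apply ρ c u
    rwa [hcfix u hu] at this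
  have hdp := P.pres_of_mem hd
  have hds := P.sub_of_mem hd
  have hk : IsU ρ w (ρ y w) (d * c * d⁻¹ * c⁻¹) := by
    refine ⟨fun u hu => ?_, fun v => ?_⟩
    · rw [rho_mul_apply, rho_mul_apply, rho_mul_apply, hcinv u hu,
        hcfix _ (pres_apply hdp.2 hu), rho_apply_inv]
    · have : ρ (d * c * d⁻¹ * c⁻¹) v - v =
          ρ d (ρ c (ρ d⁻¹ (ρ c⁻¹ v) - ρ c⁻¹ v)) + (ρ d v - v) := by
        rw [rho_mul_apply, rho_mul_apply, rho_mul_apply, map_sub, map_sub, rho_apply_inv]; abel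
      rw [this]
      refine inPlane_add (pres_apply hdp.1 ?_) (hds.1 v)
      rw [hcfix _ (hds.2 _)]; exact hds.2 _
  have h1 := T.isU_eq_one hk
  calc d * c = (d * c * d⁻¹ * c⁻¹) * (c * d) := by group
    _ = c * d := by rw [h1, one_mul]

end TvE

end tve

end Cfsg.Agent.Lib.Helper14
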