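import Mathlib
import Cfsg.Prelude.Def_PLocal
import Cfsg.Prelude.Def_Local
import Cfsg.Agent.Lib.Helper14.Tv6
import Cfsg.Agent.Lib.Helper14.FF2

set_option autoImplicit false
set_option linter.unusedSectionVars false

universe u

namespace Cfsg.Agent.Lib.Helper14

open Cfsg
open scoped commutatorElement

section linaux

variable {p : ℕ} [Fact p.Prime]

theorem exists_lin_aux0 {Γ : Type*} [Group Γ] {A : Type u} [CommGroup A]
    [Module (ZMod p) (Additive A)] (θ : Γ →* MulAut A) :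
    ∃ (ρ : Γ →* Module.End (ZMod p) (Additive A)),
      ∀ (h : Γ) (v : A), ρ h (Additive.ofMul v) = Additive.ofMul (θ h v) := by
  let ρ₀ : Γ →* Module.End (ZMod p) (Additive A) :=
    { toFun := fun g => (MulEquiv.toAdditive (θ g)).toAddMonoidHom.toZModLinearMap p
      map_one' := by
        apply LinearMap.ext
        intro x
        rw [Module.End.one_apply]
        show Additive.ofMul (θ 1 (Additive.toMul x)) = x
        rw [map_one]; rfl
      map_mul' := fun g h => by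
        apply LinearMap.ext
        intro x
        rw [Module.End.mul_apply]
        show Additive.ofMul (θ (g * h) (Additive.toMul x)) =
          Additive.ofMul (θ g (Additive.toMul (Additive.ofMul (θ h (Additive.toMul x)))))
        rw [map_mul]; rfl }
  exact ⟨ρ₀, fun h v => rfl⟩

theorem exists_lin_aux {Γ : Type*} [Group Γ] {A : Type u} [CommGroup A]
    (hA : ∀ x : A, x ^ p = 1) (θ : Γ →* MulAut A) :
    ∃ (𝕍 : Type u) (_ : AddCommGroup 𝕍) (_ : Module (ZMod p) 𝕍)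
      (ρ : Γ →* Module.End (ZMod p) 𝕍) (e : A ≃ 𝕍),
      (∀ v v' : A, e (v * v') = e v + e v') ∧ ∀ (h : Γ) (v : A), ρ h (e v) = e (θ h v) := by
  obtain ⟨ρ₀, hρ₀⟩ := @exists_lin_aux0 p _ Γ _ A _ (AddCommGroup.zmodModule (n := p) (fun x => by
    show Additive.ofMul (Additive.toMul x ^ p) = 0
    rw [hA]; rfl)) θ
  exact ⟨Additive A, inferInstance, AddCommGroup.zmodModule (n := p) (fun x => by
    show Additive.ofMul (Additive.toMul x ^ p) = 0
    rw [hA]; rfl), ρ₀, Additive.ofMul, fun v v' => rfl, hρ₀⟩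

end linaux

section lin

variable {G : Type u} [Group G] {p : ℕ} [Fact p.Prime]
variable {V H : Subgroup G} {hHV : H ≤ Subgroup.normalizer (V : Set G)}
variable {𝕍 : Type*} [AddCommGroup 𝕍] [Module (ZMod p) 𝕍]
variable {ρ : ↥H →* Module.End (ZMod p) 𝕍} {e : ↥V ≃ 𝕍}

/-- a linearization of the conjugation action of `H` on the elementary abelian group `V`. -/
structure Lin (V H : Subgroup G) (hHV : H ≤ Subgroup.normalizer (V : Set G))
    {𝕍 : Type*} [AddCommGroup 𝕍] [Module (ZMod p) 𝕍]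
    (ρ : ↥H →* Module.End (ZMod p) 𝕍) (e : ↥V ≃ 𝕍) : Prop where
  add : ∀ v v' : ↥V, e (v * v') = e v + e v'
  act : ∀ (h : ↥H) (v : ↥V), ρ h (e v) = e (conjHom V H hHV h v)

theorem exists_lin (V H : Subgroup G) (hVc : ∀ x ∈ V, ∀ y ∈ V, x * y = y * x)
    (hVp : ∀ x ∈ V, x ^ p = 1) (hHV : H ≤ Subgroup.normalizer (V : Set G)) :
    ∃ (𝕍 : Type u) (_ : AddCommGroup 𝕍) (_ : Module (ZMod p) 𝕍)
      (ρ : ↥H →* Module.End (ZMod p) 𝕍) (e : ↥V ≃ 𝕍), Lin V H hHV ρ e := by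
  let cg : CommGroup ↥V :=
    { (inferInstance : Group ↥V) with
      mul_comm := fun x y => Subtype.ext (hVc x x.2 y y.2) }
  obtain ⟨𝕍, i1, i2, ρ, e, hadd, hact⟩ := @exists_lin_aux p _ ↥H _ ↥V cg
    (fun x => Subtype.ext (hVp x x.2)) (conjHom V H hHV)
  exact ⟨𝕍, i1, i2, ρ, e, ⟨fun v v' => hadd v v', fun h v => hact h v⟩⟩

namespace Lin

variable (L : Lin V H hHV ρ e)
include L

theorem map_one : e 1 = 0 := by
  have h := L.add 1 1
  rw [mul_one] at h
  exact left_eq_add.mp h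

theorem map_inv (v : ↥V) : e v⁻¹ = -e v := by
  have h := L.add v v⁻¹
  rw [mul_inv_cancel, L.map_one] at h
  exact eq_neg_of_add_eq_zero_right h.symm

theorem map_div (v v' : ↥V) : e (v * v'⁻¹) = e v - e v' := by
  rw [L.add, L.map_inv, sub_eq_add_neg]

theorem map_pow (v : ↥V) (n : ℕ) : e (v ^ n) = n • e v := by
  induction n with
  | zero => rw [pow_zero, zero_smul, L.map_one]
  | succ n ih => rw [pow_succ, L.add, ih, succ_nsmul]

theorem symm_add (u u' : 𝕍) : e.symm (u + u') = e.symm u * e.symm u' := by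
  apply e.injective
  rw [L.add, e.apply_symm_apply, e.apply_symm_apply, e.apply_symm_apply]

theorem symm_zero : e.symm 0 = 1 := by
  apply e.injective
  rw [L.map_one, e.apply_symm_apply]

theorem symm_sub (u u' : 𝕍) : e.symm (u - u') = e.symm u * (e.symm u')⁻¹ := by
  apply e.injective
  rw [L.map_div, e.apply_symm_apply, e.apply_symm_apply, e.apply_symm_apply]

theorem symm_smul (c : ZMod p) (u : 𝕍) : e.symm (c • u) = e.symm u ^ c.val := by
  apply e.injective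
  rw [L.map_pow, e.apply_symm_apply, e.apply_symm_apply, ← Nat.cast_smul_eq_nsmul (ZMod p),
    ZMod.natCast_zmod_val]

theorem symm_act (h : ↥H) (u : 𝕍) : e.symm (ρ h u) = conjHom V H hHV h (e.symm u) := by
  apply e.injective
  rw [← L.act, e.apply_symm_apply, e.apply_symm_apply]

theorem act_eq_iff (h : ↥H) (v : ↥V) : ρ h (e v) = e v ↔ (h : G) * v = v * h := by
  rw [L.act, e.apply_eq_iff_eq]
  constructor
  · intro h1
    have h2 := congrArg Subtype.val h1
    rw [conjHom_apply] at h2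
    calc (h : G) * v = (h : G) * v * (h : G)⁻¹ * h := by group
      _ = v * h := by rw [h2]
  · intro h1
    apply Subtype.ext
    rw [conjHom_apply, h1]; group

theorem faithful (hf : H ⊓ Subgroup.centralizer (V : Set G) = ⊥) (h : ↥H) (hh : ρ h = 1) :
    h = 1 := by
  apply conjHom_eq_one V H hHV hf
  ext v
  have h1 := L.act h v
  rw [hh, Module.End.one_apply] at h1
  have h2 := e.injective h1
  rw [← h2]; rfl

/-- the subgroup of `G` inside `V` corresponding to a submodule. -/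
def grp (L : Lin V H hHV ρ e) (𝕎 : Submodule (ZMod p) 𝕍) : Subgroup G where
  carrier := {g | ∃ hg : g ∈ V, e ⟨g, hg⟩ ∈ 𝕎}
  mul_mem' := by
    rintro a b ⟨ha, ha'⟩ ⟨hb, hb'⟩
    refine ⟨V.mul_mem ha hb, ?_⟩
    have : (⟨a * b, V.mul_mem ha hb⟩ : ↥V) = ⟨a, ha⟩ * ⟨b, hb⟩ := rfl
    rw [this, L.add]; exact 𝕎.add_mem ha' hb'
  one_mem' := ⟨V.one_mem, by
    have : (⟨1, V.one_mem⟩ : ↥V) = 1 := rfl
    rw [this, L.map_one]; exact 𝕎.zero_mem⟩
  inv_mem' := by
    rintro a ⟨ha, ha'⟩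
    refine ⟨V.inv_mem ha, ?_⟩
    have : (⟨a⁻¹, V.inv_mem ha⟩ : ↥V) = (⟨a, ha⟩ : ↥V)⁻¹ := rfl
    rw [this, L.map_inv]; exact 𝕎.neg_mem ha'

/-- the submodule corresponding to a subgroup of `G`. -/
def sub (L : Lin V H hHV ρ e) (U : Subgroup G) : Submodule (ZMod p) 𝕍 where
  carrier := {u | ((e.symm u : ↥V) : G) ∈ U}
  add_mem' := by
    intro u u' hu hu'
    show ((e.symm (u + u') : ↥V) : G) ∈ U
    rw [L.symm_add]; exact U.mul_mem hu hu'
  zero_mem' := by
    show ((e.symm 0 : ↥V) : G) ∈ U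
    rw [L.symm_zero]; exact U.one_mem
  smul_mem' := by
    intro c u hu
    show ((e.symm (c • u) : ↥V) : G) ∈ U
    rw [L.symm_smul]; exact U.pow_mem hu _

theorem mem_grp {𝕎 : Submodule (ZMod p) 𝕍} {g : G} :
    g ∈ L.grp 𝕎 ↔ ∃ hg : g ∈ V, e ⟨g, hg⟩ ∈ 𝕎 := Iff.rfl

theorem mem_sub {U : Subgroup G} {u : 𝕍} : u ∈ L.sub U ↔ ((e.symm u : ↥V) : G) ∈ U := Iff.rfl

theorem grp_le (𝕎 : Submodule (ZMod p) 𝕍) : L.grp 𝕎 ≤ V := fun _ hg => hg.1

theorem symm_mem_grp {𝕎 : Submodule (ZMod p) 𝕍} {u : 𝕍} (hu : u ∈ 𝕎) :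
    ((e.symm u : ↥V) : G) ∈ L.grp 𝕎 :=
  ⟨(e.symm u).2, by rw [Subtype.coe_eta, e.apply_symm_apply]; exact hu⟩

theorem card_grp (𝕎 : Submodule (ZMod p) 𝕍) : Nat.card ↥(L.grp 𝕎) = Nat.card ↥𝕎 := by
  have hmem : ∀ g : ↥(L.grp 𝕎), e ⟨g.1, L.grp_le 𝕎 g.2⟩ ∈ 𝕎 := by
    rintro ⟨g, hg, hg'⟩; exact hg'
  apply Nat.card_eq_of_bijective (fun g : ↥(L.grp 𝕎) => (⟨e ⟨g.1, L.grp_le 𝕎 g.2⟩, hmem g⟩ : ↥𝕎))
  constructor
  · intro g g' hgg
    have h1 := congrArg Subtype.val hgg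
    have h2 := e.injective h1
    have h3 : (g : G) = (g' : G) := congrArg (fun z : ↥V => (z : G)) h2
    exact Subtype.ext h3
  · rintro ⟨u, hu⟩
    refine ⟨⟨((e.symm u : ↥V) : G), L.symm_mem_grp hu⟩, ?_⟩
    apply Subtype.ext
    show e ⟨((e.symm u : ↥V) : G), _⟩ = u
    rw [Subtype.coe_eta, e.apply_symm_apply]

/-- the commutator `[h, v]` in linear terms. -/
theorem symm_act_sub (h : ↥H) (u : 𝕍) :
    ((e.symm (ρ h u - u) : ↥V) : G) = ⁅(h : G), ((e.symm u : ↥V) : G)⁆ := by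
  rw [L.symm_sub, L.symm_act, Subgroup.coe_mul, Subgroup.coe_inv, conjHom_apply,
    commutatorElement_def]

theorem apply_comm (h : ↥H) (v : ↥V) (hv : ⁅(v : G), (h : G)⁆ ∈ V) :
    e ⟨⁅(v : G), (h : G)⁆, hv⟩ = e v - ρ h (e v) := by
  have h1 : (⟨⁅(v : G), (h : G)⁆, hv⟩ : ↥V) = v * (conjHom V H hHV h v)⁻¹ := by
    apply Subtype.ext
    show ⁅(v : G), (h : G)⁆ = (v : G) * ((h : G) * v * (h : G)⁻¹)⁻¹
    rw [commutatorElement_def]
    group
  rw [h1, L.map_div, L.act]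

end Lin

end lin

section tvbo

variable {G : Type u} [Group G] [Finite G] {p : ℕ} [Fact p.Prime]
variable {V H M : Subgroup G} {hHV : H ≤ Subgroup.normalizer (V : Set G)}
variable {𝕍 : Type*} [AddCommGroup 𝕍] [Module (ZMod p) 𝕍]
variable {ρ : ↥H →* Module.End (ZMod p) 𝕍} {e : ↥V ≃ 𝕍}

/-- a best offender of order `p` is generated by a transvection. -/
theorem Lin.tv_of_bo (L : Lin V H hHV ρ e) (S : FFSetup p V H M) {A : Subgroup G} (hAH : A ≤ H)
    (hA : IsBestOffenderOn p V A) (hcard : Nat.card A = p) :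
    ∃ a : ↥H, A = Subgroup.zpowers (a : G) ∧ a ^ p = 1 ∧ a ≠ 1 ∧
      ∃ (w : 𝕍) (φ : 𝕍 →ₗ[ZMod p] ZMod p), IsTvWith ρ a w φ := by
  have hp : p.Prime := Fact.out
  have hA1 : A ≠ ⊥ := by
    intro h
    rw [h, Subgroup.card_bot] at hcard
    exact hp.one_lt.ne hcard
  obtain ⟨x, hxA, hx1⟩ := exists_ne_one_of_ne_bot hA1
  have hxp := S.bo_pow hAH hA x hxA
  have hAz : A = Subgroup.zpowers x := by
    have hle : Subgroup.zpowers x ≤ A := Subgroup.zpowers_le.mpr hxA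
    have hc : Nat.card A ≤ Nat.card (Subgroup.zpowers x) := by
      rw [hcard, Nat.card_zpowers, orderOf_eq_prime hxp hx1]
    exact (subgroup_eq_of_le_of_card_le hle hc).symm
  have hcomm : Nat.card ↥(⁅V, A⁆) = p := (S.bo_prime_data hAH hA hcard).1
  set a : ↥H := ⟨x, hAH hxA⟩ with ha
  have ha1 : a ≠ 1 := fun h => hx1 (congrArg Subtype.val h)
  have hap : a ^ p = 1 := Subtype.ext hxp
  have hfaith := L.faithful S.hf
  set N : 𝕍 →ₗ[ZMod p] 𝕍 := ρ a - 1 with hN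
  have hNv : ∀ u, N u = ρ a u - u := fun u => by
    rw [hN, LinearMap.sub_apply, Module.End.one_apply]
  have hNmem : ∀ u, ((e.symm (N u) : ↥V) : G) ∈ ⁅V, A⁆ := by
    intro u
    rw [hNv, L.symm_act_sub, Subgroup.commutator_comm]
    exact Subgroup.commutator_mem_commutator hxA (e.symm u).2
  obtain ⟨u₀, hu₀⟩ : ∃ u₀, N u₀ ≠ 0 := by
    by_contra hcon
    apply ha1
    apply hfaith
    apply LinearMap.ext
    intro u
    have h1 : N u = 0 := by
      by_contra h; exact hcon ⟨u, h⟩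
    rw [hNv, sub_eq_zero] at h1
    rw [h1, Module.End.one_apply]
  set w := N u₀ with hw
  have hsm : ∀ c : ZMod p, ((e.symm (c • w) : ↥V) : G) ∈ ⁅V, A⁆ := by
    intro c
    rw [L.symm_smul, Subgroup.coe_pow]
    exact Subgroup.pow_mem _ (hNmem u₀) _
  let g : ZMod p → ↥(⁅V, A⁆) := fun c => ⟨((e.symm (c • w) : ↥V) : G), hsm c⟩
  have hginj : Function.Injective g := by
    intro c c' hcc
    have h1 : ((e.symm (c • w) : ↥V) : G) = ((e.symm (c' • w) : ↥V) : G) :=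
      congrArg (fun z : ↥(⁅V, A⁆) => (z : G)) hcc
    have h2 : c • w = c' • w := e.symm.injective (Subtype.ext h1)
    have h3 : (c - c') • w = 0 := by rw [sub_smul, h2, sub_self]
    rcases smul_eq_zero.mp h3 with h | h
    · exact sub_eq_zero.mp h
    · exact absurd h hu₀
  have hgbij : Function.Bijective g := by
    apply hginj.bijective_of_nat_card_le
    rw [hcomm, Nat.card_zmod]
  have hex : ∀ u, ∃ c : ZMod p, N u = c • w := by
    intro u
    obtain ⟨c, hc⟩ := hgbij.2 ⟨((e.symm (N u) : ↥V) : G), hNmem u⟩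
    refine ⟨c, ?_⟩
    have h1 : ((e.symm (c • w) : ↥V) : G) = ((e.symm (N u) : ↥V) : G) :=
      congrArg (fun z : ↥(⁅V, A⁆) => (z : G)) hc
    exact (e.symm.injective (Subtype.ext h1)).symm
  -- a linear functional
  have hker : LinearMap.ker (LinearMap.toSpanSingleton (ZMod p) 𝕍 w) = ⊥ := by
    rw [LinearMap.ker_eq_bot']
    intro c hc
    rw [LinearMap.toSpanSingleton_apply] at hc
    exact (smul_eq_zero.mp hc).resolve_right hu₀
  obtain ⟨ψ, hψ⟩ := LinearMap.exists_leftInverse_of_injective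
    (LinearMap.toSpanSingleton (ZMod p) 𝕍 w) hker
  have hψc : ∀ c : ZMod p, ψ (c • w) = c := by
    intro c
    have := congrArg (fun f : ZMod p →ₗ[ZMod p] ZMod p => f c) hψ
    simpa [LinearMap.toSpanSingleton_apply] using this
  refine ⟨a, hAz, hap, ha1, w, ψ ∘ₗ N, hu₀, ?_⟩
  intro v
  obtain ⟨c, hc⟩ := hex v
  rw [LinearMap.comp_apply, hc, hψc, ← hc, hNv]
  abel

end tvbo

end Cfsg.Agent.Lib.Helper14
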