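import Mathlib
import Cfsg.Prelude.Def_PLocal
import Cfsg.Prelude.Def_Local
import Cfsg.Agent.Lib.Helper14.Tv7

set_option autoImplicit false
set_option linter.unusedSectionVars false

universe u

namespace Cfsg.Agent.Lib.Helper14

open Cfsg Matrix
open scoped commutatorElement

section small8

set_option maxRecDepth 100000 in
theorem SL2_two_pow : ∀ g : SpecialLinearGroup (Fin 2) (ZMod 2), g ^ 6 = 1 := by
  decide

set_option maxRecDepth 100000 in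
theorem zmod3_noncomm : ∀ α β : ZMod 3, α * β = -1 →
    (!![1, -α; β, 1 - α * β] : Matrix (Fin 2) (Fin 2) (ZMod 3)) *
        (!![1, α; 0, 1] * !![1, -α; β, 1 - α * β] * !![1, -α; 0, 1]) ≠
      (!![1, α; 0, 1] * !![1, -α; β, 1 - α * β] * !![1, -α; 0, 1]) *
        !![1, -α; β, 1 - α * β] := by
  decide

end small8

section plane8

variable {p : ℕ} [Fact p.Prime] {𝕍 : Type*} [AddCommGroup 𝕍] [Module (ZMod p) 𝕍]
variable {Γ : Type*} [Group Γ] [Finite Γ] {ρ : Γ →* Module.End (ZMod p) 𝕍}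
variable {M : Subgroup Γ}

/-- the plane as a submodule. -/
def planeSub (p : ℕ) {𝕍 : Type*} [AddCommGroup 𝕍] [Module (ZMod p) 𝕍] (w₁ w₂ : 𝕍) :
    Submodule (ZMod p) 𝕍 := Submodule.span (ZMod p) {w₁, w₂}

theorem mem_planeSub {w₁ w₂ u : 𝕍} : u ∈ planeSub p w₁ w₂ ↔ InPlane p w₁ w₂ u := by
  unfold planeSub InPlane
  rw [Submodule.mem_span_pair]
  constructor
  · rintro ⟨a, b, h⟩; exact ⟨a, b, h.symm⟩
  · rintro ⟨a, b, h⟩; exact ⟨a, b, h.symm⟩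

theorem TvPair.card_plane {s t : Γ} {w₁ w₂ : 𝕍} {φ₁ φ₂ : 𝕍 →ₗ[ZMod p] ZMod p}
    (P : TvPair ρ M s t w₁ w₂ φ₁ φ₂) : Nat.card ↥(planeSub p w₁ w₂) = p ^ 2 := by
  have hmem : ∀ c : ZMod p × ZMod p, c.1 • w₁ + c.2 • w₂ ∈ planeSub p w₁ w₂ :=
    fun c => mem_planeSub.mpr ⟨c.1, c.2, rfl⟩
  have hbij : Function.Bijective (fun c : ZMod p × ZMod p =>
      (⟨c.1 • w₁ + c.2 • w₂, hmem c⟩ : ↥(planeSub p w₁ w₂))) := by
    constructor
    · rintro ⟨x, y⟩ ⟨x', y'⟩ h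
      have h1 : x • w₁ + y • w₂ = x' • w₁ + y' • w₂ := congrArg Subtype.val h
      have h2 : (x - x') • w₁ + (y - y') • w₂ = 0 := by
        rw [sub_smul, sub_smul]
        rw [← sub_eq_zero] at h1
        rw [← h1]; abel
      obtain ⟨e1, e2⟩ := P.indep h2
      rw [sub_eq_zero] at e1 e2
      rw [e1, e2]
    · rintro ⟨u, hu⟩
      obtain ⟨x, y, rfl⟩ := mem_planeSub.mp hu
      exact ⟨(x, y), rfl⟩
  rw [← Nat.card_eq_of_bijective _ hbij, Nat.card_prod, Nat.card_zmod, pow_two]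

theorem TvPair.noncomm3 {s t : Γ} {w₁ w₂ : 𝕍} {φ₁ φ₂ : 𝕍 →ₗ[ZMod p] ZMod p}
    (P : TvPair ρ M s t w₁ w₂ φ₁ φ₂) (hp3 : p = 3) (hτ : φ₁ w₂ * φ₂ w₁ = -1) :
    (t * s⁻¹) * (s * (t * s⁻¹) * s⁻¹) ≠ (s * (t * s⁻¹) * s⁻¹) * (t * s⁻¹) := by
  intro h
  have hc : Pres ρ w₁ w₂ (t * s⁻¹) := pres_mul P.pres_t P.pres_sinv
  have hscs : Pres ρ w₁ w₂ (s * (t * s⁻¹) * s⁻¹) := pres_mul (pres_mul P.pres_s hc) P.pres_sinv
  have e1 : pairMat ρ w₁ w₂ φ₁ φ₂ (s * (t * s⁻¹) * s⁻¹) =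
      pairMat ρ w₁ w₂ φ₁ φ₂ s * pairMat ρ w₁ w₂ φ₁ φ₂ (t * s⁻¹) * pairMat ρ w₁ w₂ φ₁ φ₂ s⁻¹ := by
    rw [pairMat_mul P.phi₁ P.phi₂ P.alpha_ne P.beta_ne _ P.pres_sinv,
      pairMat_mul P.phi₁ P.phi₂ P.alpha_ne P.beta_ne _ hc]
  have h1 := congrArg (pairMat ρ w₁ w₂ φ₁ φ₂) h
  rw [pairMat_mul P.phi₁ P.phi₂ P.alpha_ne P.beta_ne _ hscs,
    pairMat_mul P.phi₁ P.phi₂ P.alpha_ne P.beta_ne _ hc, e1, P.pairMat_c, P.pairMat_s,
    P.pairMat_sinv] at h1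
  subst hp3
  exact zmod3_noncomm _ _ hτ h1

theorem TvE.fix_comm {s y : Γ} {w : 𝕍} {φ : 𝕍 →ₗ[ZMod p] ZMod p} (T : TvE ρ M s y w φ)
    {d c : Γ} (hd : d ∈ Subgroup.closure ({s, y * s * y⁻¹} : Set Γ)) (hc₁ : ρ c w = w)
    (hc₂ : ρ c (ρ y w) = ρ y w) (v : 𝕍) : ρ d (v - ρ c v) = v - ρ c v := by
  have P := T.pair
  have hcomm := T.comm_of_fix hd hc₁ hc₂
  have h1 : ρ d (ρ c v) = ρ c (ρ d v) := by rw [← rho_mul_apply, hcomm, rho_mul_apply]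
  have h2 : ρ c (ρ d v - v) = ρ d v - v := by
    obtain ⟨x, y', hxy⟩ := (P.sub_of_mem hd).1 v
    rw [hxy, map_add, map_smul, map_smul, hc₁, hc₂]
  rw [map_sub, h1]
  rw [map_sub] at h2
  have : ρ c (ρ d v) = ρ d v - v + ρ c v := by rw [← h2]; abel
  rw [this]; abel

end plane8

section glevel

variable {G : Type u} [Group G] [Finite G] {p : ℕ} [Fact p.Prime]
variable {V H : Subgroup G} {hHV : H ≤ Subgroup.normalizer (V : Set G)}
variable {𝕍 : Type*} [AddCommGroup 𝕍] [Module (ZMod p) 𝕍]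
variable {ρ : ↥H →* Module.End (ZMod p) 𝕍} {e : ↥V ≃ 𝕍}
variable {M' : Subgroup ↥H} {a x' : ↥H} {w : 𝕍} {φ : 𝕍 →ₗ[ZMod p] ZMod p}

/-- the subgroup of `G` generated by `a` and its conjugate under `x'`. -/
def DG (a x' : ↥H) : Subgroup G :=
  (Subgroup.closure ({a, x' * a * x'⁻¹} : Set ↥H)).map H.subtype

omit [Finite G] in
theorem DG_le (a x' : ↥H) : DG a x' ≤ H := Subgroup.map_subtype_le _

omit [Finite G] in
theorem DG_eq (a x' : ↥H) : DG a x' = Subgroup.zpowers (a : G) ⊔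
    (Subgroup.zpowers (a : G)).map (MulAut.conj (x' : G)).toMonoidHom := by
  unfold DG
  rw [MonoidHom.map_closure, Set.image_pair, MonoidHom.map_zpowers, Subgroup.zpowers_eq_closure,
    Subgroup.zpowers_eq_closure, ← Subgroup.closure_union]
  congr 1

namespace Lin

variable (L : Lin V H hHV ρ e) (T : TvE ρ M' a x' w φ)
include L T

theorem comm_le : ⁅V, DG a x'⁆ ≤ L.grp (planeSub p w (ρ x' w)) := by
  have P := T.pair
  rw [Subgroup.commutator_le]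
  rintro v hv _ ⟨d, hd, rfl⟩
  have hvd : ⁅v, (d : G)⁆ ∈ V := comm_mem_of_normalizer hv (hHV d.2)
  refine ⟨hvd, ?_⟩
  have h1 : e ⟨⁅v, (d : G)⁆, hvd⟩ = e ⟨v, hv⟩ - ρ d (e ⟨v, hv⟩) :=
    L.apply_comm d ⟨v, hv⟩ hvd
  show e ⟨⁅v, (d : G)⁆, hvd⟩ ∈ planeSub p w (ρ x' w)
  rw [h1, mem_planeSub]
  have h2 := (P.sub_of_mem hd).1 (e ⟨v, hv⟩)
  have : e ⟨v, hv⟩ - ρ d (e ⟨v, hv⟩) = -(ρ d (e ⟨v, hv⟩) - e ⟨v, hv⟩) := by abel
  rw [this]; exact inPlane_neg h2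

theorem plane_le : planeSub p w (ρ x' w) ≤ L.sub ⁅V, DG a x'⁆ := by
  have P := T.pair
  have haD : (a : G) ∈ DG a x' := ⟨a, P.mem_s, rfl⟩
  have htD : ((x' * a * x'⁻¹ : ↥H) : G) ∈ DG a x' := ⟨_, P.mem_t, rfl⟩
  have key : ∀ (d : ↥H), (d : G) ∈ DG a x' → ∀ u : 𝕍, ρ d u - u ∈ L.sub ⁅V, DG a x'⁆ := by
    intro d hd u
    rw [L.mem_sub, L.symm_act_sub, Subgroup.commutator_comm]
    exact Subgroup.commutator_mem_commutator hd (e.symm u).2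
  unfold planeSub
  rw [Submodule.span_le]
  intro u hu
  rcases hu with hu | hu
  · rw [hu]
    have h1 := key a haD (ρ x' w)
    rw [P.s_w₂, add_sub_cancel_left] at h1
    have h2 := (L.sub ⁅V, DG a x'⁆).smul_mem (φ (ρ x' w))⁻¹ h1
    rwa [smul_smul, inv_mul_cancel₀ P.alpha_ne, one_smul] at h2
  · rw [Set.mem_singleton_iff] at hu
    rw [hu]
    have h1 := key _ htD w
    rw [P.t_w₁, add_sub_cancel_left] at h1
    have h2 := (L.sub ⁅V, DG a x'⁆).smul_mem ((φ ∘ₗ ρ x'⁻¹) w)⁻¹ h1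
    rwa [smul_smul, inv_mul_cancel₀ P.beta_ne, one_smul] at h2

theorem comm_eq : ⁅V, DG a x'⁆ = L.grp (planeSub p w (ρ x' w)) := by
  apply le_antisymm (L.comm_le T)
  rintro g ⟨hgV, hgW⟩
  have h1 := L.plane_le T hgW
  rw [L.mem_sub, e.symm_apply_apply] at h1
  exact h1

theorem card_comm : Nat.card ↥(⁅V, DG a x'⁆) = p ^ 2 := by
  rw [L.comm_eq T, L.card_grp, T.pair.card_plane]

theorem mem_comm_iff (v : ↥V) : (v : G) ∈ ⁅V, DG a x'⁆ ↔ InPlane p w (ρ x' w) (e v) := by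
  rw [L.comm_eq T, L.mem_grp, ← mem_planeSub]
  constructor
  · rintro ⟨hg, h⟩; exact h
  · intro h; exact ⟨v.2, h⟩

theorem cent_iff (h : ↥H) :
    (h : G) ∈ Subgroup.centralizer ((⁅V, DG a x'⁆ : Subgroup G) : Set G) ↔
      (ρ h w = w ∧ ρ h (ρ x' w) = ρ x' w) := by
  rw [Subgroup.mem_centralizer_iff]
  constructor
  · intro hc
    have key : ∀ u, InPlane p w (ρ x' w) u → ρ h u = u := by
      intro u hu
      have h1 : ((e.symm u : ↥V) : G) ∈ ⁅V, DG a x'⁆ := by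
        rw [L.mem_comm_iff T, e.apply_symm_apply]; exact hu
      have h2 := (hc _ h1).symm
      have h3 := (L.act_eq_iff h (e.symm u)).mpr h2
      rwa [e.apply_symm_apply] at h3
    exact ⟨key _ (inPlane_left _ _), key _ (inPlane_right _ _)⟩
  · rintro ⟨h1, h2⟩ g hg
    have hgV : g ∈ V := (L.comm_le T hg).1
    have hpl := (L.mem_comm_iff T ⟨g, hgV⟩).mp hg
    obtain ⟨x, y, hxy⟩ := hpl
    have h3 : ρ h (e ⟨g, hgV⟩) = e ⟨g, hgV⟩ := by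
      rw [hxy, map_add, map_smul, map_smul, h1, h2]
    exact ((L.act_eq_iff h ⟨g, hgV⟩).mp h3).symm

theorem inf_cent :
    DG a x' ⊓ Subgroup.centralizer ((⁅V, DG a x'⁆ : Subgroup G) : Set G) = ⊥ := by
  have P := T.pair
  rw [eq_bot_iff]
  rintro g ⟨⟨d, hd, rfl⟩, hc⟩
  obtain ⟨h1, h2⟩ := (L.cent_iff T d).mp hc
  have h3 : d = 1 := P.eq_one_of_fix hd (by
    rintro u ⟨x, y, rfl⟩
    rw [map_add, map_smul, map_smul, h1, h2])
  rw [Subgroup.mem_bot, h3]; rfl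

theorem equiv : Nonempty (↥(DG a x') ≃* Matrix.SpecialLinearGroup (Fin 2) (ZMod p)) := by
  obtain ⟨-, -, A, -, hAbij⟩ := T.pair.main
  exact ⟨((Subgroup.closure ({a, x' * a * x'⁻¹} : Set ↥H)).equivMapOfInjective H.subtype
    H.subtype_injective).symm.trans (MulEquiv.ofBijective A hAbij)⟩

theorem fix_iff (v : ↥V) :
    (v : G) ∈ Subgroup.centralizer ((DG a x' : Subgroup G) : Set G) ↔
      (ρ a (e v) = e v ∧ ρ (x' * a * x'⁻¹) (e v) = e v) := by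
  have P := T.pair
  rw [Subgroup.mem_centralizer_iff]
  constructor
  · intro hc
    exact ⟨(L.act_eq_iff a v).mpr (hc _ ⟨a, P.mem_s, rfl⟩),
      (L.act_eq_iff _ v).mpr (hc _ ⟨_, P.mem_t, rfl⟩)⟩
  · rintro ⟨h1, h2⟩ _ ⟨d, hd, rfl⟩
    exact (L.act_eq_iff d v).mp (P.fix_closure h1 h2 hd)

theorem compl_inf : ⁅V, DG a x'⁆ ⊓
    (V ⊓ Subgroup.centralizer ((DG a x' : Subgroup G) : Set G)) = ⊥ := by
  have P := T.pair
  rw [eq_bot_iff]
  rintro g ⟨hg, hgV, hgc⟩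
  have h1 := (L.mem_comm_iff T ⟨g, hgV⟩).mp hg
  obtain ⟨h2, h3⟩ := (L.fix_iff T ⟨g, hgV⟩).mp hgc
  have h4 := P.fixed_in_plane h1 h2 h3
  have h5 : (⟨g, hgV⟩ : ↥V) = 1 := by
    apply e.injective; rw [h4, L.map_one]
  rw [Subgroup.mem_bot]; exact congrArg Subtype.val h5

theorem compl_sup : ⁅V, DG a x'⁆ ⊔
    (V ⊓ Subgroup.centralizer ((DG a x' : Subgroup G) : Set G)) = V := by
  have P := T.pair
  apply le_antisymm
  · exact sup_le ((L.comm_le T).trans (L.grp_le _)) inf_le_left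
  · intro v hv
    obtain ⟨u, hu, h1, h2⟩ := P.decomp (e ⟨v, hv⟩)
    have hv1 : ((e.symm u : ↥V) : G) ∈ ⁅V, DG a x'⁆ := by
      rw [L.mem_comm_iff T, e.apply_symm_apply]; exact hu
    have hv2 : ((e.symm (e ⟨v, hv⟩ - u) : ↥V) : G) ∈
        V ⊓ Subgroup.centralizer ((DG a x' : Subgroup G) : Set G) := by
      refine ⟨(e.symm _).2, ?_⟩
      exact (L.fix_iff T _).mpr (by rw [e.apply_symm_apply]; exact ⟨h1, h2⟩)
    have h3 : v = ((e.symm u : ↥V) : G) * ((e.symm (e ⟨v, hv⟩ - u) : ↥V) : G) := by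
      rw [← Subgroup.coe_mul, ← L.symm_add, add_sub_cancel, e.symm_apply_apply]
    rw [h3]; exact Subgroup.mul_mem_sup hv1 hv2

theorem comm_cent {d c : G} (hd : d ∈ DG a x')
    (hc : c ∈ H ⊓ Subgroup.centralizer ((⁅V, DG a x'⁆ : Subgroup G) : Set G)) :
    d * c = c * d := by
  obtain ⟨d', hd', rfl⟩ := hd
  obtain ⟨hcH, hcc⟩ := hc
  obtain ⟨h1, h2⟩ := (L.cent_iff T ⟨c, hcH⟩).mp hcc
  have h3 := T.comm_of_fix hd' h1 h2
  exact congrArg Subtype.val h3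

theorem bo_dich {M : Subgroup G} (S : FFSetup p V H M) {B : Subgroup G} (hBH : B ≤ H)
    (hB : IsBestOffenderOn p V B) (hcard : Nat.card B = p) :
    B ≤ DG a x' ∨ B ≤ H ⊓ Subgroup.centralizer ((⁅V, DG a x'⁆ : Subgroup G) : Set G) := by
  obtain ⟨b, hBz, hbp, -, w_b, φ_b, hb⟩ := L.tv_of_bo S hBH hB hcard
  rcases T.tv_dichotomy hb hbp with h | ⟨h1, h2⟩
  · left
    rw [hBz, Subgroup.zpowers_le]
    exact ⟨b, h, rfl⟩
  · right
    rw [hBz, Subgroup.zpowers_le]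
    exact ⟨b.2, (L.cent_iff T b).mpr ⟨h1, h2⟩⟩

theorem comm_C_le :
    ⁅V, H ⊓ Subgroup.centralizer ((⁅V, DG a x'⁆ : Subgroup G) : Set G)⁆ ≤
      V ⊓ Subgroup.centralizer ((DG a x' : Subgroup G) : Set G) := by
  have P := T.pair
  rw [Subgroup.commutator_le]
  rintro v hv c ⟨hcH, hcc⟩
  have hvc : ⁅v, c⁆ ∈ V := comm_mem_of_normalizer hv (hHV hcH)
  refine ⟨hvc, ?_⟩
  obtain ⟨h1, h2⟩ := (L.cent_iff T ⟨c, hcH⟩).mp hcc
  have h3 : e ⟨⁅v, c⁆, hvc⟩ = e ⟨v, hv⟩ - ρ ⟨c, hcH⟩ (e ⟨v, hv⟩) :=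
    L.apply_comm ⟨c, hcH⟩ ⟨v, hv⟩ hvc
  apply (L.fix_iff T ⟨⁅v, c⁆, hvc⟩).mpr
  rw [h3]
  exact ⟨T.fix_comm P.mem_s h1 h2 _, T.fix_comm P.mem_t h1 h2 _⟩

theorem E_eq : ⁅M'.map H.subtype, Subgroup.zpowers (a : G)⁆ ⊔ Subgroup.zpowers (a : G) =
    DG a x' := by
  have P := T.pair
  have haD : (a : G) ∈ DG a x' := ⟨a, P.mem_s, rfl⟩
  apply le_antisymm
  · apply sup_le
    · rw [Subgroup.commutator_le]
      rintro _ ⟨m, hm, rfl⟩ z hz
      obtain ⟨i, rfl⟩ := Subgroup.mem_zpowers_iff.mp hz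
      have hai : a ^ i ∈ Subgroup.closure ({a, x' * a * x'⁻¹} : Set ↥H) :=
        Subgroup.zpow_mem _ P.mem_s i
      have h1 := T.conj_mem' hm hai
      refine ⟨m * a ^ i * m⁻¹ * (a ^ i)⁻¹, Subgroup.mul_mem _ h1 (Subgroup.inv_mem _ hai), ?_⟩
      rw [commutatorElement_def]
      simp
    · rw [Subgroup.zpowers_le]; exact haD
  · unfold DG
    rw [Subgroup.map_le_iff_le_comap, Subgroup.closure_le]
    intro d hd
    rcases hd with hd | hd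
    · rw [hd, SetLike.mem_coe, Subgroup.mem_comap]
      exact Subgroup.mem_sup_right (Subgroup.mem_zpowers (a : G))
    · rw [Set.mem_singleton_iff] at hd
      rw [hd, SetLike.mem_coe, Subgroup.mem_comap]
      show ((x' * a * x'⁻¹ : ↥H) : G) ∈ _
      have : ((x' * a * x'⁻¹ : ↥H) : G) = ⁅(x' : G), (a : G)⁆ * (a : G) := by
        rw [commutatorElement_def]
        simp
      rw [this]
      exact Subgroup.mul_mem_sup (Subgroup.commutator_mem_commutator ⟨x', T.hy, rfl⟩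
        (Subgroup.mem_zpowers _)) (Subgroup.mem_zpowers _)

theorem pow_of_mem_M {g : G} (hg : g ∈ DG a x') (hgM : g ∈ M'.map H.subtype) :
    (p = 2 → g ^ 3 = 1) ∧ (p = 3 → g ^ 8 = 1) := by
  have P := T.pair
  obtain ⟨-, -, A, -, hAbij⟩ := P.main
  obtain ⟨d, hd, rfl⟩ := hg
  obtain ⟨m, hm, hmd⟩ := hgM
  have hdm : d = m := (H.subtype_injective hmd).symm
  have hdM : d ∈ M' := hdm ▸ hm
  have hord : orderOf d ∣ Nat.card M' := by
    have := orderOf_dvd_natCard (⟨d, hdM⟩ : M')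
    rwa [Subgroup.orderOf_mk] at this
  have hcop : (orderOf d).Coprime p := Nat.Coprime.coprime_dvd_left hord T.base.coprime
  have key : ∀ n : ℕ, (∀ g : Matrix.SpecialLinearGroup (Fin 2) (ZMod p), g ^ n = 1) →
      d ^ n = 1 := by
    intro n hn
    have h1 : (⟨d, hd⟩ : ↥(Subgroup.closure ({a, x' * a * x'⁻¹} : Set ↥H))) ^ n = 1 := by
      apply hAbij.1
      rw [_root_.map_pow, _root_.map_one]; exact hn _
    exact congrArg Subtype.val h1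
  constructor
  · intro hp2
    subst hp2
    have h6 : d ^ 6 = 1 := key 6 SL2_two_pow
    have hd3 : orderOf d ∣ 3 := by
      have : orderOf d ∣ 2 * 3 := orderOf_dvd_of_pow_eq_one h6
      exact hcop.dvd_of_dvd_mul_left this
    have := orderOf_dvd_iff_pow_eq_one.mp hd3
    rw [← _root_.map_pow, this, _root_.map_one]
  · intro hp3
    subst hp3
    have h24 : d ^ 24 = 1 := key 24 SL2_three_pow
    have hd8 : orderOf d ∣ 8 := by
      have : orderOf d ∣ 3 * 8 := orderOf_dvd_of_pow_eq_one h24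
      exact hcop.dvd_of_dvd_mul_left this
    have := orderOf_dvd_iff_pow_eq_one.mp hd8
    rw [← _root_.map_pow, this, _root_.map_one]

theorem noncomm (hp3 : p = 3) : ∃ g₁ ∈ ⁅M'.map H.subtype, Subgroup.zpowers (a : G)⁆,
    ∃ g₂ ∈ ⁅M'.map H.subtype, Subgroup.zpowers (a : G)⁆, g₁ * g₂ ≠ g₂ * g₁ := by
  have P := T.pair
  have hn := T.base.normal
  obtain ⟨-, hτ, -⟩ := P.main
  have e1 : ((x' * a * x'⁻¹ * a⁻¹ : ↥H) : G) = ⁅(x' : G), (a : G)⁆ := rfl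
  have e2 : ((a * (x' * a * x'⁻¹ * a⁻¹) * a⁻¹ : ↥H) : G) =
      ⁅((a * x' * a⁻¹ : ↥H) : G), (a : G)⁆ := by
    rw [commutatorElement_def]
    simp only [Subgroup.coe_mul, Subgroup.coe_inv]
    group
  refine ⟨((x' * a * x'⁻¹ * a⁻¹ : ↥H) : G), ?_, ((a * (x' * a * x'⁻¹ * a⁻¹) * a⁻¹ : ↥H) : G),
    ?_, ?_⟩
  · rw [e1]
    exact Subgroup.commutator_mem_commutator ⟨x', T.hy, rfl⟩ (Subgroup.mem_zpowers _)
  · rw [e2]
    exact Subgroup.commutator_mem_commutator ⟨a * x' * a⁻¹, hn.conj_mem x' T.hy a, rfl⟩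
      (Subgroup.mem_zpowers _)
  · intro hcomm
    have h1 : (x' * a * x'⁻¹ * a⁻¹) * (a * (x' * a * x'⁻¹ * a⁻¹) * a⁻¹) =
        (a * (x' * a * x'⁻¹ * a⁻¹) * a⁻¹) * (x' * a * x'⁻¹ * a⁻¹) := Subtype.ext hcomm
    exact P.noncomm3 hp3 hτ h1

end Lin

end glevel

end Cfsg.Agent.Lib.Helper14
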