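import Mathlib
import Cfsg.Prelude.Def_PLocal
import Cfsg.Prelude.Def_Local
import Cfsg.Agent.Lib.Helper14.Tv8

set_option autoImplicit false
set_option linter.unusedSectionVars false

universe u

namespace Cfsg.Agent.Lib.Helper14

open Cfsg
open scoped commutatorElement

section package

variable {G : Type u} [Group G] [Finite G] {p : ℕ} [Fact p.Prime]

omit [Finite G] [Fact p.Prime] in
theorem conj_ne_of_not_cent {H A : Subgroup G} {a x' : ↥H} (hAz : A = Subgroup.zpowers (a : G))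
    (hxA : (x' : G) ∉ Subgroup.centralizer (A : Set G)) : x' * a * x'⁻¹ ≠ a := by
  intro hcon
  apply hxA
  have h1 : (x' : G) * (a : G) = (a : G) * (x' : G) := by
    have := congrArg Subtype.val hcon
    simp only [Subgroup.coe_mul, Subgroup.coe_inv] at this
    calc (x' : G) * a = (x' : G) * a * (x' : G)⁻¹ * x' := by group
      _ = a * x' := by rw [this]
  rw [Subgroup.mem_centralizer_iff]
  intro z hz
  rw [hAz] at hz
  obtain ⟨i, rfl⟩ := Subgroup.mem_zpowers_iff.mp hz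
  exact ((Commute.zpow_right (show Commute (x' : G) (a : G) from h1) i).eq).symm

/-- the linear setup attached to a best offender of order `p`. -/
theorem exists_setup (V H : Subgroup G) (hV : IsElementaryAbelian p V)
    (hHV : H ≤ Subgroup.normalizer (V : Set G))
    (hf : H ⊓ Subgroup.centralizer (V : Set G) = ⊥)
    (hS1 : Subgroup.centralizer (pPrimeCore p ↥H : Set ↥H) ≤ pPrimeCore p ↥H)
    {A : Subgroup G} (hAH : A ≤ H) (hA : IsBestOffenderOn p V A) (hcard : Nat.card A = p) :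
    ∃ (𝕍 : Type u) (_ : AddCommGroup 𝕍) (_ : Module (ZMod p) 𝕍)
      (ρ : ↥H →* Module.End (ZMod p) 𝕍) (e : ↥V ≃ 𝕍) (a x' : ↥H) (w : 𝕍)
      (φ : 𝕍 →ₗ[ZMod p] ZMod p),
      Lin V H hHV ρ e ∧ A = Subgroup.zpowers (a : G) ∧
        TvE ρ (pPrimeCore p ↥H) a x' w φ := by
  have hp : p.Prime := Fact.out
  have S := FFSetup.of_hyp V H hV hHV hf hS1
  obtain ⟨𝕍, i1, i2, ρ, e, L⟩ := exists_lin (p := p) V H S.hVc S.hVp hHV
  obtain ⟨a, hAz, hap, ha1, w, φ, htv⟩ := L.tv_of_bo S hAH hA hcard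
  have haA : (a : G) ∈ A := by rw [hAz]; exact Subgroup.mem_zpowers _
  have hnc := S.not_cent (hAH haA) (congrArg Subtype.val hap)
    (fun h => ha1 (Subtype.ext h))
  obtain ⟨m, hnc⟩ := not_forall.mp hnc
  obtain ⟨hmM, hnc⟩ := not_forall.mp hnc
  obtain ⟨x', hx', rfl⟩ := hmM
  have hxA : (x' : G) ∉ Subgroup.centralizer (A : Set G) := by
    intro h
    rw [Subgroup.mem_centralizer_iff] at h
    exact hnc (h _ haA)
  refine ⟨𝕍, i1, i2, ρ, e, a, x', w, φ, L, hAz, ?_⟩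
  exact
    { base :=
        { faithful := L.faithful hf
          normal := inferInstance
          coprime := pPrimeCore_coprime }
      cent := fun h hh => hS1 (by
        rw [Subgroup.mem_centralizer_iff]
        intro m hm
        exact (hh m hm).symm)
      tv := htv
      hs := hap
      hy := hx'
      hne := conj_ne_of_not_cent hAz hxA }

/-- **the structure package** for a best offender `A` of order `p`, with
`E = [O_{p'}(H), A] A`. -/
theorem ff_package (V H : Subgroup G) (hV : IsElementaryAbelian p V)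
    (hHV : H ≤ Subgroup.normalizer (V : Set G))
    (hf : H ⊓ Subgroup.centralizer (V : Set G) = ⊥)
    (hS1 : Subgroup.centralizer (pPrimeCore p ↥H : Set ↥H) ≤ pPrimeCore p ↥H)
    (hS3 : H = ⨆ A : {A : Subgroup G // A ≤ H ∧ IsBestOffenderOn p V A}, (A : Subgroup G))
    {A : Subgroup G} (hAH : A ≤ H) (hA : IsBestOffenderOn p V A) (hcard : Nat.card A = p) :
    (p = 2 ∨ p = 3) ∧
    Nonempty (↥(⁅((pPrimeCore p ↥H).map H.subtype), A⁆ ⊔ A) ≃*
      Matrix.SpecialLinearGroup (Fin 2) (ZMod p)) ∧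
    Nat.card ↥(⁅V, ⁅((pPrimeCore p ↥H).map H.subtype), A⁆ ⊔ A⁆) = p ^ 2 ∧
    ⁅V, ⁅((pPrimeCore p ↥H).map H.subtype), A⁆ ⊔ A⁆ ⊓ (V ⊓ Subgroup.centralizer
      ((⁅((pPrimeCore p ↥H).map H.subtype), A⁆ ⊔ A : Subgroup G) : Set G)) = ⊥ ∧
    ⁅V, ⁅((pPrimeCore p ↥H).map H.subtype), A⁆ ⊔ A⁆ ⊔ (V ⊓ Subgroup.centralizer
      ((⁅((pPrimeCore p ↥H).map H.subtype), A⁆ ⊔ A : Subgroup G) : Set G)) = V ∧
    ⁅⁅((pPrimeCore p ↥H).map H.subtype), A⁆ ⊔ A, H ⊓ Subgroup.centralizer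
      ((⁅V, ⁅((pPrimeCore p ↥H).map H.subtype), A⁆ ⊔ A⁆ : Subgroup G) : Set G)⁆ = ⊥ ∧
    (⁅((pPrimeCore p ↥H).map H.subtype), A⁆ ⊔ A) ⊓ (H ⊓ Subgroup.centralizer
      ((⁅V, ⁅((pPrimeCore p ↥H).map H.subtype), A⁆ ⊔ A⁆ : Subgroup G) : Set G)) = ⊥ ∧
    (⁅((pPrimeCore p ↥H).map H.subtype), A⁆ ⊔ A) ⊔ (H ⊓ Subgroup.centralizer
      ((⁅V, ⁅((pPrimeCore p ↥H).map H.subtype), A⁆ ⊔ A⁆ : Subgroup G) : Set G)) = H ∧
    ⁅V, H ⊓ Subgroup.centralizer
      ((⁅V, ⁅((pPrimeCore p ↥H).map H.subtype), A⁆ ⊔ A⁆ : Subgroup G) : Set G)⁆ ≤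
        V ⊓ Subgroup.centralizer
          ((⁅((pPrimeCore p ↥H).map H.subtype), A⁆ ⊔ A : Subgroup G) : Set G) ∧
    (∀ B : Subgroup G, B ≤ H → IsBestOffenderOn p V B → Nat.card B = p →
      B ≤ ⁅((pPrimeCore p ↥H).map H.subtype), A⁆ ⊔ A ∨
      B ≤ H ⊓ Subgroup.centralizer
        ((⁅V, ⁅((pPrimeCore p ↥H).map H.subtype), A⁆ ⊔ A⁆ : Subgroup G) : Set G)) := by
  have S := FFSetup.of_hyp V H hV hHV hf hS1
  obtain ⟨𝕍, i1, i2, ρ, e, a, x', w, φ, L, hAz, T⟩ :=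
    exists_setup V H hV hHV hf hS1 hAH hA hcard
  have hE : ⁅((pPrimeCore p ↥H).map H.subtype), A⁆ ⊔ A = DG a x' := by
    rw [hAz]; exact L.E_eq T
  rw [hE]
  refine ⟨T.pair.main.1, L.equiv T, L.card_comm T, L.compl_inf T, L.compl_sup T, ?_, ?_, ?_,
    L.comm_C_le T, fun B hBH hB hc => L.bo_dich T S hBH hB hc⟩
  · rw [Subgroup.commutator_eq_bot_iff_le_centralizer]
    intro d hd
    rw [Subgroup.mem_centralizer_iff]
    intro c hc
    exact (L.comm_cent T hd hc).symm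
  · rw [eq_bot_iff, ← L.inf_cent T]
    exact inf_le_inf_left _ inf_le_right
  · apply le_antisymm (sup_le (DG_le a x') inf_le_left)
    have key : (⨆ A : {A : Subgroup G // A ≤ H ∧ IsBestOffenderOn p V A}, (A : Subgroup G)) ≤
        DG a x' ⊔ (H ⊓ Subgroup.centralizer ((⁅V, DG a x'⁆ : Subgroup G) : Set G)) := by
      apply iSup_le
      rintro ⟨B, hBH, hB⟩
      obtain ⟨k, Bi, hBi, -, hsup⟩ := S.bo_decomp _ B rfl hBH hB
      show B ≤ _
      rw [← hsup]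
      apply iSup_le
      intro i
      rcases L.bo_dich T S ((hBi i).1.trans hBH) (hBi i).2.1 (hBi i).2.2 with h | h
      · exact h.trans le_sup_left
      · exact h.trans le_sup_right
    exact hS3.le.trans key

/-- **the second package**: the `p'`-part `[O_{p'}(H), A]` and the description of `E` as
generated by two conjugates of `A`. -/
theorem ff_package2 (V H : Subgroup G) (hV : IsElementaryAbelian p V)
    (hHV : H ≤ Subgroup.normalizer (V : Set G))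
    (hf : H ⊓ Subgroup.centralizer (V : Set G) = ⊥)
    (hS1 : Subgroup.centralizer (pPrimeCore p ↥H : Set ↥H) ≤ pPrimeCore p ↥H)
    {A : Subgroup G} (hAH : A ≤ H) (hA : IsBestOffenderOn p V A) (hcard : Nat.card A = p) :
    (∀ g ∈ ⁅((pPrimeCore p ↥H).map H.subtype), A⁆, (p = 2 → g ^ 3 = 1) ∧ (p = 3 → g ^ 8 = 1)) ∧
    (p = 3 → ∃ g₁ ∈ ⁅((pPrimeCore p ↥H).map H.subtype), A⁆,
      ∃ g₂ ∈ ⁅((pPrimeCore p ↥H).map H.subtype), A⁆, g₁ * g₂ ≠ g₂ * g₁) ∧
    (∀ x ∈ (pPrimeCore p ↥H).map H.subtype, x ∉ Subgroup.centralizer (A : Set G) →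
      ⁅((pPrimeCore p ↥H).map H.subtype), A⁆ ⊔ A = A ⊔ A.map (MulAut.conj x).toMonoidHom) := by
  have S := FFSetup.of_hyp V H hV hHV hf hS1
  obtain ⟨𝕍, i1, i2, ρ, e, a, x', w, φ, L, hAz, T⟩ :=
    exists_setup V H hV hHV hf hS1 hAH hA hcard
  have hE : ⁅((pPrimeCore p ↥H).map H.subtype), A⁆ ⊔ A = DG a x' := by
    rw [hAz]; exact L.E_eq T
  refine ⟨?_, ?_, ?_⟩
  · intro g hg
    have hgD : g ∈ DG a x' := hE ▸ (Subgroup.mem_sup_left hg)
    have hgM : g ∈ (pPrimeCore p ↥H).map H.subtype := by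
      have hle : ⁅((pPrimeCore p ↥H).map H.subtype), A⁆ ≤ (pPrimeCore p ↥H).map H.subtype := by
        rw [Subgroup.commutator_le]
        intro m hm a' ha'
        have h1 := conj_mem_of_normalizer (Subgroup.inv_mem _ hm) (S.hMn (hAH ha'))
        have : ⁅m, a'⁆ = m * (a' * m⁻¹ * a'⁻¹) := by rw [commutatorElement_def]; group
        rw [this]; exact Subgroup.mul_mem _ hm h1
      exact hle hg
    exact L.pow_of_mem_M T hgD hgM
  · rw [hAz]; exact L.noncomm T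
  · rintro _ ⟨x₂, hx₂, rfl⟩ hxA
    have T₂ : TvE ρ (pPrimeCore p ↥H) a x₂ w φ :=
      { base := T.base
        cent := T.cent
        tv := T.tv
        hs := T.hs
        hy := hx₂
        hne := conj_ne_of_not_cent hAz hxA }
    have h1 := L.E_eq T₂
    have h2 := DG_eq a x₂
    rw [hAz, h1, h2]
    rfl

end package

end Cfsg.Agent.Lib.Helper14
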