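import Mathlib
import Cfsg.Prelude.Def_PLocal
import Cfsg.Prelude.Def_Local
import Cfsg.Agent.Lib.Helper14.Tv9

set_option autoImplicit false
set_option linter.unusedSectionVars false

universe u

namespace Cfsg.Agent.Lib.Helper14

open Cfsg
open scoped commutatorElement

section abel

variable {G : Type*} [Group G]

theorem mem_sup_of_comm {A B : Subgroup G} (hc : ∀ a ∈ A, ∀ b ∈ B, a * b = b * a) {z : G}
    (hz : z ∈ A ⊔ B) : ∃ a ∈ A, ∃ b ∈ B, z = a * b := by
  let S : Subgroup G :=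
    { carrier := {z | ∃ a ∈ A, ∃ b ∈ B, z = a * b}
      mul_mem' := by
        rintro _ _ ⟨a, ha, b, hb, rfl⟩ ⟨a', ha', b', hb', rfl⟩
        refine ⟨a * a', A.mul_mem ha ha', b * b', B.mul_mem hb hb', ?_⟩
        calc a * b * (a' * b') = a * (b * a') * b' := by group
          _ = a * (a' * b) * b' := by rw [hc a' ha' b hb]
          _ = a * a' * (b * b') := by group
      one_mem' := ⟨1, A.one_mem, 1, B.one_mem, by simp⟩
      inv_mem' := by
        rintro _ ⟨a, ha, b, hb, rfl⟩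
        refine ⟨a⁻¹, A.inv_mem ha, b⁻¹, B.inv_mem hb, ?_⟩
        rw [mul_inv_rev]
        exact (hc a⁻¹ (A.inv_mem ha) b⁻¹ (B.inv_mem hb)).symm }
  have hA : A ≤ S := fun a ha => ⟨a, ha, 1, B.one_mem, by simp⟩
  have hB : B ≤ S := fun b hb => ⟨1, A.one_mem, b, hb, by simp⟩
  exact (sup_le hA hB) hz

theorem dedekind_step {V W K X Y : Subgroup G} (hVc : ∀ x ∈ V, ∀ y ∈ V, x * y = y * x)
    (hWK : W ⊓ K = ⊥) (hWKs : W ⊔ K = V) (hXK : X ≤ K) (hYV : Y ≤ V) (hWY : W ≤ Y)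
    (hXY : X ⊓ Y = ⊥) (hXYs : X ⊔ Y = V) :
    (X ⊔ W) ⊓ (Y ⊓ K) = ⊥ ∧ (X ⊔ W) ⊔ (Y ⊓ K) = V := by
  have hWV : W ≤ V := le_sup_left.trans hWKs.le
  have hKV : K ≤ V := le_sup_right.trans hWKs.le
  have hXV : X ≤ V := hXK.trans hKV
  constructor
  · rw [eq_bot_iff]
    rintro g ⟨hg1, hgY, hgK⟩
    obtain ⟨x, hx, w, hw, rfl⟩ :=
      mem_sup_of_comm (fun a ha b hb => hVc a (hXV ha) b (hWV hb)) hg1
    have hwK : w ∈ K := by
      have : w = x⁻¹ * (x * w) := by group
      rw [this]; exact K.mul_mem (K.inv_mem (hXK hx)) hgK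
    have hw1 : w = 1 := by
      have : w ∈ W ⊓ K := ⟨hw, hwK⟩
      rwa [hWK, Subgroup.mem_bot] at this
    subst hw1
    rw [mul_one] at hgY ⊢
    have : x ∈ X ⊓ Y := ⟨hx, hgY⟩
    rwa [hXY] at this
  · apply le_antisymm
    · exact sup_le (sup_le hXV hWV) (inf_le_left.trans hYV)
    · rw [← hXYs]
      apply sup_le
      · exact le_sup_left.trans le_sup_left
      · intro y hy
        have hyV : y ∈ W ⊔ K := hWKs.ge (hYV hy)
        obtain ⟨w, hw, k, hk, rfl⟩ :=
          mem_sup_of_comm (fun a ha b hb => hVc a (hWV ha) b (hKV hb)) hyV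
        have hkY : k ∈ Y := by
          have : k = w⁻¹ * (w * k) := by group
          rw [this]; exact Y.mul_mem (Y.inv_mem (hWY hw)) hy
        exact Subgroup.mul_mem_sup (Subgroup.mem_sup_right hw) ⟨hkY, hk⟩

theorem comm_sup_le {M X A' : Subgroup G} (hMX : M ≤ Subgroup.normalizer (X : Set G))
    (hA : A' ≤ X) : ⁅M, A'⁆ ⊔ A' ≤ X := by
  apply sup_le _ hA
  rw [Subgroup.commutator_le]
  intro m hm a' ha'
  have h1 := conj_mem_of_normalizer (hA ha') (hMX hm)
  rw [commutatorElement_def]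
  exact X.mul_mem h1 (X.inv_mem (hA ha'))

/-- the abstract direct-decomposition argument. -/
theorem ff_structure_aux {ι : Type*} [Finite ι] (E : ι → Subgroup G) (V H : Subgroup G)
    (hVc : ∀ x ∈ V, ∀ y ∈ V, x * y = y * x)
    (h4 : ∀ i, ⁅V, E i⁆ ⊓ (V ⊓ Subgroup.centralizer (E i : Set G)) = ⊥)
    (h5 : ∀ i, ⁅V, E i⁆ ⊔ (V ⊓ Subgroup.centralizer (E i : Set G)) = V)
    (h7 : ∀ i, E i ⊓ (H ⊓ Subgroup.centralizer ((⁅V, E i⁆ : Subgroup G) : Set G)) = ⊥)
    (h9 : ∀ i, ⁅V, H ⊓ Subgroup.centralizer ((⁅V, E i⁆ : Subgroup G) : Set G)⁆ ≤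
      V ⊓ Subgroup.centralizer (E i : Set G))
    (hdisj : ∀ i j, j ≠ i →
      E j ≤ H ⊓ Subgroup.centralizer ((⁅V, E i⁆ : Subgroup G) : Set G))
    (hsup : ⨆ i, E i = H) :
    iSupIndep E ∧
    iSupIndep (fun o : Option ι => o.elim (V ⊓ Subgroup.centralizer (H : Set G))
      (fun i => ⁅V, E i⁆)) ∧
    (V ⊓ Subgroup.centralizer (H : Set G)) ⊔ (⨆ i, ⁅V, E i⁆) = V := by
  classical
  have : Fintype ι := Fintype.ofFinite ι
  have hF2 : ∀ i j, j ≠ i → ⁅V, E j⁆ ≤ V ⊓ Subgroup.centralizer (E i : Set G) :=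
    fun i j hji => (Subgroup.commutator_mono le_rfl (hdisj i j hji)).trans (h9 i)
  have hEH : ∀ i, E i ≤ H := fun i => (le_iSup E i).trans hsup.le
  have hF3 : ∀ i, V ⊓ Subgroup.centralizer (H : Set G) ≤
      V ⊓ Subgroup.centralizer (E i : Set G) :=
    fun i => inf_le_inf_left _ (Subgroup.centralizer_le (hEH i))
  have key : ∀ F : Finset ι,
      (F.sup (fun i => ⁅V, E i⁆)) ⊓
        (V ⊓ F.inf (fun i => Subgroup.centralizer (E i : Set G))) = ⊥ ∧
      (F.sup (fun i => ⁅V, E i⁆)) ⊔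
        (V ⊓ F.inf (fun i => Subgroup.centralizer (E i : Set G))) = V := by
    intro F
    induction F using Finset.induction_on with
    | empty => simp
    | insert i F hi ih =>
      rw [Finset.sup_insert, Finset.inf_insert]
      have hX : F.sup (fun i => ⁅V, E i⁆) ≤ V ⊓ Subgroup.centralizer (E i : Set G) :=
        Finset.sup_le (fun j hj => hF2 i j (fun h => hi (by rw [← h]; exact hj)))
      have hW : ⁅V, E i⁆ ≤ V ⊓ F.inf (fun i => Subgroup.centralizer (E i : Set G)) := by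
        apply le_inf
        · exact le_sup_left.trans (h5 i).le
        · apply Finset.le_inf
          intro j hj
          exact (hF2 j i (fun h => hi (by rw [h]; exact hj))).trans inf_le_right
      obtain ⟨r1, r2⟩ := dedekind_step hVc (h4 i) (h5 i) hX inf_le_left hW ih.1 ih.2
      have e1 : V ⊓ (Subgroup.centralizer (E i : Set G) ⊓
          F.inf (fun i => Subgroup.centralizer (E i : Set G))) =
          (V ⊓ F.inf (fun i => Subgroup.centralizer (E i : Set G))) ⊓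
            (V ⊓ Subgroup.centralizer (E i : Set G)) := by
        rw [← inf_inf_distrib_left, inf_comm (Subgroup.centralizer (E i : Set G))]
      rw [e1, sup_comm (⁅V, E i⁆)]
      exact ⟨r1, r2⟩
  obtain ⟨k1, k2⟩ := key Finset.univ
  rw [Finset.sup_univ_eq_iSup, Finset.inf_univ_eq_iInf] at k1 k2
  have hcent : V ⊓ ⨅ i, Subgroup.centralizer (E i : Set G) =
      V ⊓ Subgroup.centralizer (H : Set G) := by
    congr 1
    apply le_antisymm
    · intro g hg
      rw [Subgroup.mem_iInf] at hg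
      have h1 : ∀ i, E i ≤ Subgroup.centralizer ({g} : Set G) := by
        intro i x hx
        rw [Subgroup.mem_centralizer_iff]
        intro y hy
        rw [Set.mem_singleton_iff] at hy
        subst hy
        exact ((Subgroup.mem_centralizer_iff.mp (hg i)) x hx).symm
      have h2 : H ≤ Subgroup.centralizer ({g} : Set G) := hsup.ge.trans (iSup_le h1)
      rw [Subgroup.mem_centralizer_iff]
      intro h hh
      have := Subgroup.mem_centralizer_iff.mp (h2 hh) g (Set.mem_singleton g)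
      exact this.symm
    · exact le_iInf (fun i => Subgroup.centralizer_le (hEH i))
  rw [hcent] at k1 k2
  refine ⟨?_, ?_, ?_⟩
  · intro i
    have hle : (⨆ (j) (_ : j ≠ i), E j) ≤
        H ⊓ Subgroup.centralizer ((⁅V, E i⁆ : Subgroup G) : Set G) :=
      iSup₂_le (fun j hj => hdisj i j hj)
    exact (disjoint_iff.mpr (h7 i)).mono_right hle
  · rintro (_ | i)
    · have hle : (⨆ (j : Option ι) (_ : j ≠ none),
          (j.elim (V ⊓ Subgroup.centralizer (H : Set G)) (fun i => ⁅V, E i⁆) : Subgroup G)) ≤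
          ⨆ i, ⁅V, E i⁆ := by
        apply iSup₂_le
        rintro (_ | j) hj
        · exact absurd rfl hj
        · exact le_iSup (fun i => ⁅V, E i⁆) j
      refine (disjoint_iff.mpr ?_).mono_right hle
      rw [inf_comm]; exact k1
    · have hle : (⨆ (j : Option ι) (_ : j ≠ some i),
          (j.elim (V ⊓ Subgroup.centralizer (H : Set G)) (fun i => ⁅V, E i⁆) : Subgroup G)) ≤
          V ⊓ Subgroup.centralizer (E i : Set G) := by
        apply iSup₂_le
        rintro (_ | j) hj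
        · exact hF3 i
        · exact hF2 i j (fun h => hj (h ▸ rfl))
      exact (disjoint_iff.mpr (h4 i)).mono_right hle
  · rw [sup_comm]; exact k2

end abel

section comp

variable {G : Type u} [Group G] [Finite G] {p : ℕ} [Fact p.Prime]

/-- the properties of a component `E = [O_{p'}(H), A] A`. -/
structure IsFFComp (p : ℕ) (V H E : Subgroup G) : Prop where
  h1 : p = 2 ∨ p = 3
  h2 : Nonempty (↥E ≃* Matrix.SpecialLinearGroup (Fin 2) (ZMod p))
  h3 : Nat.card ↥(⁅V, E⁆) = p ^ 2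
  h4 : ⁅V, E⁆ ⊓ (V ⊓ Subgroup.centralizer (E : Set G)) = ⊥
  h5 : ⁅V, E⁆ ⊔ (V ⊓ Subgroup.centralizer (E : Set G)) = V
  h6 : ⁅E, H ⊓ Subgroup.centralizer ((⁅V, E⁆ : Subgroup G) : Set G)⁆ = ⊥
  h7 : E ⊓ (H ⊓ Subgroup.centralizer ((⁅V, E⁆ : Subgroup G) : Set G)) = ⊥
  h8 : E ⊔ (H ⊓ Subgroup.centralizer ((⁅V, E⁆ : Subgroup G) : Set G)) = H
  h9 : ⁅V, H ⊓ Subgroup.centralizer ((⁅V, E⁆ : Subgroup G) : Set G)⁆ ≤
    V ⊓ Subgroup.centralizer (E : Set G)
  h10 : ∀ B : Subgroup G, B ≤ H → IsBestOffenderOn p V B → Nat.card B = p →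
    B ≤ E ∨ B ≤ H ⊓ Subgroup.centralizer ((⁅V, E⁆ : Subgroup G) : Set G)

/-- `E` is the component attached to a minimal nontrivially-acting best offender. -/
def IsMinComp (p : ℕ) (V H E : Subgroup G) : Prop :=
  ∃ A : Subgroup G, A ≤ H ∧ IsBestOffenderOn p V A ∧ ⁅V, A⁆ ≠ ⊥ ∧
    (∀ B : Subgroup G, B ≤ A → IsBestOffenderOn p V B → ⁅V, B⁆ ≠ ⊥ → B = A) ∧
    E = ⁅((pPrimeCore p ↥H).map H.subtype), A⁆ ⊔ A

theorem isFFComp_of_min (V H : Subgroup G) (hV : IsElementaryAbelian p V)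
    (hHV : H ≤ Subgroup.normalizer (V : Set G))
    (hf : H ⊓ Subgroup.centralizer (V : Set G) = ⊥)
    (hS1 : Subgroup.centralizer (pPrimeCore p ↥H : Set ↥H) ≤ pPrimeCore p ↥H)
    (hS3 : H = ⨆ A : {A : Subgroup G // A ≤ H ∧ IsBestOffenderOn p V A}, (A : Subgroup G))
    {A : Subgroup G} (hAH : A ≤ H) (hA : IsBestOffenderOn p V A) (hAV : ⁅V, A⁆ ≠ ⊥)
    (hmin : ∀ B : Subgroup G, B ≤ A → IsBestOffenderOn p V B → ⁅V, B⁆ ≠ ⊥ → B = A) :
    IsFFComp p V H (⁅((pPrimeCore p ↥H).map H.subtype), A⁆ ⊔ A) := by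
  have S := FFSetup.of_hyp V H hV hHV hf hS1
  obtain ⟨a, -, -, -, -, hcard⟩ := S.bo_min_card' hAH hA hAV hmin
  obtain ⟨h1, h2, h3, h4, h5, h6, h7, h8, h9, h10⟩ :=
    ff_package V H hV hHV hf hS1 hS3 hAH hA hcard
  exact ⟨h1, h2, h3, h4, h5, h6, h7, h8, h9, h10⟩

namespace IsFFComp

variable {V H E : Subgroup G} (hE : IsFFComp p V H E)
include hE

theorem le_H : E ≤ H := le_sup_left.trans hE.h8.le

theorem comm : ∀ e ∈ E,
    ∀ c ∈ H ⊓ Subgroup.centralizer ((⁅V, E⁆ : Subgroup G) : Set G), e * c = c * e := by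
  have h := Subgroup.commutator_eq_bot_iff_le_centralizer.mp hE.h6
  intro e he c hc
  exact ((Subgroup.mem_centralizer_iff.mp (h he)) c hc).symm

theorem normal : H ≤ Subgroup.normalizer (E : Set G) := by
  intro h hh
  rw [← hE.h8] at hh
  obtain ⟨e, he, c, hc, rfl⟩ := mem_sup_of_comm hE.comm hh
  apply mem_normalizer_of_conj_mem
  intro x hx
  have hcx : c * x = x * c := (hE.comm x hx c hc).symm
  have : e * c * x * (e * c)⁻¹ = e * x * e⁻¹ := by
    calc e * c * x * (e * c)⁻¹ = e * (c * x) * c⁻¹ * e⁻¹ := by group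
      _ = e * (x * c) * c⁻¹ * e⁻¹ := by rw [hcx]
      _ = e * x * e⁻¹ := by group
  rw [this]; exact E.mul_mem (E.mul_mem he hx) (E.inv_mem he)

theorem normalC : H ≤ Subgroup.normalizer
    ((H ⊓ Subgroup.centralizer ((⁅V, E⁆ : Subgroup G) : Set G) : Subgroup G) : Set G) := by
  intro h hh
  rw [← hE.h8] at hh
  obtain ⟨e, he, c, hc, rfl⟩ := mem_sup_of_comm hE.comm hh
  apply mem_normalizer_of_conj_mem
  intro x hx
  have hy : c * x * c⁻¹ ∈ H ⊓ Subgroup.centralizer ((⁅V, E⁆ : Subgroup G) : Set G) :=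
    Subgroup.mul_mem _ (Subgroup.mul_mem _ hc hx) (Subgroup.inv_mem _ hc)
  have : e * c * x * (e * c)⁻¹ = c * x * c⁻¹ := by
    calc e * c * x * (e * c)⁻¹ = e * (c * x * c⁻¹) * e⁻¹ := by group
      _ = (c * x * c⁻¹) * e * e⁻¹ := by rw [hE.comm e he _ hy]
      _ = c * x * c⁻¹ := by group
  rw [this]; exact hy

theorem comp_le {M A' : Subgroup G} (hMH : M ≤ H) (hA'H : A' ≤ H)
    (hA' : IsBestOffenderOn p V A') (hcard : Nat.card A' = p) :
    ⁅M, A'⁆ ⊔ A' ≤ E ∨
      ⁅M, A'⁆ ⊔ A' ≤ H ⊓ Subgroup.centralizer ((⁅V, E⁆ : Subgroup G) : Set G) := by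
  rcases hE.h10 A' hA'H hA' hcard with h | h
  · left; exact comm_sup_le (hMH.trans hE.normal) h
  · right; exact comm_sup_le (hMH.trans hE.normalC) h

theorem eq_of_le {E' : Subgroup G} (hE' : IsFFComp p V H E') (h : E' ≤ E) : E' = E := by
  obtain ⟨f⟩ := hE.h2
  obtain ⟨f'⟩ := hE'.h2
  apply subgroup_eq_of_le_of_card_le h
  rw [Nat.card_congr f.toEquiv, Nat.card_congr f'.toEquiv]

end IsFFComp

/-- **Structure theorem for failure of factorization.** -/
theorem ff_structure (V H : Subgroup G) (hV : IsElementaryAbelian p V)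
    (hHV : H ≤ Subgroup.normalizer (V : Set G))
    (hf : H ⊓ Subgroup.centralizer (V : Set G) = ⊥)
    (hS1 : Subgroup.centralizer (pPrimeCore p ↥H : Set ↥H) ≤ pPrimeCore p ↥H)
    (hS3 : H = ⨆ A : {A : Subgroup G // A ≤ H ∧ IsBestOffenderOn p V A}, (A : Subgroup G))
    (hH1 : H ≠ ⊥) :
    (p = 2 ∨ p = 3) ∧
    (∀ E : {E : Subgroup G // IsMinComp p V H E},
      H ≤ Subgroup.normalizer ((E : Subgroup G) : Set G) ∧
      Nonempty (↥(E : Subgroup G) ≃* Matrix.SpecialLinearGroup (Fin 2) (ZMod p)) ∧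
      Nat.card ↥(⁅V, (E : Subgroup G)⁆) = p ^ 2) ∧
    iSupIndep (fun E : {E : Subgroup G // IsMinComp p V H E} => (E : Subgroup G)) ∧
    (⨆ E : {E : Subgroup G // IsMinComp p V H E}, (E : Subgroup G)) = H ∧
    iSupIndep (fun o : Option {E : Subgroup G // IsMinComp p V H E} =>
      o.elim (V ⊓ Subgroup.centralizer (H : Set G)) (fun E => ⁅V, (E : Subgroup G)⁆)) ∧
    (V ⊓ Subgroup.centralizer (H : Set G)) ⊔
      (⨆ E : {E : Subgroup G // IsMinComp p V H E}, ⁅V, (E : Subgroup G)⁆) = V := by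
  have S := FFSetup.of_hyp V H hV hHV hf hS1
  have hcomp : ∀ E : {E : Subgroup G // IsMinComp p V H E},
      IsFFComp p V H (E : Subgroup G) := by
    rintro ⟨E, A, hAH, hA, hAV, hmin, rfl⟩
    exact isFFComp_of_min V H hV hHV hf hS1 hS3 hAH hA hAV hmin
  have hsup : (⨆ E : {E : Subgroup G // IsMinComp p V H E}, (E : Subgroup G)) = H := by
    apply le_antisymm
    · exact iSup_le (fun E => (hcomp E).le_H)
    · have key : (⨆ A : {A : Subgroup G // A ≤ H ∧ IsBestOffenderOn p V A}, (A : Subgroup G)) ≤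
          ⨆ E : {E : Subgroup G // IsMinComp p V H E}, (E : Subgroup G) := by
        apply iSup_le
        rintro ⟨B, hBH, hB⟩
        obtain ⟨k, Bi, hBi, -, hsupB⟩ := S.bo_decomp _ B rfl hBH hB
        show B ≤ _
        rw [← hsupB]
        apply iSup_le
        intro i
        obtain ⟨hm1, hm2⟩ := S.bo_prime_min ((hBi i).1.trans hBH) (hBi i).2.2
        have hmem : IsMinComp p V H (⁅((pPrimeCore p ↥H).map H.subtype), Bi i⁆ ⊔ Bi i) :=
          ⟨Bi i, (hBi i).1.trans hBH, (hBi i).2.1, hm1, hm2, rfl⟩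
        exact le_sup_right.trans
          (le_iSup (fun E : {E : Subgroup G // IsMinComp p V H E} => (E : Subgroup G)) ⟨_, hmem⟩)
      exact hS3.le.trans key
  have hne : Nonempty {E : Subgroup G // IsMinComp p V H E} := by
    by_contra hemp
    rw [not_nonempty_iff] at hemp
    rw [iSup_of_empty] at hsup
    exact hH1 hsup.symm
  obtain ⟨E₀⟩ := hne
  have hdisj : ∀ E E' : {E : Subgroup G // IsMinComp p V H E}, E' ≠ E →
      (E' : Subgroup G) ≤
        H ⊓ Subgroup.centralizer ((⁅V, (E : Subgroup G)⁆ : Subgroup G) : Set G) := by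
    intro E E' hne
    obtain ⟨E', A', hA'H, hA', hA'V, hmin', rfl⟩ := E'
    obtain ⟨a, -, -, -, -, hcard'⟩ := S.bo_min_card' hA'H hA' hA'V hmin'
    rcases (hcomp E).comp_le S.hMH hA'H hA' hcard' with h | h
    · exfalso
      apply hne
      apply Subtype.ext
      have hc' := isFFComp_of_min V H hV hHV hf hS1 hS3 hA'H hA' hA'V hmin'
      exact (hcomp E).eq_of_le hc' h
    · exact h
  obtain ⟨r1, r2, r3⟩ := ff_structure_aux
    (fun E : {E : Subgroup G // IsMinComp p V H E} => (E : Subgroup G)) V H S.hVc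
    (fun E => (hcomp E).h4) (fun E => (hcomp E).h5) (fun E => (hcomp E).h7)
    (fun E => (hcomp E).h9) hdisj hsup
  exact ⟨(hcomp E₀).h1, fun E => ⟨(hcomp E).normal, (hcomp E).h2, (hcomp E).h3⟩, r1, hsup, r2,
    r3⟩

end comp

end Cfsg.Agent.Lib.Helper14
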