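import Mathlib
import Cfsg.Agent.Lib.Helper22.HPDefs

/-!
# S4504 / HP-RECOG sub-piece P7GRP (helper14 for helper1)

A regular normal subgroup of the permutation group induced on the Sylow `p`-subgroups gives
`L ≥ Z(G)` with `L / Z(G)` elementary abelian of order `p + 1`.
-/

set_option autoImplicit false

namespace Cfsg.Agent.Lib.Helper14.HPR

open Cfsg Cfsg.Agent.Lib.Helper22.BFD Cfsg.Agent.Lib.Helper22.HPD

universe u

/-- a normal subgroup of order `p + 1` on which the nontrivial powers of `ζ` act freely by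
conjugation has exponent two -/
private theorem hprp7grp_sq {Γ : Type*} [Group Γ] [Finite Γ] (p : ℕ) (hp : p.Prime) (hp2 : p ≠ 2)
    (N : Subgroup Γ) (hN : N.Normal) (hcard : Nat.card N = p + 1) (ζ : Γ)
    (hζ : ∀ i : ℕ, 0 < i → i < p → ∀ n ∈ N, Commute (ζ ^ i) n → n = 1) :
    ∀ n ∈ N, n ^ 2 = 1 := by
  classical
  haveI : Fintype ↥N := Fintype.ofFinite _
  have h2 : 2 ∣ Nat.card ↥N := by
    rw [hcard]
    rcases hp.eq_two_or_odd with h | h
    · exact absurd h hp2
    · omega
  haveI : Fact (Nat.Prime 2) := ⟨Nat.prime_two⟩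
  obtain ⟨t, ht⟩ := exists_prime_orderOf_dvd_card' 2 h2
  have ht1 : (t : Γ) ≠ 1 := by
    intro h
    have h' : t = 1 := Subtype.ext h
    rw [h', orderOf_one] at ht
    omega
  have ht2 : (t : Γ) ^ 2 = 1 := by
    have h := pow_orderOf_eq_one t
    rw [ht] at h
    have h' := congrArg Subtype.val h
    simpa using h'
  have hconj1 : ∀ i : ℕ, ζ ^ i * (t : Γ) * (ζ ^ i)⁻¹ ≠ 1 := by
    intro i h
    apply ht1
    have e : (t : Γ) = (ζ ^ i)⁻¹ * (ζ ^ i * (t : Γ) * (ζ ^ i)⁻¹) * ζ ^ i := by group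
    rw [e, h]; group
  have key : ∀ i j : ℕ, i < j → j < p →
      ζ ^ i * (t : Γ) * (ζ ^ i)⁻¹ = ζ ^ j * (t : Γ) * (ζ ^ j)⁻¹ → False := by
    intro i j hij hj h
    obtain ⟨x, hx⟩ : ∃ x, x = ζ ^ i * (t : Γ) * (ζ ^ i)⁻¹ := ⟨_, rfl⟩
    have hxN : x ∈ N := by rw [hx]; exact hN.conj_mem _ t.2 _
    have e : ζ ^ j = ζ ^ (j - i) * ζ ^ i := by
      rw [← pow_add]; congr 1; omega
    have hxj : ζ ^ j * (t : Γ) * (ζ ^ j)⁻¹ = ζ ^ (j - i) * x * (ζ ^ (j - i))⁻¹ := by
      rw [e, hx]; group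
    rw [← hx, hxj] at h
    have hcomm : Commute (ζ ^ (j - i)) x := by
      show ζ ^ (j - i) * x = x * ζ ^ (j - i)
      have h3 : x * ζ ^ (j - i) = ζ ^ (j - i) * x * (ζ ^ (j - i))⁻¹ * ζ ^ (j - i) := by
        rw [← h]
      rw [h3]; group
    have hx1 := hζ (j - i) (by omega) (by omega) x hxN hcomm
    rw [hx] at hx1
    exact hconj1 i hx1
  let f : Fin p → ↥N := fun i =>
    ⟨ζ ^ (i : ℕ) * (t : Γ) * (ζ ^ (i : ℕ))⁻¹, hN.conj_mem _ t.2 _⟩
  have hf1 : ∀ i, f i ≠ 1 := by
    intro i h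
    exact hconj1 (i : ℕ) (congrArg Subtype.val h)
  have hinj : Function.Injective f := by
    intro i j hij
    by_contra hne
    have hval : ζ ^ (i : ℕ) * (t : Γ) * (ζ ^ (i : ℕ))⁻¹ = ζ ^ (j : ℕ) * (t : Γ) * (ζ ^ (j : ℕ))⁻¹ :=
      congrArg Subtype.val hij
    rcases lt_or_gt_of_ne (fun h => hne (Fin.ext h)) with h | h
    · exact key i j h j.2 hval
    · exact key j i h i.2 hval.symm
  have himg : Finset.univ.image f = Finset.univ.erase (1 : ↥N) := by
    apply Finset.eq_of_subset_of_card_le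
    · intro n hn
      obtain ⟨i, -, rfl⟩ := Finset.mem_image.mp hn
      exact Finset.mem_erase.mpr ⟨hf1 i, Finset.mem_univ _⟩
    · rw [Finset.card_image_of_injective _ hinj, Finset.card_erase_of_mem (Finset.mem_univ _),
        Finset.card_univ, Finset.card_univ, Fintype.card_fin, ← Nat.card_eq_fintype_card, hcard]
      omega
  intro n hn
  by_cases h1 : n = 1
  · rw [h1]; exact one_pow 2
  · have hmem : (⟨n, hn⟩ : ↥N) ∈ Finset.univ.erase (1 : ↥N) :=
      Finset.mem_erase.mpr ⟨fun h => h1 (congrArg Subtype.val h), Finset.mem_univ _⟩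
    rw [← himg] at hmem
    obtain ⟨i, -, hi⟩ := Finset.mem_image.mp hmem
    have hn' : n = ζ ^ (i : ℕ) * (t : Γ) * (ζ ^ (i : ℕ))⁻¹ := (congrArg Subtype.val hi).symm
    rw [hn', pow_two]
    have e : ζ ^ (i : ℕ) * (t : Γ) * (ζ ^ (i : ℕ))⁻¹ * (ζ ^ (i : ℕ) * (t : Γ) * (ζ ^ (i : ℕ))⁻¹)
        = ζ ^ (i : ℕ) * ((t : Γ) * (t : Γ)) * (ζ ^ (i : ℕ))⁻¹ := by group
    rw [e, ← pow_two, ht2]; group

/-- elements of exponent two commute -/
private theorem hprp7grp_comm {Γ : Type*} [Group Γ] (a b : Γ) (ha : a ^ 2 = 1) (hb : b ^ 2 = 1)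
    (hab : (a * b) ^ 2 = 1) : a * b = b * a := by
  have h1 : b * a * b = a := by
    have h2 : a * (b * a * b) = a * a := by
      rw [← pow_two a, ha, ← hab, pow_two]; group
    exact mul_left_cancel h2
  calc a * b = (b * a * b) * b := by rw [h1]
    _ = b * a * (b * b) := by group
    _ = b * a := by rw [← pow_two, hb, mul_one]

theorem recog_p7_grp {G : Type u} [Group G] [Fintype G] (p : ℕ) [Fact p.Prime] (hp2 : p ≠ 2)
    (hsq : ¬ p ^ 2 ∣ Nat.card G) (z : G) (hz : orderOf z = p)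
    (hker : (MulAction.toPermHom G (Sylow p G)).ker = Subgroup.center G)
    (hcard : Nat.card (Sylow p G) = p + 1)
    (N : Subgroup (MulAction.toPermHom G (Sylow p G)).range) (hN : N.Normal)
    (hNt : MulAction.IsPretransitive N (Sylow p G))
    (hNr : ∀ c : Sylow p G, MulAction.stabilizer N c = ⊥) :
    ∃ L : Subgroup G, Subgroup.center G ≤ L ∧
      Nat.card L = (p + 1) * Nat.card (Subgroup.center G) ∧
      (∀ l ∈ L, l ^ 2 ∈ Subgroup.center G) ∧
      (∀ a ∈ L, ∀ b ∈ L, a * b * a⁻¹ * b⁻¹ ∈ Subgroup.center G) := by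
  have hp : p.Prime := Fact.out
  have hpdvd : p ∣ Nat.card G := hz ▸ orderOf_dvd_natCard z
  have hGne : Nat.card G ≠ 0 := Nat.card_pos.ne'
  have hfac : (Nat.card G).factorization p = 1 := by
    have h1 : 1 ≤ (Nat.card G).factorization p :=
      (hp.dvd_iff_one_le_factorization hGne).mp hpdvd
    have h2 : ¬ 2 ≤ (Nat.card G).factorization p := fun h =>
      hsq ((hp.pow_dvd_iff_le_factorization hGne).mpr h)
    omega
  have hSyl : ∀ R : Sylow p G, Nat.card R = p := fun R => by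
    rw [Sylow.card_eq_multiplicity, hfac, pow_one]
  -- an element of order `p` fixing a Sylow subgroup generates it
  have hD : ∀ w : G, orderOf w = p → ∀ R : Sylow p G, w • R = R →
      (R : Subgroup G) = Subgroup.zpowers w := by
    intro w hw R hR
    have hwn : w ∈ Subgroup.normalizer ((R : Subgroup G) : Set G) :=
      Sylow.smul_eq_iff_mem_normalizer.mp hR
    have hPg : IsPGroup p (Subgroup.zpowers w) :=
      IsPGroup.of_card (n := 1) (by rw [Nat.card_zpowers, hw, pow_one])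
    have hle : Subgroup.zpowers w ≤ Subgroup.normalizer (R : Set G) :=
      (Subgroup.zpowers_le).mpr hwn
    have hle2 : Subgroup.zpowers w ≤ (R : Subgroup G) := by
      have h := hPg.inf_normalizer_sylow R
      rw [inf_eq_left.mpr hle] at h
      exact inf_eq_left.mp h.symm
    exact (Subgroup.eq_of_le_of_card_ge hle2 (by rw [hSyl R, Nat.card_zpowers, hw])).symm
  -- the Sylow subgroup generated by `z`
  obtain ⟨Q₀, hQ₀⟩ := (IsPGroup.of_card (n := 1) (by rw [Nat.card_zpowers, hz, pow_one]) :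
    IsPGroup p (Subgroup.zpowers z)).exists_le_sylow
  have hQ₀eq : (Q₀ : Subgroup G) = Subgroup.zpowers z :=
    (Subgroup.eq_of_le_of_card_ge hQ₀ (by rw [hSyl Q₀, Nat.card_zpowers, hz])).symm
  -- the action of `N`
  have hact : ∀ (m : ↥N) (c : Sylow p G),
      m • c = ((m : (MulAction.toPermHom G (Sylow p G)).range) : Equiv.Perm (Sylow p G)) c :=
    fun m c => rfl
  have hφ : ∀ (g : G) (c : Sylow p G), (MulAction.toPermHom G (Sylow p G) g) c = g • c :=
    fun g c => rfl
  -- `|N| = p + 1`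
  have hcardN : Nat.card ↥N = p + 1 := by
    rw [← hcard]
    refine Nat.card_congr (Equiv.ofBijective (fun m : ↥N => m • Q₀) ⟨?_, ?_⟩)
    · intro m m' h
      have h' : (m'⁻¹ * m) • Q₀ = Q₀ := by
        rw [mul_smul]
        show m'⁻¹ • (m • Q₀) = Q₀
        rw [show m • Q₀ = m' • Q₀ from h, inv_smul_smul]
      have h'' : m'⁻¹ * m ∈ MulAction.stabilizer ↥N Q₀ := h'
      rw [hNr Q₀, Subgroup.mem_bot] at h''
      exact (inv_mul_eq_one.mp h'').symm
    · intro c
      exact MulAction.exists_smul_eq ↥N Q₀ c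
  -- the free action of the powers of `ζ`
  have hζ : ∀ i : ℕ, 0 < i → i < p → ∀ n ∈ N,
      Commute ((MulAction.toPermHom G (Sylow p G)).rangeRestrict z ^ i) n → n = 1 := by
    intro i hi0 hip n hn hcomm
    have hw : orderOf (z ^ i) = p := by
      have hcop : (orderOf z).Coprime i := by
        rw [hz]
        exact (Nat.Prime.coprime_iff_not_dvd hp).mpr (Nat.not_dvd_of_pos_of_lt hi0 hip)
      rw [Nat.Coprime.orderOf_pow hcop, hz]
    have hzw : Subgroup.zpowers (z ^ i) = Subgroup.zpowers z := by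
      refine Subgroup.eq_of_le_of_card_ge ?_ (by rw [Nat.card_zpowers, Nat.card_zpowers, hw, hz])
      exact (Subgroup.zpowers_le).mpr (Subgroup.pow_mem _ (Subgroup.mem_zpowers z) i)
    have hfix0 : (z ^ i) • Q₀ = Q₀ := by
      apply Sylow.smul_eq_iff_mem_normalizer.mpr
      apply Subgroup.le_normalizer
      show z ^ i ∈ (Q₀ : Subgroup G)
      rw [hQ₀eq]
      exact Subgroup.pow_mem _ (Subgroup.mem_zpowers z) i
    have hperm : MulAction.toPermHom G (Sylow p G) (z ^ i) *
        ((n : (MulAction.toPermHom G (Sylow p G)).range) : Equiv.Perm (Sylow p G)) =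
        ((n : (MulAction.toPermHom G (Sylow p G)).range) : Equiv.Perm (Sylow p G)) *
          MulAction.toPermHom G (Sylow p G) (z ^ i) := by
      have h := congrArg Subtype.val hcomm.eq
      simpa [map_pow] using h
    have hfix : (z ^ i) • ((⟨n, hn⟩ : ↥N) • Q₀) = (⟨n, hn⟩ : ↥N) • Q₀ := by
      rw [hact, ← hφ]
      show (MulAction.toPermHom G (Sylow p G) (z ^ i) *
        ((n : (MulAction.toPermHom G (Sylow p G)).range) : Equiv.Perm (Sylow p G))) Q₀ = _
      rw [hperm]
      show ((n : (MulAction.toPermHom G (Sylow p G)).range) : Equiv.Perm (Sylow p G))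
        ((MulAction.toPermHom G (Sylow p G) (z ^ i)) Q₀) = _
      rw [hφ, hfix0]
    have hc : (⟨n, hn⟩ : ↥N) • Q₀ = Q₀ := by
      apply Sylow.ext
      rw [hD (z ^ i) hw _ hfix, hzw, hQ₀eq]
    have hst : (⟨n, hn⟩ : ↥N) ∈ MulAction.stabilizer ↥N Q₀ := hc
    rw [hNr Q₀, Subgroup.mem_bot] at hst
    exact congrArg Subtype.val hst
  have hsqN := hprp7grp_sq p hp hp2 N hN hcardN
    ((MulAction.toPermHom G (Sylow p G)).rangeRestrict z) hζ
  -- the subgroup `L`
  have hsurj : Function.Surjective (MulAction.toPermHom G (Sylow p G)).rangeRestrict :=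
    (MulAction.toPermHom G (Sylow p G)).rangeRestrict_surjective
  have hkerψ : ∀ g : G, (MulAction.toPermHom G (Sylow p G)).rangeRestrict g = 1 ↔
      g ∈ Subgroup.center G := by
    intro g
    rw [← hker, MonoidHom.mem_ker]
    constructor
    · intro h
      have := congrArg Subtype.val h
      simpa using this
    · intro h
      exact Subtype.ext (by simpa using h)
  refine ⟨N.comap (MulAction.toPermHom G (Sylow p G)).rangeRestrict, ?_, ?_, ?_, ?_⟩
  · intro g hg
    rw [Subgroup.mem_comap, (hkerψ g).mpr hg]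
    exact N.one_mem
  · have h1 := Subgroup.card_mul_index (N.comap (MulAction.toPermHom G (Sylow p G)).rangeRestrict)
    rw [Subgroup.index_comap_of_surjective N hsurj] at h1
    have h2 := Subgroup.card_mul_index N
    have h3 := Subgroup.card_mul_index (MulAction.toPermHom G (Sylow p G)).ker
    rw [Subgroup.index_ker, hker] at h3
    have hidx : N.index ≠ 0 := Subgroup.index_ne_zero_of_finite
    have h4 : Nat.card ↥(N.comap (MulAction.toPermHom G (Sylow p G)).rangeRestrict) * N.index =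
        ((p + 1) * Nat.card (Subgroup.center G)) * N.index := by
      rw [h1, ← h3, ← h2, hcardN]; ring
    exact Nat.eq_of_mul_eq_mul_right (Nat.pos_of_ne_zero hidx) h4
  · intro l hl
    rw [Subgroup.mem_comap] at hl
    rw [← hkerψ, map_pow]
    exact hsqN _ hl
  · intro a ha b hb
    rw [Subgroup.mem_comap] at ha hb
    rw [← hkerψ, map_mul, map_mul, map_mul, map_inv, map_inv]
    have hc := hprp7grp_comm _ _ (hsqN _ ha) (hsqN _ hb) (hsqN _ (N.mul_mem ha hb))
    rw [hc]; group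

end Cfsg.Agent.Lib.Helper14.HPR
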