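import Mathlib
import Cfsg.Prelude.Def_PLocal
import Cfsg.Prelude.Def_Local
import Cfsg.Agent.Lib.Helper14.Basic
import Cfsg.Agent.Lib.Helper14.PCore
import Cfsg.Agent.Lib.Helper14.Replacement
import Cfsg.Agent.Lib.Helper14.FF2
import Cfsg.Agent.Lib.Helper14.SL2Solv3
import Cfsg.Agent.Lib.Helper14.DualHH
import Cfsg.Agent.Lib.Helper31.Basic

set_option autoImplicit false

/-!
# Transfer of a conjugation action to the holomorph (helper14)

For a normal subgroup `V` of `G`, the group `G / C_G(V)` acts faithfully on `V`.  To apply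
results stated for a subgroup `H` acting faithfully on a subgroup `V` of a common group, we map
`G` to the holomorph `V ⋊ Aut V`.
-/

namespace Cfsg.Agent.Lib.Helper14

open Cfsg

section holo

variable {G : Type*} [Group G] (V : Subgroup G) [V.Normal]

/-- the holomorph of `V`. -/
abbrev Holo : Type _ := ↥V ⋊[MonoidHom.id (MulAut ↥V)] MulAut ↥V

instance holo_finite [Finite G] : Finite (Holo V) :=
  Finite.of_equiv (↥V × MulAut ↥V) SemidirectProduct.equivProd.symm

/-- `G → Hol(V)`, through the conjugation action. -/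
def holoHom : G →* Holo V :=
  (SemidirectProduct.inr : MulAut ↥V →* Holo V).comp MulAut.conjNormal

/-- the copy of `V` in its holomorph. -/
def holoV : Subgroup (Holo V) := (SemidirectProduct.inl : ↥V →* Holo V).range

instance holoV_normal : (holoV V).Normal := by
  rw [holoV, SemidirectProduct.range_inl_eq_ker_rightHom]
  infer_instance

theorem holo_conj (g : G) (v : ↥V) :
    holoHom V g * SemidirectProduct.inl v * (holoHom V g)⁻¹ =
      SemidirectProduct.inl (MulAut.conjNormal g v) := by
  show SemidirectProduct.inr (MulAut.conjNormal g) * SemidirectProduct.inl v *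
    (SemidirectProduct.inr (MulAut.conjNormal g))⁻¹ = _
  rw [← map_inv]
  exact (SemidirectProduct.inl_aut (φ := MonoidHom.id (MulAut ↥V)) (MulAut.conjNormal g) v).symm

theorem holoHom_ker : (holoHom V).ker = Subgroup.centralizer (V : Set G) := by
  ext x
  rw [MonoidHom.mem_ker, Subgroup.mem_centralizer_iff]
  constructor
  · intro h v hv
    have h1 := holo_conj V x ⟨v, hv⟩
    rw [h, one_mul, inv_one, mul_one] at h1
    have h2 := SemidirectProduct.inl_injective h1
    have h3 := congrArg (fun z : ↥V => (z : G)) h2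
    simp only [MulAut.conjNormal_apply] at h3
    calc v * x = (x * v * x⁻¹) * x := by rw [← h3]
      _ = x * v := by group
  · intro h
    have h1 : MulAut.conjNormal x = (1 : MulAut ↥V) := by
      ext v
      rw [MulAut.conjNormal_apply, MulAut.one_apply]
      have h2 := h v v.2
      calc x * (v : G) * x⁻¹ = ((v : G) * x) * x⁻¹ := by rw [h2]
        _ = v := by group
    show SemidirectProduct.inr (MulAut.conjNormal x) = 1
    rw [h1, map_one]

theorem holo_faithful : (holoHom V).range ⊓ Subgroup.centralizer (holoV V : Set (Holo V)) = ⊥ := by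
  rw [eq_bot_iff]
  rintro _ ⟨⟨g, rfl⟩, hc⟩
  rw [Subgroup.mem_bot, ← MonoidHom.mem_ker, holoHom_ker, Subgroup.mem_centralizer_iff]
  intro v hv
  have h1 := Subgroup.mem_centralizer_iff.mp hc (SemidirectProduct.inl ⟨v, hv⟩) ⟨⟨v, hv⟩, rfl⟩
  have h2 := holo_conj V g ⟨v, hv⟩
  rw [← h1, mul_assoc, mul_inv_cancel, mul_one] at h2
  have h3 := congrArg (fun z : ↥V => (z : G)) (SemidirectProduct.inl_injective h2)
  simp only [MulAut.conjNormal_apply] at h3
  calc v * g = (g * v * g⁻¹) * g := by rw [← h3]
    _ = g * v := by group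

theorem holo_mem_cent (B : Subgroup G) (v : ↥V) :
    (SemidirectProduct.inl v : Holo V) ∈
        Subgroup.centralizer ((B.map (holoHom V) : Subgroup (Holo V)) : Set (Holo V)) ↔
      (v : G) ∈ Subgroup.centralizer (B : Set G) := by
  rw [Subgroup.mem_centralizer_iff, Subgroup.mem_centralizer_iff]
  constructor
  · intro h b hb
    have h1 := h (holoHom V b) ⟨b, hb, rfl⟩
    have h2 := holo_conj V b v
    rw [h1, mul_assoc, mul_inv_cancel, mul_one] at h2
    have h3 := congrArg (fun z : ↥V => (z : G)) (SemidirectProduct.inl_injective h2)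
    simp only [MulAut.conjNormal_apply] at h3
    calc b * (v : G) = (b * v * b⁻¹) * b := by group
      _ = v * b := by rw [← h3]
  · rintro h _ ⟨b, hb, rfl⟩
    have h1 := h b hb
    have h2 := holo_conj V b v
    have h3 : MulAut.conjNormal b v = v := by
      apply Subtype.ext
      rw [MulAut.conjNormal_apply, h1]; group
    rw [h3] at h2
    calc holoHom V b * SemidirectProduct.inl v
        = holoHom V b * SemidirectProduct.inl v * (holoHom V b)⁻¹ * holoHom V b := by group
      _ = SemidirectProduct.inl v * holoHom V b := by rw [h2]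

theorem holo_cv_eq (B : Subgroup G) :
    holoV V ⊓ Subgroup.centralizer ((B.map (holoHom V) : Subgroup (Holo V)) : Set (Holo V)) =
      ((V ⊓ Subgroup.centralizer (B : Set G)).subgroupOf V).map
        (SemidirectProduct.inl : ↥V →* Holo V) := by
  ext x
  constructor
  · rintro ⟨⟨v, rfl⟩, hc⟩
    refine ⟨v, ?_, rfl⟩
    show (v : G) ∈ V ⊓ Subgroup.centralizer (B : Set G)
    exact Subgroup.mem_inf.mpr ⟨v.2, (holo_mem_cent V B v).mp hc⟩
  · rintro ⟨v, hv, rfl⟩
    have hv : (v : G) ∈ V ⊓ Subgroup.centralizer (B : Set G) := hv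
    exact Subgroup.mem_inf.mpr ⟨⟨v, rfl⟩, (holo_mem_cent V B v).mpr (Subgroup.mem_inf.mp hv).2⟩

theorem holo_cv_card (B : Subgroup G) :
    Nat.card ↥(holoV V ⊓
        Subgroup.centralizer ((B.map (holoHom V) : Subgroup (Holo V)) : Set (Holo V))) =
      Nat.card ↥(V ⊓ Subgroup.centralizer (B : Set G)) := by
  rw [holo_cv_eq, Subgroup.card_map_of_injective SemidirectProduct.inl_injective]
  exact Nat.card_congr (Subgroup.subgroupOfEquivOfLe inf_le_left).toEquiv

omit [V.Normal] in
theorem holoV_card : Nat.card ↥(holoV V) = Nat.card V := by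
  exact (Nat.card_congr (MonoidHom.ofInjective
    (SemidirectProduct.inl_injective (φ := MonoidHom.id (MulAut ↥V)))).toEquiv).symm

theorem holo_card_map [Finite G] (B : Subgroup G) :
    Nat.card ↥(B.map (holoHom V)) * Nat.card ↥(B ⊓ Subgroup.centralizer (V : Set G)) =
      Nat.card B := by
  have h1 := Subgroup.relIndex_ker B (holoHom V)
  rw [holoHom_ker] at h1
  have h2 := card_mul_relIndex (inf_le_left : B ⊓ Subgroup.centralizer (V : Set G) ≤ B)
  rw [Subgroup.inf_relIndex_left, h1] at h2
  rw [mul_comm]; exact h2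

omit [V.Normal] in
theorem holoV_ea {p : ℕ} (hV : IsElementaryAbelian p V) : IsElementaryAbelian p (holoV V) := by
  apply ea_of_forall
  · rintro _ ⟨v, rfl⟩ _ ⟨w, rfl⟩
    rw [← map_mul, ← map_mul]
    congr 1
    exact Subtype.ext (ea_comm hV v v.2 w w.2)
  · rintro _ ⟨v, rfl⟩
    rw [← map_pow]
    have : v ^ p = 1 := Subtype.ext (hV.2 v v.2)
    rw [this, map_one]

theorem holo_bo [Finite G] {p : ℕ} (A : Subgroup G) (hA : IsBestOffenderOn p V A) :
    IsBestOffenderOn p (holoV V) (A.map (holoHom V)) := by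
  refine ⟨?_, ?_, ?_⟩
  · intro B' hB'
    set B : Subgroup G := A ⊓ B'.comap (holoHom V) with hB
    have hBmap : B.map (holoHom V) = B' := by
      apply le_antisymm
      · rw [Subgroup.map_le_iff_le_comap]; exact inf_le_right
      · intro x hx
        obtain ⟨a, ha, rfl⟩ := hB' hx
        exact ⟨a, Subgroup.mem_inf.mpr ⟨ha, hx⟩, rfl⟩
    have hBC : B ⊓ Subgroup.centralizer (V : Set G) = A ⊓ Subgroup.centralizer (V : Set G) := by
      apply le_antisymm (inf_le_inf_right _ inf_le_left)
      refine le_inf (le_inf inf_le_left ?_) inf_le_right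
      intro x hx
      have hx2 : x ∈ (holoHom V).ker := by
        rw [holoHom_ker]; exact (Subgroup.mem_inf.mp hx).2
      rw [Subgroup.mem_comap, MonoidHom.mem_ker.mp hx2]
      exact one_mem _
    have h1 := holo_card_map V B
    have h2 := holo_card_map V A
    have h3 := hA.1 B inf_le_left
    rw [hBC] at h1
    rw [← hBmap, holo_cv_card, holo_cv_card]
    have hpos : 0 < Nat.card ↥(A ⊓ Subgroup.centralizer (V : Set G)) := Nat.card_pos
    apply Nat.le_of_mul_le_mul_right _ hpos
    calc Nat.card ↥(B.map (holoHom V)) * Nat.card ↥(V ⊓ Subgroup.centralizer (B : Set G)) *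
          Nat.card ↥(A ⊓ Subgroup.centralizer (V : Set G))
        = Nat.card B * Nat.card ↥(V ⊓ Subgroup.centralizer (B : Set G)) := by rw [← h1]; ring
      _ ≤ Nat.card A * Nat.card ↥(V ⊓ Subgroup.centralizer (A : Set G)) := h3
      _ = Nat.card ↥(A.map (holoHom V)) * Nat.card ↥(V ⊓ Subgroup.centralizer (A : Set G)) *
          Nat.card ↥(A ⊓ Subgroup.centralizer (V : Set G)) := by rw [← h2]; ring
  · rw [← Subgroup.map_commutator]
    rintro _ ⟨y, hy, rfl⟩
    have hy2 : y ∈ (holoHom V).ker := by rw [holoHom_ker]; exact hA.2.1 hy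
    rw [MonoidHom.mem_ker.mp hy2]
    exact one_mem _
  · rintro _ ⟨a, ha, rfl⟩
    rw [← map_pow]
    have hy2 : a ^ p ∈ (holoHom V).ker := by rw [holoHom_ker]; exact hA.2.2 a ha
    rw [MonoidHom.mem_ker.mp hy2]
    exact one_mem _

/-- the standing setup in the holomorph: the image of `G` acts faithfully on the copy of `V`,
and when `G` is `p`-solvable with `O_p(G / C_G(V)) = 1` its `p'`-core is self-centralizing. -/
theorem holo_setup [Finite G] {p : ℕ} [Fact p.Prime] (hsep : IsPSolvable p G)
    (hV : IsElementaryAbelian p V)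
    (hO : pCore p (G ⧸ Subgroup.centralizer (V : Set G)) = ⊥) :
    FFSetup p (holoV V) (holoHom V).range
      ((pPrimeCore p ↥(holoHom V).range).map (holoHom V).range.subtype) := by
  have hHV : (holoHom V).range ≤ Subgroup.normalizer (holoV V : Set (Holo V)) := by
    rw [Subgroup.normalizer_eq_top_iff.mpr (holoV_normal V)]
    exact le_top
  have hsol : IsPSolvable p ↥(holoHom V).range :=
    isPSolvable_map (holoHom V).rangeRestrict (holoHom V).rangeRestrict_surjective hsep
  let e : G ⧸ Subgroup.centralizer (V : Set G) ≃* ↥(holoHom V).range :=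
    (QuotientGroup.quotientMulEquivOfEq (holoHom_ker V).symm).trans
      (QuotientGroup.quotientKerEquivRange (holoHom V))
  have hcore : pCore p ↥(holoHom V).range = ⊥ := by
    rw [← Cfsg.Agent.Lib.Helper31.pCore_map p e, hO, Subgroup.map_bot]
  exact FFSetup.of_hyp (holoV V) (holoHom V).range (holoV_ea V hV) hHV (holo_faithful V)
    (centralizer_pPrimeCore_le hsol hcore)

/-- a best offender `A` on the normal elementary abelian subgroup `V` of the `p`-solvable group
`G` with `O_p(G / C_G(V)) = 1` satisfies `|A| |C_V(A)| = |V| |C_A(V)|`. -/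
theorem holo_ff_eq [Finite G] {p : ℕ} [Fact p.Prime] (hsep : IsPSolvable p G)
    (hV : IsElementaryAbelian p V)
    (hO : pCore p (G ⧸ Subgroup.centralizer (V : Set G)) = ⊥) (A : Subgroup G)
    (hA : IsBestOffenderOn p V A) :
    Nat.card A * Nat.card ↥(V ⊓ Subgroup.centralizer (A : Set G)) =
      Nat.card V * Nat.card ↥(A ⊓ Subgroup.centralizer (V : Set G)) := by
  have S := holo_setup V hsep hV hO
  have h1 := S.bo_ff_eq _ (A.map (holoHom V)) rfl (Subgroup.map_le_range _ _) (holo_bo V A hA)
  rw [ff, holo_cv_card, holoV_card] at h1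
  rw [← h1, ← holo_card_map V A]
  ring

end holo

end Cfsg.Agent.Lib.Helper14
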