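import Mathlib
import Cfsg.Agent.Lib.Helper14.OSGlue2
import Cfsg.Agent.Lib.Helper90.OSK
import Cfsg.Agent.Lib.Helper87.OSN
import Cfsg.Agent.S3282
import Cfsg.Agent.Lib.Helper19.BSW2ZR
import Cfsg.Agent.Lib.Helper46.BSW2ZF

/-!
# Order + spectrum of `PSL(2, q)`, `q` odd: from Brauer–Suzuki–Wall to `PSL(2, F)` (glue)
-/

set_option autoImplicit false

namespace Cfsg.Agent.Lib.Helper14.OS

open Subgroup

theorem glue_cube_inj (n m : ℕ) (hn : 2 ≤ n) (hm : 2 ≤ m)
    (h : n * (n + 1) * (n - 1) = m * (m + 1) * (m - 1)) : n = m := by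
  obtain ⟨n', rfl⟩ : ∃ n', n = n' + 2 := ⟨n - 2, by omega⟩
  obtain ⟨m', rfl⟩ : ∃ m', m = m' + 2 := ⟨m - 2, by omega⟩
  have e1 : n' + 2 - 1 = n' + 1 := by omega
  have e2 : m' + 2 - 1 = m' + 1 := by omega
  rw [e1, e2] at h
  rcases Nat.lt_trichotomy n' m' with hlt | heq | hgt
  · exfalso
    have h1 : (n' + 2) * (n' + 2 + 1) * (n' + 1) < (m' + 2) * (m' + 2 + 1) * (m' + 1) := by
      have ha : n' + 2 < m' + 2 := by omega
      have hb : n' + 2 + 1 ≤ m' + 2 + 1 := by omega
      have hc : n' + 1 ≤ m' + 1 := by omega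
      calc (n' + 2) * (n' + 2 + 1) * (n' + 1) ≤ (n' + 2) * (m' + 2 + 1) * (m' + 1) :=
            Nat.mul_le_mul (Nat.mul_le_mul_left _ hb) hc
        _ < (m' + 2) * (m' + 2 + 1) * (m' + 1) := by
            apply Nat.mul_lt_mul_of_pos_right _ (by omega)
            exact Nat.mul_lt_mul_of_pos_right ha (by omega)
    omega
  · rw [heq]
  · exfalso
    have h1 : (m' + 2) * (m' + 2 + 1) * (m' + 1) < (n' + 2) * (n' + 2 + 1) * (n' + 1) := by
      have ha : m' + 2 < n' + 2 := by omega
      have hb : m' + 2 + 1 ≤ n' + 2 + 1 := by omega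
      have hc : m' + 1 ≤ n' + 1 := by omega
      calc (m' + 2) * (m' + 2 + 1) * (m' + 1) ≤ (m' + 2) * (n' + 2 + 1) * (n' + 1) :=
            Nat.mul_le_mul (Nat.mul_le_mul_left _ hb) hc
        _ < (n' + 2) * (n' + 2 + 1) * (n' + 1) := by
            apply Nat.mul_lt_mul_of_pos_right _ (by omega)
            exact Nat.mul_lt_mul_of_pos_right ha (by omega)
    omega

section

variable {G : Type*} [Group G] [Finite G] {q a b : ℕ}

theorem glue_QD (H : Hyp G q a b) :
    ∃ Q D : Subgroup G, Nat.card Q = q ∧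
      2 * Nat.card G = Nat.card Q * (Nat.card Q + 1) * (Nat.card Q - 1) ∧
      (∀ x ∈ Q, x ≠ 1 → centralizer ({x} : Set G) = Q) ∧ 2 * Nat.card D + 1 = Nat.card Q ∧
      Q ⊓ D = ⊥ ∧ normalizer (Q : Set G) = Q ⊔ D := by
  obtain ⟨t, s, K, ht, hKab, hKH, htK, hs, hsH, hsK, hH, hCK, hinv, hTI, hconj⟩ := glue_setup H
  obtain ⟨Q, D, hcard, hcent, -, hD, hQD, hN, -⟩ :=
    Cfsg.Agent.S3282.result t ht K hKab hKH htK s hs hsH hsK hH hCK hinv hTI hconj
  refine ⟨Q, D, ?_, hcard, hcent, hD, hQD, hN⟩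
  have hb := H.hb
  have hq5 : 5 ≤ q := by
    have := H.hab
    rcases H.hdiff with h | h <;> omega
  have h4 : 4 * a * b + 1 = q * q := by
    rw [← H.hab]
    rcases H.hdiff with h | h
    · rw [h]; ring
    · rw [h]; ring
  have h2G : 2 * Nat.card G = q * (q + 1) * (q - 1) := by
    rw [H.hcard]
    obtain ⟨q', rfl⟩ : ∃ q', q = q' + 1 := ⟨q - 1, by omega⟩
    have e : q' + 1 - 1 = q' := by omega
    rw [e]
    have h4' : 4 * a * b = q' * (q' + 2) := by
      have : 4 * a * b + 1 = q' * (q' + 2) + 1 := by rw [h4]; ring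
      omega
    calc 2 * (2 * (q' + 1) * a * b) = (q' + 1) * (4 * a * b) := by ring
      _ = (q' + 1) * (q' * (q' + 2)) := by rw [h4']
      _ = _ := by ring
  have hQ2 : 2 ≤ Nat.card Q := by
    by_contra hcon
    have hpos : 0 < Nat.card Q := Nat.card_pos
    have h1 : Nat.card Q = 1 := by omega
    rw [h1] at hcard
    have hGpos : 0 < Nat.card G := Nat.card_pos
    omega
  exact glue_cube_inj _ _ hQ2 (by omega) (hcard.symm.trans h2G)

/-- **The odd case**: a finite group with the order and the element orders of `PSL(2, q)`,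
`q` odd, is `PSL(2, F)` for some finite field of odd order. -/
theorem at_odd (H : Hyp G q a b) :
    ∃ (F : Type) (_ : Field F) (_ : Fintype F), Odd (Fintype.card F) ∧
      Nonempty (G ≃* Matrix.ProjectiveSpecialLinearGroup (Fin 2) F) := by
  obtain ⟨Q, D, hQq, hcard, hcent, hD, hQD, hN⟩ := glue_QD H
  have hb := H.hb
  have hq5 : 5 ≤ q := by
    have := H.hab
    rcases H.hdiff with h | h <;> omega
  have hLE : D ≤ normalizer (Q : Set G) := by rw [hN]; exact le_sup_right
  have hQN : Q ≤ Q ⊔ D := le_sup_left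
  have h1 : Q.relIndex (D ⊔ Q) = Q.relIndex D := by
    have i1 := Subgroup.normal_subgroupOf_of_le_normalizer hLE
    have i2 := Subgroup.normal_subgroupOf_sup_of_le_normalizer hLE
    exact Nat.card_congr
      (QuotientGroup.quotientInfEquivProdNormalizerQuotient D Q hLE).toEquiv.symm
  have h2 : Q.relIndex D = Nat.card D := by
    rw [← Subgroup.inf_relIndex_left, inf_comm, hQD, Subgroup.relIndex_bot_left]
  have h3 : Nat.card Q * Q.relIndex (Q ⊔ D) = Nat.card (Q ⊔ D : Subgroup G) := by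
    have h := Subgroup.relIndex_mul_relIndex (H := ⊥) (K := Q) (L := Q ⊔ D) bot_le hQN
    rwa [Subgroup.relIndex_bot_left, Subgroup.relIndex_bot_left] at h
  have hNcard : Nat.card (normalizer (Q : Set G)) = Nat.card Q * Nat.card D := by
    rw [hN, ← h3, sup_comm, h1, h2]
  have hG : Nat.card G = Nat.card Q * Nat.card D * (Nat.card Q + 1) := by
    have h4 : Nat.card Q - 1 = 2 * Nat.card D := by omega
    rw [h4] at hcard
    apply Nat.eq_of_mul_eq_mul_left (show 0 < 2 by norm_num)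
    rw [hcard]; ring
  have hidx : (normalizer (Q : Set G)).index = Nat.card Q + 1 := by
    have h5 := Subgroup.card_mul_index (normalizer (Q : Set G))
    rw [hNcard, hG] at h5
    exact Nat.eq_of_mul_eq_mul_left (Nat.mul_pos Nat.card_pos Nat.card_pos) h5
  have hreg := Cfsg.Agent.Lib.Helper46.BSW.concl_regular Q D hcent hD hQD hN hNcard hidx
  have hstab : MulAction.stabilizer G ((1 : G) : G ⧸ normalizer (Q : Set G)) =
      normalizer (Q : Set G) := MulAction.stabilizer_quotient _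
  have hΩ : Nat.card (G ⧸ normalizer (Q : Set G)) = Nat.card Q + 1 := by
    rw [← hidx]; rfl
  have hd : ∃ d ∈ normalizer (Q : Set G), d ∉ Q := by
    have h1 : 1 < Nat.card D := by omega
    haveI : Nontrivial D := Finite.one_lt_card_iff_nontrivial.mp h1
    obtain ⟨d, hd⟩ := exists_ne (1 : D)
    refine ⟨d, ?_, ?_⟩
    · rw [hN]; exact Subgroup.mem_sup_right d.2
    · intro hdQ
      have : (d : G) ∈ Q ⊓ D := ⟨hdQ, d.2⟩
      rw [hQD, Subgroup.mem_bot] at this
      exact hd (Subtype.ext this)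
  obtain ⟨hNa, hNb⟩ := glue_Na_Nb H
  have hZ : Cfsg.IsZassenhausGroup G (G ⧸ normalizer (Q : Set G)) :=
    zass_of_regular' _ Q hstab hcent hreg (by omega) hd
      (fun M hM => by rw [hΩ, hQq]; exact no_normal_card H hNa hNb M hM)
  have hQab : IsMulCommutative Q := by
    refine ⟨⟨fun x y => ?_⟩⟩
    by_cases hy : y = 1
    · rw [hy, mul_one, one_mul]
    · have hy' : (y : G) ≠ 1 := fun h => hy (Subtype.ext h)
      have hx : (x : G) ∈ centralizer ({(y : G)} : Set G) := by
        rw [hcent y y.2 hy']; exact x.2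
      rw [Subgroup.mem_centralizer_iff] at hx
      exact Subtype.ext (hx y rfl).symm
  have hQle : Q ≤ MulAction.stabilizer G ((1 : G) : G ⧸ normalizer (Q : Set G)) := by
    rw [hstab]; exact Subgroup.le_normalizer
  have hQn : (Q.subgroupOf (MulAction.stabilizer G
      ((1 : G) : G ⧸ normalizer (Q : Set G)))).Normal := by
    rw [hstab]; exact Subgroup.normal_in_normalizer
  exact Cfsg.Agent.Lib.Helper46.BSW.psl_of_zass hZ _ Q hQle hQn hQab hreg hcard hΩ (by omega)

end

end Cfsg.Agent.Lib.Helper14.OS
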