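import Mathlib

/-!
# S2080 piece SYLOW (helper14 for helper38)

An automorphism maps the involution `z` to a conjugate of `z`, when `z` centralises an element
`x0` of order 13 generating a Sylow 13-subgroup and all involutions centralising `x0` are
conjugate to `z`.
-/

set_option autoImplicit false

namespace Cfsg.Agent.Lib.Helper14.OutSylow

/-- in a cyclic group of prime order, a generator is a power of every nontrivial power of it -/
private theorem outsylow_root {G : Type} [Group G] (p : ℕ) (hp : p.Prime) (z : G)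
    (hz : orderOf z = p) (k : ℤ) (hk : ¬ (p : ℤ) ∣ k) : ∃ b : ℤ, (z ^ k) ^ b = z := by
  have hcop : IsCoprime (p : ℤ) k :=
    (Nat.prime_iff_prime_int.mp hp).coprime_iff_not_dvd.mpr hk
  obtain ⟨a, b, hab⟩ := hcop
  refine ⟨b, ?_⟩
  have h1 : z ^ (p : ℤ) = 1 := by
    rw [zpow_natCast, ← hz]; exact pow_orderOf_eq_one z
  have h2 : (z ^ k) ^ b = z ^ (a * (p : ℤ) + b * k) := by
    rw [zpow_add, mul_comm a (p : ℤ), zpow_mul, h1, one_zpow, one_mul, ← zpow_mul, mul_comm]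
  rw [h2, hab, zpow_one]

theorem conj_of_sylow {G : Type} [Group G] (z : G) [Finite G] (x0 : G) (m : ℕ)
    (hcard : Nat.card G = 13 * m) (hm : ¬ 13 ∣ m)
    (hx : x0 ^ 13 = 1) (hx1 : x0 ≠ 1)
    (hz2 : z * z = 1) (hz1 : z ≠ 1) (hzx : z * x0 = x0 * z)
    (hinv : ∀ t : G, t * t = 1 → t ≠ 1 → t * x0 = x0 * t → ∃ g : G, t = g * z * g⁻¹)
    (α : G ≃* G) : ∃ g0 : G, α z = g0 * z * g0⁻¹ := by
  have hp : Nat.Prime 13 := by norm_num
  have : Fact (Nat.Prime 13) := ⟨hp⟩
  have ho : orderOf x0 = 13 := orderOf_eq_prime hx hx1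
  have hαo : orderOf (α x0) = 13 := by rw [MulEquiv.orderOf_eq α x0, ho]
  have hGne : Nat.card G ≠ 0 := Nat.card_pos.ne'
  have hfac : (Nat.card G).factorization 13 = 1 := by
    have h1 : 1 ≤ (Nat.card G).factorization 13 :=
      (hp.dvd_iff_one_le_factorization hGne).mp (hcard ▸ Dvd.intro m rfl)
    have h2 : ¬ 2 ≤ (Nat.card G).factorization 13 := fun h => by
      have h3 : 13 ^ 2 ∣ Nat.card G := (hp.pow_dvd_iff_le_factorization hGne).mpr h
      rw [hcard] at h3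
      apply hm
      have h4 : 13 * 13 ∣ 13 * m := by simpa [pow_two] using h3
      exact Nat.dvd_of_mul_dvd_mul_left (by norm_num) h4
    omega
  have hSyl : ∀ R : Sylow 13 G, Nat.card R = 13 := fun R => by
    rw [Sylow.card_eq_multiplicity, hfac, pow_one]
  -- the Sylow subgroups generated by `x0` and by `α x0`
  have hgen : ∀ w : G, orderOf w = 13 → ∃ R : Sylow 13 G, (R : Subgroup G) = Subgroup.zpowers w := by
    intro w hw
    obtain ⟨R, hR⟩ := (IsPGroup.of_card (n := 1) (by rw [Nat.card_zpowers, hw, pow_one]) :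
      IsPGroup 13 (Subgroup.zpowers w)).exists_le_sylow
    exact ⟨R, (Subgroup.eq_of_le_of_card_ge hR (by rw [hSyl R, Nat.card_zpowers, hw])).symm⟩
  obtain ⟨P, hP⟩ := hgen x0 ho
  obtain ⟨Q, hQ⟩ := hgen (α x0) hαo
  obtain ⟨c, hc⟩ := MulAction.exists_smul_eq G P Q
  have hmemQ : α x0 ∈ (Q : Subgroup G) := by rw [hQ]; exact Subgroup.mem_zpowers _
  have hmem : α x0 ∈ ((c • P : Sylow 13 G) : Subgroup G) := by rw [hc]; exact hmemQ
  have hmem2 : c⁻¹ * α x0 * c ∈ (P : Subgroup G) := by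
    rw [Sylow.coe_subgroup_smul] at hmem
    have h2 := (Subgroup.mem_pointwise_smul_iff_inv_smul_mem).mp hmem
    simpa [MulAut.smul_def] using h2
  rw [hP] at hmem2
  obtain ⟨k, hk⟩ := Subgroup.mem_zpowers_iff.mp hmem2
  -- `y = x0 ^ k` is nontrivial
  have hαx1 : α x0 ≠ 1 := fun h => hx1 (by simpa using h)
  have hy1 : x0 ^ k ≠ 1 := by
    intro h
    rw [h] at hk
    apply hαx1
    have e : α x0 = c * (c⁻¹ * α x0 * c) * c⁻¹ := by group
    rw [e, ← hk]; group
  have hkd : ¬ ((13 : ℕ) : ℤ) ∣ k := by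
    intro h
    apply hy1
    obtain ⟨j, rfl⟩ := h
    rw [zpow_mul, zpow_natCast, hx, one_zpow]
  obtain ⟨b, hb⟩ := outsylow_root 13 hp x0 ho k hkd
  -- the involution `t`
  have ht2 : (c⁻¹ * α z * c) * (c⁻¹ * α z * c) = 1 := by
    have e : (c⁻¹ * α z * c) * (c⁻¹ * α z * c) = c⁻¹ * (α z * α z) * c := by group
    rw [e, ← map_mul, hz2, map_one]; group
  have ht1 : c⁻¹ * α z * c ≠ 1 := by
    intro h
    apply hz1
    have e : α z = c * (c⁻¹ * α z * c) * c⁻¹ := by group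
    have h2 : α z = 1 := by rw [e, h]; group
    simpa using h2
  have hcomm : Commute (c⁻¹ * α z * c) (x0 ^ k) := by
    show (c⁻¹ * α z * c) * (x0 ^ k) = (x0 ^ k) * (c⁻¹ * α z * c)
    rw [hk]
    have e1 : (c⁻¹ * α z * c) * (c⁻¹ * α x0 * c) = c⁻¹ * (α z * α x0) * c := by group
    have e2 : (c⁻¹ * α x0 * c) * (c⁻¹ * α z * c) = c⁻¹ * (α x0 * α z) * c := by group
    rw [e1, e2, ← map_mul, ← map_mul, hzx]
  have hcomm2 : Commute (c⁻¹ * α z * c) x0 := by
    have h := hcomm.zpow_right b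
    rw [hb] at h
    exact h
  obtain ⟨g, hg⟩ := hinv (c⁻¹ * α z * c) ht2 ht1 hcomm2
  refine ⟨c * g, ?_⟩
  have e : α z = c * (c⁻¹ * α z * c) * c⁻¹ := by group
  rw [e, hg]; group

end Cfsg.Agent.Lib.Helper14.OutSylow
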