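import Mathlib
import Cfsg.Agent.Lib.Helper44.PU3Defs

/-!
# PU3 piece TRNE (helper14 for helper44)

The trace of an element of `SU_3` without eigenvalues is not fixed by `^q`.
-/

set_option autoImplicit false

namespace Cfsg.Agent.Lib.Helper44.PU3

open Matrix

theorem pu3_trne {F : Type*} [Field F] [Fintype F] (q : ℕ) (h1 : NonDerStmt F) (h2 : CHStmt F q) : TrNeStmt F q := by
  intro hF g hg hne hτ
  have hCH := h2 hF g hg
  rw [hτ] at hCH
  -- the factorisation
  have hfac : (g - (1 : F) • (1 : Matrix (Fin 3) (Fin 3) F)) *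
      ((1 : F) • (1 : Matrix (Fin 3) (Fin 3) F) + (1 - g.trace) • g + (1 : F) • (g * g)) = 0 := by
    have e : (g - (1 : F) • (1 : Matrix (Fin 3) (Fin 3) F)) *
        ((1 : F) • (1 : Matrix (Fin 3) (Fin 3) F) + (1 - g.trace) • g + (1 : F) • (g * g))
        = g * g * g - g.trace • (g * g) + g.trace • g - 1 := by
      simp only [one_smul, sub_smul, mul_add, sub_mul, mul_sub, mul_one, one_mul, Matrix.mul_smul,
        Matrix.smul_mul, Matrix.mul_assoc]
      abel
    rw [e, hCH]
    abel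
  have hdet : IsUnit (g - (1 : F) • (1 : Matrix (Fin 3) (Fin 3) F)).det :=
    isUnit_iff_ne_zero.mpr (hne 1)
  have hunit : IsUnit (g - (1 : F) • (1 : Matrix (Fin 3) (Fin 3) F)) :=
    (Matrix.isUnit_iff_isUnit_det _).mpr hdet
  have hz : (1 : F) • (1 : Matrix (Fin 3) (Fin 3) F) + (1 - g.trace) • g + (1 : F) • (g * g) = 0 := by
    obtain ⟨u, hu⟩ := hunit
    have := congrArg (fun M => (↑u⁻¹ : Matrix (Fin 3) (Fin 3) F) * M) hfac
    simp only [mul_zero] at this
    rw [← hu, ← Matrix.mul_assoc, Units.inv_mul, Matrix.one_mul] at this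
    exact this
  have := (h1 g hne 1 (1 - g.trace) 1 hz).2.2
  exact one_ne_zero this

end Cfsg.Agent.Lib.Helper44.PU3
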