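import Mathlib
import Cfsg.Prelude.Def_PLocal
import Cfsg.Prelude.Def_Local
import Cfsg.Prelude.Def_LocalEven
import Cfsg.Agent.Lib.Helper14.Holo
import Cfsg.Agent.Lib.Helper14.FF2
import Cfsg.Agent.Lib.Helper14.Tv3
import Cfsg.Agent.Lib.Helper2.S4Sec
import Cfsg.Agent.S0600
import Cfsg.Agent.S0601
import Cfsg.Agent.S0606
import Cfsg.Agent.S0608
import Cfsg.Agent.S0613
import Cfsg.Agent.S0618

set_option autoImplicit false

/-!
# Failure of Thompson factorization in a `2`-solvable group produces a section `S₄` (helper14)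
-/

namespace Cfsg.Agent.Lib.Helper14

open Cfsg

section fourgroup

variable {G : Type*} [Group G]

/-- the elements of a four-group. -/
theorem four_group_mem (W : Subgroup G) (hcard : Nat.card W = 4) (hexp : ∀ w ∈ W, w ^ 2 = 1)
    {w w' : G} (hw : w ∈ W) (hw' : w' ∈ W) (hw1 : w ≠ 1) (hw'1 : w' ≠ 1) (hne : w ≠ w') :
    ∀ z ∈ W, z = 1 ∨ z = w ∨ z = w' ∨ z = w * w' := by
  have hs : ({1, w, w', w * w'} : Set G) ⊆ (W : Set G) := by
    intro z hz
    simp only [Set.mem_insert_iff, Set.mem_singleton_iff] at hz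
    rcases hz with rfl | rfl | rfl | rfl
    · exact W.one_mem
    · exact hw
    · exact hw'
    · exact W.mul_mem hw hw'
  have hwinv : w⁻¹ = w := by
    have := hexp w hw
    rw [pow_two] at this
    exact inv_eq_of_mul_eq_one_left this
  have h1 : w' ≠ w * w' := by
    intro h
    apply hw1
    have : 1 * w' = w * w' := by rw [one_mul]; exact h
    exact (mul_right_cancel this).symm
  have h2 : w ∉ ({w', w * w'} : Set G) := by
    simp only [Set.mem_insert_iff, Set.mem_singleton_iff, not_or]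
    refine ⟨hne, ?_⟩
    intro h
    apply hw'1
    have : w * 1 = w * w' := by rw [mul_one]; exact h
    exact (mul_left_cancel this).symm
  have h3 : (1 : G) ∉ ({w, w', w * w'} : Set G) := by
    simp only [Set.mem_insert_iff, Set.mem_singleton_iff, not_or]
    refine ⟨fun h => hw1 h.symm, fun h => hw'1 h.symm, ?_⟩
    intro h
    apply hne
    have : w' = w⁻¹ := (inv_eq_of_mul_eq_one_right h.symm).symm
    rw [this, hwinv]
  have hcard' : ({1, w, w', w * w'} : Set G).ncard = 4 := by
    rw [Set.ncard_insert_of_notMem h3, Set.ncard_insert_of_notMem h2, Set.ncard_pair h1]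
  have hfin : (W : Set G).Finite := by
    apply Set.finite_of_ncard_pos
    rw [← Nat.card_coe_set_eq]
    have : Nat.card (W : Set G) = 4 := hcard
    omega
  have heq : ({1, w, w', w * w'} : Set G) = (W : Set G) := by
    apply Set.eq_of_subset_of_ncard_le hs _ hfin
    rw [hcard', ← Nat.card_coe_set_eq]
    exact hcard.le
  intro z hz
  have hz' : z ∈ ({1, w, w', w * w'} : Set G) := by rw [heq]; exact hz
  simpa only [Set.mem_insert_iff, Set.mem_singleton_iff] using hz'

/-- an element normalizing a four-group, whose cube centralizes it, and which does not centralize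
it, has no nontrivial fixed point on it. -/
theorem fpf_of_card_four (W : Subgroup G) (y : G) (hcard : Nat.card W = 4)
    (hexp : ∀ w ∈ W, w ^ 2 = 1) (hy : y ∈ Subgroup.normalizer (W : Set G))
    (hy3 : ∀ w ∈ W, y ^ 3 * w = w * y ^ 3) (hyn : ¬ ∀ w ∈ W, y * w = w * y) :
    ∀ w ∈ W, w * y = y * w → w = 1 := by
  intro w hw hwy
  by_contra hw1
  apply hyn
  intro w' hw'
  by_contra hw'y
  have hw'1 : w' ≠ 1 := by
    rintro rfl
    exact hw'y (by rw [mul_one, one_mul])
  have hne : w ≠ w' := by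
    rintro rfl
    exact hw'y hwy.symm
  have hmem : y * w' * y⁻¹ ∈ W := (Subgroup.mem_normalizer_iff.mp hy w').mp hw'
  rcases four_group_mem W hcard hexp hw hw' hw1 hw'1 hne _ hmem with h | h | h | h
  · apply hw'1
    have : y * w' = y := by
      have := congrArg (· * y) h
      simpa using this
    exact mul_eq_left.mp this
  · apply hne
    have h1 : y * w' = w * y := by
      have := congrArg (· * y) h
      simpa using this
    rw [hwy] at h1
    exact (mul_left_cancel h1).symm
  · apply hw'y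
    have := congrArg (· * y) h
    simpa using this
  · -- `y w' y⁻¹ = w w'`
    have h1 : y * w' = w * w' * y := by
      have := congrArg (· * y) h
      simpa using this
    have hw2 : w * w = 1 := by rw [← pow_two]; exact hexp w hw
    have h2 : y ^ 2 * w' = w' * y ^ 2 := by
      calc y ^ 2 * w' = y * (y * w') := by rw [pow_two, mul_assoc]
        _ = y * (w * w' * y) := by rw [h1]
        _ = (y * w) * w' * y := by group
        _ = (w * y) * w' * y := by rw [hwy]
        _ = w * (y * w') * y := by group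
        _ = w * (w * w' * y) * y := by rw [h1]
        _ = (w * w) * w' * y ^ 2 := by rw [pow_two]; simp only [mul_assoc]
        _ = w' * y ^ 2 := by rw [hw2, one_mul]
    have h3 := hy3 w' hw'
    apply hw'y
    have h4 : y * w' * y ^ 2 = w' * y * y ^ 2 := by
      calc y * w' * y ^ 2 = y * (w' * y ^ 2) := by group
        _ = y * (y ^ 2 * w') := by rw [h2]
        _ = y ^ 3 * w' := by group
        _ = w' * y ^ 3 := h3
        _ = w' * y * y ^ 2 := by group
    exact mul_right_cancel h4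

end fourgroup

section pull

variable {G : Type*} [Group G] (V : Subgroup G) [V.Normal]

/-- the subgroup of `V` corresponding to a subgroup of the copy of `V` in the holomorph. -/
def holoPull (W : Subgroup (Holo V)) : Subgroup G :=
  (W.comap (SemidirectProduct.inl : ↥V →* Holo V)).map V.subtype

theorem mem_holoPull {W : Subgroup (Holo V)} {w : G} :
    w ∈ holoPull V W ↔ ∃ hv : w ∈ V, (SemidirectProduct.inl ⟨w, hv⟩ : Holo V) ∈ W := by
  constructor
  · rintro ⟨v, hv, rfl⟩
    exact ⟨v.2, hv⟩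
  · rintro ⟨hv, h⟩
    exact ⟨⟨w, hv⟩, h, rfl⟩

theorem holoPull_card {W : Subgroup (Holo V)} (hW : W ≤ holoV V) :
    Nat.card (holoPull V W) = Nat.card W := by
  unfold holoPull
  rw [Subgroup.card_map_of_injective V.subtype_injective]
  have h1 : (W.comap (SemidirectProduct.inl : ↥V →* Holo V)).map SemidirectProduct.inl = W := by
    rw [Subgroup.map_comap_eq, inf_eq_right]
    exact hW
  rw [← Subgroup.card_map_of_injective
    (SemidirectProduct.inl_injective (φ := MonoidHom.id (MulAut ↥V))), h1]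

theorem holo_comm_iff (g : G) (v : ↥V) :
    holoHom V g * SemidirectProduct.inl v = SemidirectProduct.inl v * holoHom V g ↔
      g * (v : G) = v * g := by
  have h1 := holo_conj V g v
  constructor
  · intro h
    rw [h, mul_inv_cancel_right] at h1
    have h2 := SemidirectProduct.inl_injective h1
    have h3 : (v : G) = g * v * g⁻¹ := by
      have := congrArg Subtype.val h2
      rw [MulAut.conjNormal_apply] at this
      exact this
    calc g * (v : G) = g * v * g⁻¹ * g := by group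
      _ = v * g := by rw [← h3]
  · intro h
    have h2 : MulAut.conjNormal g v = v := by
      apply Subtype.ext
      rw [MulAut.conjNormal_apply, h, mul_inv_cancel_right]
    rw [h2] at h1
    calc holoHom V g * SemidirectProduct.inl v
        = holoHom V g * SemidirectProduct.inl v * (holoHom V g)⁻¹ * holoHom V g := by group
      _ = SemidirectProduct.inl v * holoHom V g := by rw [h1]

theorem holoPull_normalizer [Finite G] {W : Subgroup (Holo V)} {g : G}
    (hg : holoHom V g ∈ Subgroup.normalizer (W : Set (Holo V))) :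
    g ∈ Subgroup.normalizer (holoPull V W : Set G) := by
  apply mem_normalizer_of_conj_mem
  intro w hw
  rw [mem_holoPull] at hw ⊢
  obtain ⟨hv, h⟩ := hw
  have hv' : g * w * g⁻¹ ∈ V := (inferInstance : V.Normal).conj_mem w hv g
  refine ⟨hv', ?_⟩
  have h1 := (Subgroup.mem_normalizer_iff.mp hg _).mp h
  rw [holo_conj] at h1
  exact h1

end pull

section main

variable {G : Type*} [Group G] [Finite G]

set_option maxRecDepth 100000 in
theorem SL2_two_order3 : ∀ S T : Matrix.SpecialLinearGroup (Fin 2) (ZMod 2), S * S = 1 → T * T = 1 →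
    S ≠ 1 → T ≠ 1 → S ≠ T → (S * T) ^ 3 = 1 ∧ S * T ≠ 1 := by
  decide

/-- **Failure of Thompson factorization gives `S₄`**: a `2`-solvable group with `O_{2'}(G) = 1`
which is not Thompson factorizable has a section isomorphic to `S₄`. -/
theorem involves_S4_of_not_factorizable (hsep : IsPSolvable 2 G) (hO : pPrimeCore 2 G = ⊥)
    (hnf : ¬ IsThompsonFactorizable 2 G) : Involves (Equiv.Perm (Fin 4)) G := by
  haveI : Fact (Nat.Prime 2) := ⟨Nat.prime_two⟩
  have hc : Subgroup.centralizer (pCore 2 G : Set G) ≤ pCore 2 G :=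
    Cfsg.Agent.Lib.Helper40.centralizer_pCore_le hsep hO
  obtain ⟨hVn, hVea, -⟩ := Cfsg.Agent.S0601.result (G := G) (p := 2) hc
  obtain ⟨V, hV⟩ : ∃ V : Subgroup G, V = ⨆ S : Sylow 2 G,
    omegaOne 2 ((S : Subgroup G) ⊓ Subgroup.centralizer ((S : Subgroup G) : Set G)) := ⟨_, rfl⟩
  rw [← hV] at hVn hVea
  haveI : V.Normal := hVn
  obtain ⟨C, hC⟩ : ∃ C : Subgroup G, C = Subgroup.centralizer (V : Set G) := ⟨_, rfl⟩
  obtain ⟨J, hJ⟩ : ∃ J : Subgroup G, J = thompsonSubgroup 2 G := ⟨_, rfl⟩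
  have hgen : V = ⨆ S : Sylow 2 G, V ⊓ Subgroup.centralizer ((S : Subgroup G) : Set G) := by
    apply le_antisymm
    · conv_lhs => rw [hV]
      refine iSup_le fun S => ?_
      refine le_trans ?_ (le_iSup (fun S : Sylow 2 G =>
        V ⊓ Subgroup.centralizer ((S : Subgroup G) : Set G)) S)
      refine le_inf ?_ ?_
      · rw [hV]
        exact le_iSup (fun S : Sylow 2 G => omegaOne 2 ((S : Subgroup G) ⊓
          Subgroup.centralizer ((S : Subgroup G) : Set G))) S
      · exact (omegaOne_le _).trans inf_le_right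
    · exact iSup_le fun S => inf_le_left
  have hOq : pCore 2 (G ⧸ Subgroup.centralizer (V : Set G)) = ⊥ :=
    Cfsg.Agent.S0600.result V hVea hgen
  have hJC : ¬ J ≤ C := by
    intro h
    apply hnf
    apply (Cfsg.Agent.S0608.result hO).mpr
    rw [← hV, ← hC, ← hJ]
    exact h
  -- transfer to the holomorph
  obtain ⟨τ, hτ⟩ : ∃ τ : G →* Holo V, τ = holoHom V := ⟨_, rfl⟩
  obtain ⟨ℍ, hℍ⟩ : ∃ ℍ : Subgroup (Holo V), ℍ = J.map τ := ⟨_, rfl⟩
  have hHV : ℍ ≤ Subgroup.normalizer (holoV V : Set (Holo V)) := by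
    rw [Subgroup.normalizer_eq_top_iff.mpr (holoV_normal V)]
    exact le_top
  have hf : ℍ ⊓ Subgroup.centralizer (holoV V : Set (Holo V)) = ⊥ := by
    rw [eq_bot_iff, ← holo_faithful V, hℍ, hτ]
    exact inf_le_inf_right _ (Subgroup.map_le_range _ _)
  have hsol : IsPSolvable 2 ↥ℍ := by
    rw [hℍ]
    exact isPSolvable_map (τ.subgroupMap J) (τ.subgroupMap_surjective J)
      (isPSolvable_subgroup hsep J)
  have hcore : pCore 2 ↥ℍ = ⊥ := by
    rw [hℍ, hτ, hJ]
    exact Cfsg.Agent.S0618.pCore_map_thompson V hOq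
  have hS1 : Subgroup.centralizer (pPrimeCore 2 ↥ℍ : Set ↥ℍ) ≤ pPrimeCore 2 ↥ℍ :=
    centralizer_pPrimeCore_le hsol hcore
  have hS3 : ℍ = ⨆ A : {A : Subgroup (Holo V) // A ≤ ℍ ∧ IsBestOffenderOn 2 (holoV V) A},
      (A : Subgroup (Holo V)) := by
    apply le_antisymm
    · conv_lhs => rw [hℍ]
      rw [Subgroup.map_le_iff_le_comap, hJ]
      unfold thompsonSubgroup
      apply sSup_le
      intro A hA
      rw [← Subgroup.map_le_iff_le_comap]
      refine le_iSup (fun A : {A : Subgroup (Holo V) // A ≤ ℍ ∧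
        IsBestOffenderOn 2 (holoV V) A} => (A : Subgroup (Holo V)))
        ⟨A.map τ, ?_, ?_⟩
      · rw [hℍ, hJ]
        exact Subgroup.map_mono (le_sSup hA)
      · rw [hτ]
        exact holo_bo V A (Cfsg.Agent.S0606.result V hVea A hA)
    · exact iSup_le fun A => A.2.1
  have hker : ∀ x : G, τ x = 1 ↔ x ∈ C := by
    intro x
    rw [hC, ← holoHom_ker V, MonoidHom.mem_ker, hτ]
  have hH1 : ℍ ≠ ⊥ := by
    intro h
    apply hJC
    intro x hx
    have h1 : τ x ∈ ℍ := by rw [hℍ]; exact ⟨x, hx, rfl⟩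
    rw [h, Subgroup.mem_bot] at h1
    exact (hker x).mp h1
  have S := FFSetup.of_hyp (holoV V) ℍ (holoV_ea V hVea) hHV hf hS1
  -- a maximal elementary abelian subgroup acting nontrivially
  obtain ⟨A, hA, hAC⟩ : ∃ A ∈ maxElementaryAbelianSubgroups 2 G, ¬ A ≤ C := by
    by_contra h
    apply hJC
    rw [hJ]
    apply sSup_le
    intro A hA
    by_contra hAC
    exact h ⟨A, hA, hAC⟩
  have hAbo : IsBestOffenderOn 2 (holoV V) (A.map τ) := by
    rw [hτ]
    exact holo_bo V A (Cfsg.Agent.S0606.result V hVea A hA)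
  have hAH : A.map τ ≤ ℍ := by
    rw [hℍ, hJ]
    exact Subgroup.map_mono (le_sSup hA)
  have hA1 : A.map τ ≠ ⊥ := by
    intro h
    apply hAC
    intro x hx
    have h1 : τ x ∈ A.map τ := ⟨x, hx, rfl⟩
    rw [h, Subgroup.mem_bot] at h1
    exact (hker x).mp h1
  obtain ⟨k, B, hB, -, hsupB⟩ := S.bo_decomp _ (A.map τ) rfl hAH hAbo
  have hk : 0 < k := by
    rcases Nat.eq_zero_or_pos k with h0 | h0
    · exfalso
      apply hA1
      rw [← hsupB]
      subst h0
      exact iSup_of_empty _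
    · exact h0
  obtain ⟨hB₀A, hB₀bo, hB₀card⟩ := hB ⟨0, hk⟩
  obtain ⟨B₀, hB₀⟩ : ∃ B₀ : Subgroup (Holo V), B₀ = B ⟨0, hk⟩ := ⟨_, rfl⟩
  rw [← hB₀] at hB₀A hB₀bo hB₀card
  have hB₀H : B₀ ≤ ℍ := hB₀A.trans hAH
  obtain ⟨hVB, hmin⟩ := S.bo_prime_min hB₀H hB₀card
  obtain ⟨b, hbB, hb1, hb2, hBz, -⟩ := S.bo_min_card' hB₀H hB₀bo hVB hmin
  obtain ⟨a, haA, rfl⟩ := hB₀A hbB
  have ha2 : a ^ 2 = 1 := hA.1.2 a haA
  have hainv : a⁻¹ = a := by
    rw [pow_two] at ha2
    exact inv_eq_of_mul_eq_one_left ha2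
  obtain ⟨x, hxM, hxb⟩ : ∃ x ∈ (pPrimeCore 2 ↥ℍ).map ℍ.subtype, ¬ τ a * x = x * τ a := by
    by_contra h
    apply S.not_cent (hB₀H hbB) hb2 hb1
    intro m hm
    by_contra hm'
    exact h ⟨m, hm, hm'⟩
  have hxB : x ∉ Subgroup.centralizer (B₀ : Set (Holo V)) := by
    intro hx
    exact hxb (Subgroup.mem_centralizer_iff.mp hx _ hbB)
  obtain ⟨-, hcard4, hfaith, ⟨iso⟩⟩ := Cfsg.Agent.S0613.result (holoV V) ℍ (holoV_ea V hVea) hHV
    hf hS1 hS3 hH1 B₀ hB₀H hB₀bo hVB hmin x hxM hxB
  obtain ⟨g, hgJ, rfl⟩ : ∃ g ∈ J, τ g = x := by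
    have : x ∈ ℍ := Subgroup.map_subtype_le _ hxM
    rw [hℍ] at this
    exact this
  obtain ⟨L, hL⟩ : ∃ L : Subgroup (Holo V),
    L = B₀ ⊔ B₀.map (MulAut.conj (τ g)).toMonoidHom := ⟨_, rfl⟩
  rw [← hL] at hcard4 hfaith iso
  obtain ⟨W, hW⟩ : ∃ W : Subgroup (Holo V), W = ⁅holoV V, L⁆ := ⟨_, rfl⟩
  rw [← hW] at hcard4 hfaith
  -- the second involution
  obtain ⟨a', ha'⟩ : ∃ a' : G, a' = g * a * g⁻¹ := ⟨_, rfl⟩
  have hτa' : τ a' = τ g * τ a * (τ g)⁻¹ := by rw [ha', map_mul, map_mul, map_inv]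
  have ha'2 : a' * a' = 1 := by
    rw [ha']
    calc g * a * g⁻¹ * (g * a * g⁻¹) = g * (a * a) * g⁻¹ := by group
      _ = 1 := by rw [← pow_two, ha2]; group
  have hbL : τ a ∈ L := by rw [hL]; exact le_sup_left (α := Subgroup (Holo V)) hbB
  have hb'L : τ a' ∈ L := by
    rw [hL, hτa']
    exact le_sup_right (α := Subgroup (Holo V)) ⟨τ a, hbB, rfl⟩
  have hne : τ a ≠ τ a' := by
    intro h
    apply hxb
    rw [hτa'] at h
    calc τ a * τ g = τ g * τ a * (τ g)⁻¹ * τ g := by rw [← h]
      _ = τ g * τ a := by group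
  obtain ⟨hu3, hu1⟩ : (τ a * τ a') ^ 3 = 1 ∧ τ a * τ a' ≠ 1 := by
    have key := SL2_two_order3 (iso ⟨τ a, hbL⟩) (iso ⟨τ a', hb'L⟩)
      (by rw [← map_mul]
          have : (⟨τ a, hbL⟩ : ↥L) * ⟨τ a, hbL⟩ = 1 := by
            apply Subtype.ext
            show τ a * τ a = 1
            rw [← map_mul, ← pow_two, ha2, map_one]
          rw [this, map_one])
      (by rw [← map_mul]
          have : (⟨τ a', hb'L⟩ : ↥L) * ⟨τ a', hb'L⟩ = 1 := by
            apply Subtype.ext
            show τ a' * τ a' = 1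
            rw [← map_mul, ha'2, map_one]
          rw [this, map_one])
      (by intro h
          rw [← map_one iso] at h
          exact hb1 (congrArg Subtype.val (iso.injective h)))
      (by intro h
          rw [← map_one iso] at h
          have h1 : τ a' = 1 := congrArg Subtype.val (iso.injective h)
          apply hb1
          rw [hτa'] at h1
          calc τ a = (τ g)⁻¹ * (τ g * τ a * (τ g)⁻¹) * τ g := by group
            _ = 1 := by rw [h1]; group)
      (by intro h
          exact hne (congrArg Subtype.val (iso.injective h)))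
    rw [← map_mul, ← map_pow] at key
    constructor
    · have h1 := key.1
      rw [← map_one iso] at h1
      exact congrArg Subtype.val (iso.injective h1)
    · intro h
      apply key.2
      have : (⟨τ a, hbL⟩ : ↥L) * ⟨τ a', hb'L⟩ = 1 := Subtype.ext h
      rw [this, map_one]
  -- the element of odd order
  obtain ⟨u, hu⟩ : ∃ u : G, u = a * a' := ⟨_, rfl⟩
  have hτu : τ u = τ a * τ a' := by rw [hu, map_mul]
  have hau : a * u * a⁻¹ = u⁻¹ := by
    rw [hu, hainv]
    have : (a * a')⁻¹ = a' * a := by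
      apply inv_eq_of_mul_eq_one_right
      calc a * a' * (a' * a) = a * (a' * a') * a := by group
        _ = 1 := by rw [ha'2, mul_one, ← pow_two, ha2]
    rw [this]
    calc a * (a * a') * a = (a * a) * a' * a := by group
      _ = a' * a := by rw [← pow_two, ha2, one_mul]
  have hupos : 0 < orderOf u := orderOf_pos u
  obtain ⟨e, m', hm', hm⟩ := Nat.exists_eq_pow_mul_and_not_dvd hupos.ne' 3 (by norm_num)
  obtain ⟨y, hy⟩ : ∃ y : G, y = u ^ m' := ⟨_, rfl⟩
  have hy3 : y ^ 3 ^ e = 1 := by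
    rw [hy, ← pow_mul, mul_comm, ← hm, pow_orderOf_eq_one]
  have hyodd : (orderOf y).Coprime 2 := by
    have h1 : orderOf y ∣ 3 ^ e := orderOf_dvd_of_pow_eq_one hy3
    exact Nat.Coprime.coprime_dvd_left h1 (Nat.Coprime.pow_left e (by norm_num))
  have hτy : τ y = (τ a * τ a') ^ m' := by rw [hy, map_pow, hτu]
  have hτy1 : τ y ≠ 1 := by
    intro h
    rw [hτy] at h
    have h1 : orderOf (τ a * τ a') ∣ m' := orderOf_dvd_of_pow_eq_one h
    have h2 : orderOf (τ a * τ a') ∣ 3 := orderOf_dvd_of_pow_eq_one hu3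
    rcases (Nat.dvd_prime Nat.prime_three).mp h2 with h3 | h3
    · exact hu1 (orderOf_eq_one_iff.mp h3)
    · rw [h3] at h1
      exact hm' h1
  have hτy3 : τ y ^ 3 = 1 := by
    rw [hτy, ← pow_mul, mul_comm, pow_mul, hu3, one_pow]
  have hτyL : τ y ∈ L := by
    rw [hτy]
    exact L.pow_mem (L.mul_mem hbL hb'L) _
  have hay : a * y * a⁻¹ = y⁻¹ := by
    rw [hy, ← conj_pow, hau, inv_pow]
  -- the four-group
  have hWV : W ≤ holoV V := by
    rw [hW]
    exact Subgroup.commutator_le_left (holoV V) L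
  have hLW : L ≤ Subgroup.normalizer (W : Set (Holo V)) := by
    rw [hW]
    intro l hl
    apply mem_normalizer_of_conj_mem
    intro w hw
    have h1 : (MulAut.conj l).toMonoidHom w ∈ (⁅holoV V, L⁆).map (MulAut.conj l).toMonoidHom :=
      Subgroup.mem_map_of_mem _ hw
    rw [Subgroup.map_commutator] at h1
    have h2 : (holoV V).map (MulAut.conj l).toMonoidHom ≤ holoV V := by
      rintro _ ⟨v, hv, rfl⟩
      exact (holoV_normal V).conj_mem v hv l
    have h3 : L.map (MulAut.conj l).toMonoidHom ≤ L := by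
      rintro _ ⟨v, hv, rfl⟩
      exact L.mul_mem (L.mul_mem hl hv) (L.inv_mem hl)
    exact Subgroup.commutator_mono h2 h3 h1
  have hWexp : ∀ w ∈ W, w ^ 2 = 1 := fun w hw => (holoV_ea V hVea).2 w (hWV hw)
  have hnc : ∀ l ∈ L, l ≠ 1 → ¬ ∀ w ∈ W, l * w = w * l := by
    intro l hl hl1 hcomm
    apply hl1
    have : l ∈ L ⊓ Subgroup.centralizer (W : Set (Holo V)) := by
      refine Subgroup.mem_inf.mpr ⟨hl, ?_⟩
      rw [Subgroup.mem_centralizer_iff]
      intro w hw
      exact (hcomm w hw).symm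
    rw [hfaith, Subgroup.mem_bot] at this
    exact this
  obtain ⟨W₀, hW₀⟩ : ∃ W₀ : Subgroup G, W₀ = holoPull V W := ⟨_, rfl⟩
  have hW₀card : Nat.card W₀ = 4 := by
    rw [hW₀, holoPull_card V hWV, hcard4]
    norm_num
  have hyN : y ∈ Subgroup.normalizer (W₀ : Set G) := by
    rw [hW₀]
    apply holoPull_normalizer
    rw [← hτ]
    exact hLW hτyL
  have haN : a ∈ Subgroup.normalizer (W₀ : Set G) := by
    rw [hW₀]
    apply holoPull_normalizer
    rw [← hτ]
    exact hLW hbL
  have hay' : a ∈ Subgroup.normalizer (Subgroup.zpowers y : Set G) := by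
    apply mem_normalizer_of_conj_mem
    intro z hz
    obtain ⟨i, rfl⟩ := Subgroup.mem_zpowers_iff.mp hz
    have : a * y ^ i * a⁻¹ = (y ^ i)⁻¹ := by
      have h1 : a * y ^ i * a⁻¹ = (a * y * a⁻¹) ^ i := by
        rw [← MulAut.conj_apply, map_zpow, MulAut.conj_apply]
      rw [h1, hay, inv_zpow]
    rw [this]
    exact Subgroup.inv_mem _ (Subgroup.zpow_mem_zpowers y i)
  -- fixed points
  have hfix : ∀ w ∈ W₀, w * y = y * w → w = 1 := by
    intro w hw hwy
    rw [hW₀, mem_holoPull] at hw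
    obtain ⟨hv, hwW⟩ := hw
    have h1 : (SemidirectProduct.inl ⟨w, hv⟩ : Holo V) * τ y = τ y * SemidirectProduct.inl ⟨w, hv⟩ := by
      rw [hτ]
      exact ((holo_comm_iff V y ⟨w, hv⟩).mpr hwy.symm).symm
    have h2 := fpf_of_card_four W (τ y) (by rw [hcard4]; norm_num) hWexp (hLW hτyL)
      (by intro w' _; rw [hτy3, one_mul, mul_one]) (hnc _ hτyL hτy1) _ hwW h1
    have h3 : (SemidirectProduct.inl ⟨w, hv⟩ : Holo V) = SemidirectProduct.inl 1 := by
      rw [h2, map_one]
    exact congrArg Subtype.val (SemidirectProduct.inl_injective h3)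
  have ha2' : a ^ 2 ∈ Subgroup.centralizer (W₀ : Set G) := by
    rw [ha2]; exact Subgroup.one_mem _
  have han : a ∉ Subgroup.centralizer (W₀ : Set G) := by
    intro haC
    apply hnc (τ a) hbL hb1
    intro w hw
    obtain ⟨v, rfl⟩ := hWV hw
    rw [hτ]
    apply (holo_comm_iff V a v).mpr
    have hvW₀ : (v : G) ∈ W₀ := by
      rw [hW₀, mem_holoPull]
      exact ⟨v.2, hw⟩
    exact (Subgroup.mem_centralizer_iff.mp haC _ hvW₀).symm
  exact Cfsg.Agent.Lib.Helper2.involves_S4 W₀ y a hW₀card hyN haN hay' hyodd hfix ha2' han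

end main

end Cfsg.Agent.Lib.Helper14
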