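import Mathlib
import Cfsg.Agent.Lib.Helper14.Replacement2

set_option autoImplicit false

/-!
# The replacement lemmas for a `p`-group of operators (helper14)

Versions of the nilpotent-action lemmas of `Replacement2` in which the acting group is only
assumed to consist of `p`-elements modulo the centralizer of `V`.
-/

namespace Cfsg.Agent.Lib.Helper14

open Cfsg
open scoped commutatorElement

section claimPg

variable {G : Type*} [Group G] [Finite G] {p : ℕ} [Fact p.Prime]

theorem exists_ne_one_comm_eq_one_pg {V W : Subgroup G} (hV : IsElementaryAbelian p V) (hWV : W ≤ V)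
    (hW : W ≠ ⊥) {a : G} (haW : a ∈ Subgroup.normalizer (W : Set G))
    (hap : ∃ n : ℕ, a ^ p ^ n ∈ Subgroup.centralizer (V : Set G)) : ∃ w ∈ W, w ≠ 1 ∧ ⁅w, a⁆ = 1 := by
  classical
  have : Fintype W := Fintype.ofFinite W
  have haW' : a⁻¹ ∈ Subgroup.normalizer (W : Set G) := Subgroup.inv_mem _ haW
  let σ : Equiv.Perm W :=
    { toFun := fun w => ⟨a * w * a⁻¹, conj_mem_of_normalizer w.2 haW⟩
      invFun := fun w => ⟨a⁻¹ * w * a⁻¹⁻¹, conj_mem_of_normalizer w.2 haW'⟩
      left_inv := by intro w; ext; simp [mul_assoc]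
      right_inv := by intro w; ext; simp [mul_assoc] }
  have hpow : ∀ n : ℕ, ∀ w : W, ((σ ^ n) w : G) = a ^ n * w * (a ^ n)⁻¹ := by
    intro n
    induction n with
    | zero => intro w; simp
    | succ n ih =>
      intro w
      rw [pow_succ', Equiv.Perm.mul_apply]
      show a * ((σ ^ n) w : G) * a⁻¹ = _
      rw [ih, pow_succ']
      group
  obtain ⟨n, hap⟩ := hap
  have hσ : σ ^ p ^ n = 1 := by
    ext w
    rw [hpow, Equiv.Perm.one_apply]
    have := Subgroup.mem_centralizer_iff.mp hap w (hWV w.2)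
    rw [← this, mul_inv_cancel_right]
  have hWp : IsPGroup p W := ea_isPGroup (ea_of_le hV hWV)
  have hdvd : p ∣ Fintype.card W := by
    rw [← Nat.card_eq_fintype_card]
    rcases hWp.card_eq_or_dvd with h | h
    · exact absurd (Subgroup.card_eq_one.mp h) hW
    · exact h
  have h1 : σ 1 = 1 := by ext; simp [σ]
  obtain ⟨b, hb1, hb2⟩ := Equiv.Perm.exists_fixed_point_of_prime' hdvd hσ h1
  refine ⟨b, b.2, fun h => hb2 (Subtype.ext h), ?_⟩
  have h2 : a * (b : G) * a⁻¹ = b := congrArg Subtype.val hb1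
  rw [commutatorElement_eq_one_iff_mul_comm]
  calc (b : G) * a = a * (b : G) * a⁻¹ * a := by rw [h2]
    _ = a * b := by group

theorem eq_bot_of_le_comm_self_pg {V A : Subgroup G} (hV : IsElementaryAbelian p V)
    (hAV : A ≤ Subgroup.normalizer (V : Set G))
    (hab : ⁅A, A⁆ ≤ Subgroup.centralizer (V : Set G))
    (hp : ∀ a ∈ A, ∃ n : ℕ, a ^ p ^ n ∈ Subgroup.centralizer (V : Set G)) :
    ∀ W : Subgroup G, W ≤ V → A ≤ Subgroup.normalizer (W : Set G) → W ≤ ⁅W, A⁆ → W = ⊥ := by
  have hVc := ea_comm hV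
  have key : ∀ n : ℕ, ∀ W : Subgroup G, Nat.card W = n → W ≤ V →
      A ≤ Subgroup.normalizer (W : Set G) → W ≤ ⁅W, A⁆ → W = ⊥ := by
    intro n
    induction n using Nat.strong_induction_on with
    | _ n ih =>
      intro W hn hWV hAW hWW
      by_contra hne
      have hWc : ∀ x ∈ W, ∀ y ∈ W, x * y = y * x := fun x hx y hy => hVc x (hWV hx) y (hWV hy)
      have hcent : ∀ a ∈ A, ∀ w ∈ W, ⁅w, a⁆ = 1 := by
        intro a ha
        have haW := hAW ha
        have haV := hAV ha
        let ψ : W →* W :=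
          { toFun := fun w => ⟨⁅(w : G), a⁆, comm_mem_of_normalizer w.2 haW⟩
            map_one' := by ext; simp
            map_mul' := by
              intro x y
              ext
              exact comm_mul_left_of_comm hWc x.2 y.2 haW }
        set Wa := ψ.range.map W.subtype with hWa
        have hmemWa : ∀ w ∈ W, ⁅w, a⁆ ∈ Wa := fun w hw =>
          ⟨ψ ⟨w, hw⟩, ⟨⟨w, hw⟩, rfl⟩, rfl⟩
        have hWa_elim : ∀ x ∈ Wa, ∃ w ∈ W, x = ⁅w, a⁆ := by
          rintro _ ⟨_, ⟨w, rfl⟩, rfl⟩
          exact ⟨w, w.2, rfl⟩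
        have hWa_le : Wa ≤ W := Subgroup.map_subtype_le _
        have hcard : Nat.card Wa < Nat.card W := by
          have e1 : Nat.card Wa = Nat.card ψ.range :=
            Subgroup.card_map_of_injective W.subtype_injective
          have e2 : Nat.card ψ.ker * Nat.card ψ.range = Nat.card W := by
            rw [← Subgroup.index_ker]; exact Subgroup.card_mul_index _
          obtain ⟨b, hbW, hb1, hb2⟩ := exists_ne_one_comm_eq_one_pg hV hWV hne haW (hp a ha)
          have hker : ψ.ker ≠ ⊥ := by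
            intro hk
            have : (⟨b, hbW⟩ : W) ∈ ψ.ker := by
              rw [MonoidHom.mem_ker]; exact Subtype.ext hb2
            rw [hk] at this
            exact hb1 (congrArg Subtype.val (Subgroup.mem_bot.mp this))
          have h2 : 1 < Nat.card ψ.ker := (Subgroup.one_lt_card_iff_ne_bot _).mpr hker
          have h3 : 0 < Nat.card ψ.range := Nat.card_pos
          rw [e1]
          nlinarith
        have hWaA : A ≤ Subgroup.normalizer (Wa : Set G) := by
          apply le_normalizer_of_conj_mem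
          intro b hb x hx
          obtain ⟨w, hw, rfl⟩ := hWa_elim x hx
          rw [conj_comm_eq hab (hWV hw) ha hb (hAV hb)]
          exact hmemWa _ (conj_mem_of_normalizer hw (hAW hb))
        have hcomW : ⁅W, A⁆ ≤ W := by
          rw [Subgroup.commutator_le]
          intro w hw b hb
          exact comm_mem_of_normalizer hw (hAW hb)
        have hWaWa : Wa ≤ ⁅Wa, A⁆ := by
          intro x hx
          obtain ⟨w, hw, rfl⟩ := hWa_elim x hx
          have hw' : w ∈ ⁅W, A⁆ := hWW hw
          rw [Subgroup.commutator_def] at hw'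
          have hcl : Subgroup.closure {g | ∃ g₁ ∈ W, ∃ g₂ ∈ A, ⁅g₁, g₂⁆ = g} ≤ V :=
            le_trans (le_of_eq (Subgroup.commutator_def W A).symm) (hcomW.trans hWV)
          induction hw' using Subgroup.closure_induction with
          | mem y hy =>
            obtain ⟨w₁, hw₁, b, hb, rfl⟩ := hy
            rw [comm_comm_swap hVc hAV hab (hWV hw₁) hb ha]
            exact Subgroup.commutator_mem_commutator (hmemWa w₁ hw₁) hb
          | one => rw [commutatorElement_one_left]; exact Subgroup.one_mem _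
          | mul y z hy hz ihy ihz =>
            have hyW : y ∈ W := hcomW (by rw [Subgroup.commutator_def]; exact hy)
            have hzW : z ∈ W := hcomW (by rw [Subgroup.commutator_def]; exact hz)
            rw [comm_mul_left_of_comm hVc (hcl hy) (hcl hz) haV]
            exact Subgroup.mul_mem _ (ihy hyW (hmemWa y hyW)) (ihz hzW (hmemWa z hzW))
          | inv y hy ihy =>
            have hyW : y ∈ W := hcomW (by rw [Subgroup.commutator_def]; exact hy)
            rw [comm_inv_left_of_comm hVc (hcl hy) haV]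
            exact Subgroup.inv_mem _ (ihy hyW (hmemWa y hyW))
        have hWa_bot : Wa = ⊥ :=
          ih (Nat.card Wa) (hn ▸ hcard) Wa rfl (hWa_le.trans hWV) hWaA hWaWa
        intro w hw
        have := hmemWa w hw
        rw [hWa_bot] at this
        exact Subgroup.mem_bot.mp this
      have hbot : ⁅W, A⁆ = ⊥ := by
        rw [eq_bot_iff, Subgroup.commutator_le]
        intro w hw a ha
        exact Subgroup.mem_bot.mpr (hcent a ha w hw)
      rw [hbot] at hWW
      exact hne (eq_bot_iff.mpr hWW)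
  intro W
  exact key _ W rfl

theorem comm_eq_bot_of_le_comm_sup_cv_pg {V A : Subgroup G} (hV : IsElementaryAbelian p V)
    (hAV : A ≤ Subgroup.normalizer (V : Set G))
    (hab : ⁅A, A⁆ ≤ Subgroup.centralizer (V : Set G))
    (hp : ∀ a ∈ A, ∃ n : ℕ, a ^ p ^ n ∈ Subgroup.centralizer (V : Set G))
    (h : V ≤ ⁅V, A⁆ ⊔ (V ⊓ Subgroup.centralizer (A : Set G))) : ⁅V, A⁆ = ⊥ := by
  have hVc := ea_comm hV
  have hWV : ⁅V, A⁆ ≤ V := by
    rw [Subgroup.commutator_le]
    intro v hv a ha
    exact comm_mem_of_normalizer hv (hAV ha)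
  apply eq_bot_of_le_comm_self_pg hV hAV hab hp _ hWV (Subgroup.normalizer_commutator_ge_right V A)
  rw [Subgroup.commutator_le]
  intro v hv a ha
  obtain ⟨w, hw, c, hc, rfl⟩ := exists_mul_of_mem_sup_abelian hVc hWV inf_le_left (h hv)
  rw [comm_mul_left_of_comm hVc (hWV hw) (Subgroup.mem_inf.mp hc).1 (hAV ha),
    comm_eq_one_of_mem_cv hc ha, mul_one]
  exact Subgroup.commutator_mem_commutator hw ha

theorem replacement_nontrivial_pg {V A : Subgroup G} (hV : IsElementaryAbelian p V)
    (hAV : A ≤ Subgroup.normalizer (V : Set G))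
    (hab : ⁅A, A⁆ ≤ Subgroup.centralizer (V : Set G))
    (hp : ∀ a ∈ A, ∃ n : ℕ, a ^ p ^ n ∈ Subgroup.centralizer (V : Set G)) (U : Subgroup G) (hU : U ≤ V)
    (h : V ⊓ Subgroup.centralizer ((A ⊓ Subgroup.centralizer ((⁅U, A⁆ : Subgroup G) : Set G) : Subgroup G) : Set G) =
        ⁅U, A⁆ ⊔ (V ⊓ Subgroup.centralizer (A : Set G)))
    (hne : ⁅V, A⁆ ≠ ⊥) :
    ⁅V, A ⊓ Subgroup.centralizer ((⁅U, A⁆ : Subgroup G) : Set G)⁆ ≠ ⊥ := by
  intro hbot
  apply hne
  apply comm_eq_bot_of_le_comm_sup_cv_pg hV hAV hab hp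
  have h1 : V ≤ Subgroup.centralizer ((A ⊓ Subgroup.centralizer ((⁅U, A⁆ : Subgroup G) : Set G) : Subgroup G) : Set G) :=
    Subgroup.commutator_eq_bot_iff_le_centralizer.mp hbot
  have h2 : V = ⁅U, A⁆ ⊔ (V ⊓ Subgroup.centralizer (A : Set G)) := by
    rw [← h]; exact (inf_eq_left.mpr h1).symm
  calc V = ⁅U, A⁆ ⊔ (V ⊓ Subgroup.centralizer (A : Set G)) := h2
    _ ≤ ⁅V, A⁆ ⊔ (V ⊓ Subgroup.centralizer (A : Set G)) :=
        sup_le_sup_right (Subgroup.commutator_mono hU le_rfl) _

end claimPg

end Cfsg.Agent.Lib.Helper14
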