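import Cfsg.Agent.Lib.Helper4.TPDefs

/-! Project TP (helper4, S4033), piece FTABS (helper14): an elementary abelian `t`-group acting on
an abelian `t'`-group with all non-identity elements having the same proper fixed-point subgroup
has order dividing `t` (norm trick). -/

set_option autoImplicit false

namespace Cfsg.Agent.Lib.Helper4.TP

universe u

/-- the norm trick: two commuting endomorphisms of order dividing `t` of a commutative `t'`-group
such that every non-trivial product of powers has its fixed points in `A0`: then `A0` is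
everything. -/
theorem ftabs_helper14_norm {A : Type*} [CommGroup A] [Finite A] (t : ℕ) [Fact t.Prime]
    (σ τ : Monoid.End A) (hcomm : σ * τ = τ * σ) (hσ : σ ^ t = 1) (hτ : τ ^ t = 1)
    (hcop : (Nat.card A).Coprime t) (A0 : Subgroup A)
    (hfix : ∀ a b : ZMod t, (a ≠ 0 ∨ b ≠ 0) → ∀ v : A, (σ ^ a.val * τ ^ b.val) v = v → v ∈ A0) :
    ∀ v : A, v ∈ A0 := by
  classical
  have ht : t.Prime := Fact.out
  obtain ⟨P, hP⟩ : ∃ P : ZMod t → ZMod t → Monoid.End A, ∀ a b, P a b = σ ^ a.val * τ ^ b.val :=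
    ⟨_, fun _ _ => rfl⟩
  have hσm : ∀ a b : ZMod t, σ ^ (a + b).val = σ ^ a.val * σ ^ b.val := by
    intro a b
    rw [ZMod.val_add, ← pow_eq_pow_mod _ hσ, pow_add]
  have hτm : ∀ a b : ZMod t, τ ^ (a + b).val = τ ^ a.val * τ ^ b.val := by
    intro a b
    rw [ZMod.val_add, ← pow_eq_pow_mod _ hτ, pow_add]
  have hc : Commute σ τ := hcomm
  have hPmul : ∀ a b c d : ZMod t, P a b * P c d = P (a + c) (b + d) := by
    intro a b c d
    rw [hP, hP, hP, hσm, hτm]
    have h1 : Commute (τ ^ b.val) (σ ^ c.val) := (hc.pow_pow c.val b.val).symm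
    calc σ ^ a.val * τ ^ b.val * (σ ^ c.val * τ ^ d.val)
        = σ ^ a.val * (τ ^ b.val * σ ^ c.val) * τ ^ d.val := by simp only [mul_assoc]
      _ = σ ^ a.val * (σ ^ c.val * τ ^ b.val) * τ ^ d.val := by rw [h1.eq]
      _ = σ ^ a.val * σ ^ c.val * (τ ^ b.val * τ ^ d.val) := by simp only [mul_assoc]
  have hP0 : P 0 0 = 1 := by
    rw [hP, ZMod.val_zero, pow_zero, pow_zero, mul_one]
  have happ : ∀ (a b c d : ZMod t) (v : A), P a b (P c d v) = P (a + c) (b + d) v := by
    intro a b c d v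
    rw [← hPmul]
    rfl
  -- line norms
  have hline : ∀ a b : ZMod t, (a ≠ 0 ∨ b ≠ 0) → ∀ v : A,
      ∏ j : ZMod t, P (j * a) (j * b) v ∈ A0 := by
    intro a b hab v
    apply hfix a b hab
    rw [← hP a b, map_prod]
    have h1 : ∀ j : ZMod t, P a b (P (j * a) (j * b) v) = P ((j + 1) * a) ((j + 1) * b) v := by
      intro j
      rw [happ]
      have e1 : a + j * a = (j + 1) * a := by ring
      have e2 : b + j * b = (j + 1) * b := by ring
      rw [e1, e2]
    simp only [h1]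
    exact Fintype.prod_equiv (Equiv.addRight (1 : ZMod t)) _ _ (fun j => rfl)
  -- the total norm
  have hM : ∀ v : A, ∏ a : ZMod t, ∏ b : ZMod t, P a b v ∈ A0 := by
    intro v
    apply hfix 1 0 (Or.inl one_ne_zero)
    rw [← hP 1 0, map_prod]
    have h1 : ∀ a : ZMod t, P 1 0 (∏ b : ZMod t, P a b v) = ∏ b : ZMod t, P (a + 1) b v := by
      intro a
      rw [map_prod]
      refine Finset.prod_congr rfl fun b _ => ?_
      rw [happ, zero_add, add_comm]
    simp only [h1]
    exact Fintype.prod_equiv (Equiv.addRight (1 : ZMod t)) _ _ (fun j => rfl)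
  intro v
  have hid : (∏ j : ZMod t, P (j * 0) (j * 1) v) *
      ∏ c : ZMod t, ∏ j : ZMod t, P (j * 1) (j * c) v =
      v ^ t * ∏ a : ZMod t, ∏ b : ZMod t, P a b v := by
    rw [Finset.prod_comm]
    simp only [mul_zero, mul_one]
    have hG0 : ∏ c : ZMod t, P 0 ((0 : ZMod t) * c) v = v ^ t := by
      simp only [zero_mul, hP0]
      rw [Finset.prod_const, Finset.card_univ, ZMod.card]
      rfl
    have hGj : ∀ j : ZMod t, j ≠ 0 → ∏ c : ZMod t, P j (j * c) v = ∏ b : ZMod t, P j b v := by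
      intro j hj
      exact Fintype.prod_equiv (Equiv.mulLeft₀ j hj) _ _ (fun c => rfl)
    rw [← Finset.mul_prod_erase Finset.univ (fun j : ZMod t => ∏ c : ZMod t, P j (j * c) v)
        (Finset.mem_univ 0), hG0,
      ← Finset.mul_prod_erase Finset.univ (fun a : ZMod t => ∏ b : ZMod t, P a b v)
        (Finset.mem_univ 0)]
    rw [Finset.prod_congr rfl (fun j hj => hGj j (Finset.ne_of_mem_erase hj))]
    exact mul_left_comm _ _ _
  have hvt : v ^ t ∈ A0 := by
    have h1 := hline 0 1 (Or.inr one_ne_zero) v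
    have h2 : ∏ c : ZMod t, ∏ j : ZMod t, P (j * 1) (j * c) v ∈ A0 :=
      Subgroup.prod_mem _ (fun c _ => hline 1 c (Or.inl one_ne_zero) v)
    have h3 := A0.mul_mem h1 h2
    rw [hid] at h3
    exact (Subgroup.mul_mem_cancel_right A0 (hM v)).mp h3
  have hco : t.Coprime (orderOf v) :=
    (Nat.Coprime.coprime_dvd_left (orderOf_dvd_natCard v) hcop).symm
  obtain ⟨m, hm⟩ := exists_pow_eq_self_of_coprime hco
  rw [← hm]
  exact A0.pow_mem hvt m

/-- conjugation action of the normalizer of `U` on `U` -/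
def ftabs_helper14_conj {G : Type u} [Group G] (U : Subgroup G) :
    ↥(Subgroup.normalizer (U : Set G)) →* Monoid.End ↥U where
  toFun x :=
    { toFun := fun v => ⟨(x : G) * v * (x : G)⁻¹, (Subgroup.mem_normalizer_iff.mp x.2 v).mp v.2⟩
      map_one' := by
        apply Subtype.ext
        show (x : G) * ((1 : ↥U) : G) * (x : G)⁻¹ = ((1 : ↥U) : G)
        rw [OneMemClass.coe_one]
        group
      map_mul' := fun v w => by
        apply Subtype.ext
        show (x : G) * ((v * w : ↥U) : G) * (x : G)⁻¹ =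
          ((x : G) * v * (x : G)⁻¹) * ((x : G) * w * (x : G)⁻¹)
        rw [Subgroup.coe_mul]
        group }
  map_one' := by
    refine MonoidHom.ext fun v => Subtype.ext ?_
    show ((1 : ↥(Subgroup.normalizer (U : Set G))) : G) * v *
      ((1 : ↥(Subgroup.normalizer (U : Set G))) : G)⁻¹ = (v : G)
    rw [OneMemClass.coe_one]
    group
  map_mul' := fun x x' => by
    refine MonoidHom.ext fun v => Subtype.ext ?_
    show ((x * x' : ↥(Subgroup.normalizer (U : Set G))) : G) * v *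
      ((x * x' : ↥(Subgroup.normalizer (U : Set G))) : G)⁻¹ =
        (x : G) * ((x' : G) * v * (x' : G)⁻¹) * (x : G)⁻¹
    rw [Subgroup.coe_mul]
    group

theorem ftabs_helper14_conj_apply {G : Type u} [Group G] (U : Subgroup G)
    (x : ↥(Subgroup.normalizer (U : Set G))) (v : ↥U) :
    ((ftabs_helper14_conj U x v : ↥U) : G) = (x : G) * v * (x : G)⁻¹ := rfl

/-- FTABS -/
theorem ftabs : FTAbsStmt.{u} := by
  intro G _ _ t ht T U U0 y hT hz hyt hTU hUab hcop hU0U hU0c hne hcen hfix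
  haveI : Fact t.Prime := ⟨ht⟩
  by_contra hnd
  have hzc : ∀ g ∈ T, ∀ x : G, x * (g * y * g⁻¹ * y⁻¹) = (g * y * g⁻¹ * y⁻¹) * x :=
    fun g hg x => Subgroup.mem_center_iff.mp (hz g hg) x
  obtain ⟨ψ, hψ⟩ : ∃ ψ : ↥T →* ↥(Subgroup.center G), ∀ g : ↥T,
      ((ψ g : ↥(Subgroup.center G)) : G) = (g : G) * y * (g : G)⁻¹ * y⁻¹ := by
    refine ⟨{ toFun := fun g => ⟨(g : G) * y * (g : G)⁻¹ * y⁻¹, hz g g.2⟩
              map_one' := ?_
              map_mul' := ?_ }, fun g => rfl⟩
    · apply Subtype.ext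
      show ((1 : ↥T) : G) * y * ((1 : ↥T) : G)⁻¹ * y⁻¹ = ((1 : ↥(Subgroup.center G)) : G)
      rw [OneMemClass.coe_one, OneMemClass.coe_one]
      group
    · intro g h
      apply Subtype.ext
      show ((g * h : ↥T) : G) * y * ((g * h : ↥T) : G)⁻¹ * y⁻¹ =
        ((g : G) * y * (g : G)⁻¹ * y⁻¹) * ((h : G) * y * (h : G)⁻¹ * y⁻¹)
      have h1 := hzc h h.2 (g : G)
      rw [Subgroup.coe_mul]
      calc (g : G) * h * y * ((g : G) * h)⁻¹ * y⁻¹
          = ((g : G) * ((h : G) * y * (h : G)⁻¹ * y⁻¹)) * y * (g : G)⁻¹ * y⁻¹ := by group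
        _ = (((h : G) * y * (h : G)⁻¹ * y⁻¹) * g) * y * (g : G)⁻¹ * y⁻¹ := by rw [h1]
        _ = ((h : G) * y * (h : G)⁻¹ * y⁻¹) * ((g : G) * y * (g : G)⁻¹ * y⁻¹) := by group
        _ = _ := (hzc h h.2 _).symm
  have hker : ∀ g : ↥T, ψ g = 1 ↔ (g : G) ∈ Cen y := by
    intro g
    rw [Subtype.ext_iff, hψ, OneMemClass.coe_one, Subgroup.mem_centralizer_iff]
    constructor
    · intro h x hx
      rw [Set.mem_singleton_iff] at hx
      subst hx
      have h1 : (g : G) * x * (g : G)⁻¹ = x := by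
        have h2 := congrArg (fun w => w * x) h
        simpa using h2
      have h3 : (g : G) * x = x * g := by
        calc (g : G) * x = ((g : G) * x * (g : G)⁻¹) * g := by group
          _ = x * g := by rw [h1]
      exact h3.symm
    · intro h
      have h1 : y * (g : G) = g * y := h y rfl
      rw [← h1]
      group
  have hpow : ∀ g : ↥T, ψ g ^ t = 1 := by
    intro g
    apply Subtype.ext
    rw [SubmonoidClass.coe_pow, hψ, OneMemClass.coe_one]
    have hcm : Commute ((g : G) * y * (g : G)⁻¹ * y⁻¹) y := (hzc g g.2 y).symm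
    have h1 : ((g : G) * y * (g : G)⁻¹ * y⁻¹) * y = (g : G) * y * (g : G)⁻¹ := by group
    have h2 : ((g : G) * y * (g : G)⁻¹) ^ t = y ^ t := by
      rw [conj_pow]
      have h3 := Subgroup.mem_center_iff.mp hyt (g : G)
      rw [h3]
      group
    have h4 : ((g : G) * y * (g : G)⁻¹ * y⁻¹) ^ t * y ^ t = 1 * y ^ t := by
      rw [← hcm.mul_pow, h1, h2, one_mul]
    exact mul_right_cancel h4
  -- an element outside the centralizer
  obtain ⟨g, hg1⟩ : ∃ g : ↥T, ψ g ≠ 1 := by
    by_contra hall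
    push Not at hall
    have h1 : T ≤ Cen y := fun x hx => (hker ⟨x, hx⟩).mp (hall ⟨x, hx⟩)
    exact hnd ((Subgroup.relIndex_eq_one.mpr h1) ▸ one_dvd t)
  -- a second, independent one
  obtain ⟨h, hh⟩ : ∃ h : ↥T, ∀ j : ℕ, ψ h ≠ ψ g ^ j := by
    by_contra hall
    push Not at hall
    have hk : ψ.ker = (Cen y).subgroupOf T := by
      ext x
      rw [MonoidHom.mem_ker, hker, Subgroup.mem_subgroupOf]
    have h1 : (Cen y).relIndex T = Nat.card ψ.range := by
      unfold Subgroup.relIndex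
      rw [← hk, Subgroup.index_ker]
    have h2 : ψ.range ≤ Subgroup.zpowers (ψ g) := by
      rintro _ ⟨x, rfl⟩
      obtain ⟨j, hj⟩ := hall x
      rw [hj]
      exact Subgroup.pow_mem _ (Subgroup.mem_zpowers _) j
    have h3 : Nat.card (Subgroup.zpowers (ψ g)) ∣ t := by
      rw [Nat.card_zpowers]
      exact orderOf_dvd_of_pow_eq_one (hpow g)
    exact hnd (h1 ▸ (Subgroup.card_dvd_of_le h2).trans h3)
  have hog : orderOf (ψ g) = t := by
    rcases (Nat.dvd_prime ht).mp (orderOf_dvd_of_pow_eq_one (hpow g)) with h1 | h1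
    · exact absurd (orderOf_eq_one_iff.mp h1) hg1
    · exact h1
  have hindep : ∀ a b : ZMod t, (a ≠ 0 ∨ b ≠ 0) → ψ g ^ a.val * ψ h ^ b.val ≠ 1 := by
    intro a b hab heq
    by_cases hb : b = 0
    · subst hb
      have ha : a ≠ 0 := hab.resolve_right (fun h' => h' rfl)
      rw [ZMod.val_zero, pow_zero, mul_one] at heq
      have h1 := orderOf_dvd_of_pow_eq_one heq
      rw [hog] at h1
      have h2 := Nat.le_of_dvd (Nat.pos_of_ne_zero ((ZMod.val_ne_zero a).mpr ha)) h1
      exact absurd (ZMod.val_lt a) (not_lt.mpr h2)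
    · have hbt : (b.val).Coprime t := by
        rw [Nat.coprime_comm, Nat.Prime.coprime_iff_not_dvd ht]
        intro hd
        exact absurd (Nat.le_of_dvd (Nat.pos_of_ne_zero ((ZMod.val_ne_zero b).mpr hb)) hd)
          (not_le.mpr (ZMod.val_lt b))
      have hbc : (b.val).Coprime (orderOf (ψ h)) :=
        Nat.Coprime.coprime_dvd_right (orderOf_dvd_of_pow_eq_one (hpow h)) hbt
      obtain ⟨m, hm⟩ := exists_pow_eq_self_of_coprime hbc
      have h3 : ψ g ^ ((t - 1) * a.val) * ψ g ^ a.val = 1 := by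
        have e1 : (t - 1) * a.val + a.val = t * a.val := by
          calc (t - 1) * a.val + a.val = (t - 1 + 1) * a.val := by ring
            _ = t * a.val := by rw [Nat.sub_add_cancel ht.pos]
        rw [← pow_add, e1, pow_mul, hpow, one_pow]
      have h4 : ψ h ^ b.val = (ψ g ^ a.val)⁻¹ := eq_inv_of_mul_eq_one_right heq
      have h2 : ψ h ^ b.val = ψ g ^ ((t - 1) * a.val) := by
        rw [h4]
        exact (eq_inv_of_mul_eq_one_left h3).symm
      apply hh ((t - 1) * a.val * m)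
      rw [← hm, h2, ← pow_mul]
  -- the action on `U`
  letI : CommGroup ↥U :=
    { (inferInstance : Group ↥U) with
      mul_comm := fun a b => Subtype.ext (hUab a a.2 b b.2) }
  have hcentT : ∀ x : ↥T, ψ x = 1 → ∀ v : ↥U, (x : G) * v * (x : G)⁻¹ = (v : G) := by
    intro x hx v
    have h1 := hcen x x.2 ((hker x).mp hx) v v.2
    rw [h1]
    group
  have hgN : (g : G) ∈ Subgroup.normalizer (U : Set G) := hTU g.2
  have hhN : (h : G) ∈ Subgroup.normalizer (U : Set G) := hTU h.2
  have hcomm' : ftabs_helper14_conj U ⟨g, hgN⟩ * ftabs_helper14_conj U ⟨h, hhN⟩ =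
      ftabs_helper14_conj U ⟨h, hhN⟩ * ftabs_helper14_conj U ⟨g, hgN⟩ := by
    rw [← map_mul, ← map_mul]
    refine MonoidHom.ext fun v => Subtype.ext ?_
    show (g : G) * h * v * ((g : G) * h)⁻¹ = (h : G) * g * v * ((h : G) * g)⁻¹
    have hk1 : ψ ((h * g)⁻¹ * (g * h)) = 1 := by
      have hc0 : ψ h * ψ g = ψ g * ψ h :=
        Subtype.ext (Subgroup.mem_center_iff.mp (ψ g).2 (ψ h : G))
      rw [map_mul, map_inv, map_mul, map_mul, hc0, inv_mul_cancel]
    have hk2 := hcentT ((h * g)⁻¹ * (g * h)) hk1 v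
    have hk3 : (((h * g)⁻¹ * (g * h) : ↥T) : G) = ((h : G) * g)⁻¹ * ((g : G) * h) := by
      simp
    rw [hk3] at hk2
    calc (g : G) * h * v * ((g : G) * h)⁻¹
        = ((h : G) * g) * (((h : G) * g)⁻¹ * ((g : G) * h) * v *
            (((h : G) * g)⁻¹ * ((g : G) * h))⁻¹) * ((h : G) * g)⁻¹ := by group
      _ = (h : G) * g * v * ((h : G) * g)⁻¹ := by rw [hk2]
  have hpowT : ∀ x : ↥T, ∀ hx : (x : G) ∈ Subgroup.normalizer (U : Set G),
      ftabs_helper14_conj U ⟨x, hx⟩ ^ t = 1 := by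
    intro x hx
    rw [← map_pow]
    refine MonoidHom.ext fun v => Subtype.ext ?_
    show (((⟨x, hx⟩ : ↥(Subgroup.normalizer (U : Set G))) ^ t :
        ↥(Subgroup.normalizer (U : Set G))) : G) * v *
      (((⟨x, hx⟩ : ↥(Subgroup.normalizer (U : Set G))) ^ t :
        ↥(Subgroup.normalizer (U : Set G))) : G)⁻¹ = (v : G)
    rw [SubmonoidClass.coe_pow]
    show ((x : G) ^ t) * v * ((x : G) ^ t)⁻¹ = (v : G)
    have h1 : ψ (x ^ t) = 1 := by rw [map_pow, hpow]
    have h2 := hcentT (x ^ t) h1 v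
    rwa [SubmonoidClass.coe_pow] at h2
  have key := ftabs_helper14_norm (A := ↥U) t (ftabs_helper14_conj U ⟨g, hgN⟩)
    (ftabs_helper14_conj U ⟨h, hhN⟩) hcomm' (hpowT g hgN) (hpowT h hhN) hcop (U0.subgroupOf U)
    (by
      intro a b hab v hv
      rw [← map_pow, ← map_pow, ← map_mul] at hv
      have hv' := congrArg Subtype.val hv
      have hcoe : (((⟨g, hgN⟩ : ↥(Subgroup.normalizer (U : Set G))) ^ a.val *
          (⟨h, hhN⟩ : ↥(Subgroup.normalizer (U : Set G))) ^ b.val :
          ↥(Subgroup.normalizer (U : Set G))) : G) = ((g ^ a.val * h ^ b.val : ↥T) : G) := by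
        rw [Subgroup.coe_mul, SubmonoidClass.coe_pow, SubmonoidClass.coe_pow, Subgroup.coe_mul,
          SubmonoidClass.coe_pow, SubmonoidClass.coe_pow]
      have hv'' : (((⟨g, hgN⟩ : ↥(Subgroup.normalizer (U : Set G))) ^ a.val *
          (⟨h, hhN⟩ : ↥(Subgroup.normalizer (U : Set G))) ^ b.val :
          ↥(Subgroup.normalizer (U : Set G))) : G) * v *
          (((⟨g, hgN⟩ : ↥(Subgroup.normalizer (U : Set G))) ^ a.val *
          (⟨h, hhN⟩ : ↥(Subgroup.normalizer (U : Set G))) ^ b.val :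
          ↥(Subgroup.normalizer (U : Set G))) : G)⁻¹ = (v : G) := hv'
      rw [hcoe] at hv''
      have hx : ((g ^ a.val * h ^ b.val : ↥T) : G) ∉ Cen y := by
        intro hmem
        have h1 := (hker (g ^ a.val * h ^ b.val)).mpr hmem
        rw [map_mul, map_pow, map_pow] at h1
        exact hindep a b hab h1
      have hv2 : ((g ^ a.val * h ^ b.val : ↥T) : G) * v = v * ((g ^ a.val * h ^ b.val : ↥T) : G) := by
        have h5 : ((g ^ a.val * h ^ b.val : ↥T) : G) * v * ((g ^ a.val * h ^ b.val : ↥T) : G)⁻¹ =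
            (v : G) := hv''
        calc ((g ^ a.val * h ^ b.val : ↥T) : G) * v
            = (((g ^ a.val * h ^ b.val : ↥T) : G) * v * ((g ^ a.val * h ^ b.val : ↥T) : G)⁻¹) *
                ((g ^ a.val * h ^ b.val : ↥T) : G) := by group
          _ = v * ((g ^ a.val * h ^ b.val : ↥T) : G) := by rw [h5]
      exact Subgroup.mem_subgroupOf.mpr
        (hfix _ (g ^ a.val * h ^ b.val : ↥T).2 hx v v.2 hv2))
  have hle : U ≤ U0 := fun v hv => Subgroup.mem_subgroupOf.mp (key ⟨v, hv⟩)
  exact hne (le_antisymm hU0U hle)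

end Cfsg.Agent.Lib.Helper4.TP
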